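import Groth.Agent.DualCx.Local

/-!
Consequences of the dimension function.
-/

set_option autoImplicit false
set_option maxHeartbeats 1000000
universe u

namespace Groth.Agent.DualCx

open CategoryTheory Limits DerivedCategory Pretriangulated IsLocalRing

attribute [local instance] HasDerivedCategory.standard

noncomputable section

variable {A : Type u} [CommRing A] [IsNoetherianRing A] {ω : Dual.D A}

/-- The module `A` localized is the localization. -/
theorem nonempty_localized_self (q : Ideal A) [q.IsPrime] :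
    Nonempty (LocalizedModule q.primeCompl A ≃ₗ[Localization.AtPrime q] Localization.AtPrime q) :=
  ⟨(IsLocalizedModule.linearEquiv q.primeCompl (LocalizedModule.mkLinearMap q.primeCompl A)
    (Algebra.linearMap A (Localization.AtPrime q))).extendScalarsOfIsLocalization q.primeCompl _⟩

theorem isCohenMacaulayLocalRing_iff (hω : Dual.IsDualizing A ω) (q : PrimeSpectrum A) :
    LocCoh.IsCohenMacaulayLocalRing (Localization.AtPrime q.asIdeal) ↔
      ∀ i i' : ℤ, ¬ Van ω q.asIdeal A i → ¬ Van ω q.asIdeal A i' → i = i' := by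
  obtain ⟨e⟩ := nonempty_localized_self q.asIdeal
  rw [← isCohenMacaulay_iff hω q]
  haveI : Nontrivial (LocalizedModule q.asIdeal.primeCompl A) := e.toEquiv.nontrivial
  rw [or_iff_right (not_subsingleton _), LocCoh.IsCohenMacaulayModule, Module.supportDim_eq_of_equiv e,
    show LocCoh.depth (Localization.AtPrime q.asIdeal) (LocalizedModule q.asIdeal.primeCompl A) = _ from
      LocH.idealDepth_congr e _]
  exact ⟨fun h => h.supportDim_eq_depth, fun h => ⟨h⟩⟩

theorem isOpen_cm (hω : Dual.IsDualizing A ω) (M : Type u) [AddCommGroup M] [Module A M] [Module.Finite A M] :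
    IsOpen {q : PrimeSpectrum A | ∀ i i' : ℤ, ¬ Van ω q.asIdeal M i → ¬ Van ω q.asIdeal M i' → i = i'} := by
  obtain ⟨a, b, hab⟩ := exists_bound hω
  let P := ((Finset.Icc a b) ×ˢ (Finset.Icc a b)).filter fun x => x.1 ≠ x.2
  have heq : {q : PrimeSpectrum A | ∀ i i' : ℤ, ¬ Van ω q.asIdeal M i → ¬ Van ω q.asIdeal M i' → i = i'}ᶜ =
      ⋃ x ∈ (P : Set (ℤ × ℤ)), Module.support A (T ω M x.1) ∩ Module.support A (T ω M x.2) := by
    ext q
    simp only [Set.mem_compl_iff, Set.mem_ofPred_eq, Set.mem_iUnion, Set.mem_inter_iff, mem_support_iff_not_van,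
      not_forall, P, Finset.coe_filter, Finset.mem_product, Finset.mem_Icc, exists_prop, Prod.exists]
    constructor
    · rintro ⟨i, i', hi, hi', hne⟩
      have hb : ∀ j, ¬ Van ω q.asIdeal M j → a ≤ j ∧ j ≤ b := fun j hj => by
        by_contra h; exact hj (van_of_subsingleton q.isPrime.ne_top (hab M j (by lia)))
      exact ⟨i, i', ⟨⟨hb i hi, hb i' hi'⟩, hne⟩, hi, hi'⟩
    · rintro ⟨i, i', ⟨-, hne⟩, hi, hi'⟩
      exact ⟨i, i', hi, hi', hne⟩
  rw [← isClosed_compl_iff, heq]
  refine P.finite_toSet.isClosed_biUnion fun x _ => IsClosed.inter ?_ ?_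
  · haveI := finite_T hω M x.1
    rw [Module.support_eq_zeroLocus]; exact PrimeSpectrum.isClosed_zeroLocus _
  · haveI := finite_T hω M x.2
    rw [Module.support_eq_zeroLocus]; exact PrimeSpectrum.isClosed_zeroLocus _

theorem eq_of_not_van_minimal (hω : Dual.IsDualizing A ω) {M : Type u} [AddCommGroup M] [Module A M] [Module.Finite A M]
    {p : PrimeSpectrum A} (hmin : ∀ r ∈ Module.support A M, r ≤ p → r = p) {i : ℤ} (h : ¬ Van ω p.asIdeal M i) :
    i = -del hω p := by
  obtain ⟨r, hr, hrp, h1, h2⟩ := exists_of_not_van hω h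
  rw [hmin r hr hrp] at h1
  lia

theorem subset_closure_cm (hω : Dual.IsDualizing A ω) (M : Type u) [AddCommGroup M] [Module A M] [Module.Finite A M] :
    Module.support A M ⊆ closure ({q : PrimeSpectrum A | ∀ i i' : ℤ, ¬ Van ω q.asIdeal M i → ¬ Van ω q.asIdeal M i' → i = i'}
      ∩ Module.support A M) := by
  intro q hq
  haveI := wellFoundedLT_spec (A := A)
  obtain ⟨p, ⟨hp, hpq⟩, hmin⟩ := (wellFounded_lt (α := PrimeSpectrum A)).has_min
    {p | p ∈ Module.support A M ∧ p ≤ q} ⟨q, hq, le_rfl⟩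
  have hmin' : ∀ r ∈ Module.support A M, r ≤ p → r = p := fun r hr hrp =>
    hrp.eq_of_not_lt fun h => hmin r ⟨hr, hrp.trans hpq⟩ h
  exact ((PrimeSpectrum.le_iff_specializes p q).1 hpq).mem_closed isClosed_closure
    (subset_closure ⟨fun i i' hi hi' => by
      rw [eq_of_not_van_minimal hω hmin' hi, eq_of_not_van_minimal hω hmin' hi'], hp⟩)

theorem nontrivial_hd_minimal_iff (hω : Dual.IsDualizing A ω) (p : Ideal A) (hp : p ∈ minimalPrimes A) (i : ℤ) :
    Nontrivial (LocalizedModule (Ideal.primeCompl p (hp := hp.1.1)) (Dual.HD A ω i)) ↔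
      i = -del hω ⟨p, hp.1.1⟩ := by
  haveI := hp.1.1
  rw [← not_subsingleton_iff_nontrivial, ← van_self_iff]
  have hmin : ∀ r ∈ Module.support A A, r ≤ (⟨p, hp.1.1⟩ : PrimeSpectrum A) → r = ⟨p, hp.1.1⟩ := fun r _ hr =>
    PrimeSpectrum.ext (le_antisymm hr (hp.2 ⟨r.isPrime, bot_le⟩ hr))
  refine ⟨eq_of_not_van_minimal (p := ⟨p, hp.1.1⟩) hω hmin, fun h => h ▸ not_van_minimal hω ?_ hmin⟩
  rw [Module.support_eq_zeroLocus, Module.annihilator_eq_bot.2 inferInstance]
  exact fun x hx => by rw [(Submodule.mem_bot A).1 hx]; exact p.zero_mem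

variable [IsLocalRing A] (hω : Dual.IsDualizing A ω) (hn : Dual.IsNormalized A ω)
include hω hn

theorem depth_eq_iff_local (M : Type u) [AddCommGroup M] [Module A M] [Module.Finite A M] (n : ℕ) :
    LocCoh.depth A M = n ↔
      (∀ δ : ℕ, δ < n → Subsingleton (T ω M (-(δ : ℤ)))) ∧ Nontrivial (T ω M (-(n : ℤ))) := by
  rw [depth_eq_localized, depth_eq_iff hω, del_closed hω hn]
  simp only [neg_zero, zero_sub]
  rw [nontrivial_iff_not_van]
  simp only [← van_maximal_iff]
  rfl

theorem mem_bounds {M : Type u} [AddCommGroup M] [Module A M] [Module.Finite A M] (d : ℕ)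
    (hd : Module.supportDim A M ≤ (d : WithBot ℕ∞)) {i : ℤ} (h : Nontrivial (T ω M i)) : -(d : ℤ) ≤ i ∧ i ≤ 0 := by
  rw [nontrivial_iff_not_van] at h
  obtain ⟨p, hp, hle, h1, h2⟩ := exists_of_not_van (q := closedPoint A) hω h
  rw [del_closed hω hn] at h2
  rw [← supportDim_eq_localized, supportDim_localized_le_iff hω] at hd
  have := hd p hp hle
  rw [del_closed hω hn] at this
  lia

theorem supportDim_T_le {M : Type u} [AddCommGroup M] [Module A M] [Module.Finite A M] (i : ℤ) :
    Module.supportDim A (T ω M i) ≤ ((-i).toNat : WithBot ℕ∞) := by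
  rw [supportDim_maximal, krullDim_le_iff hω (fun _ _ h ha => Module.mem_support_mono h ha)]
  intro q hq _
  rw [mem_support_iff_not_van] at hq
  obtain ⟨p, -, -, -, h2⟩ := exists_of_not_van hω hq
  rw [del_closed hω hn]
  lia

theorem exists_top {M : Type u} [AddCommGroup M] [Module A M] [Module.Finite A M] [Nontrivial M] :
    ∃ d : ℕ, Module.supportDim A M = (d : WithBot ℕ∞) ∧ Nontrivial (T ω M (-(d : ℤ))) := by
  have hq : closedPoint A ∈ Module.support A M := by
    obtain ⟨p, hp⟩ := Module.nonempty_support_of_nontrivial (R := A) (M := M)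
    exact Module.mem_support_mono (show p.asIdeal ≤ maximalIdeal A from le_maximalIdeal p.isPrime.ne_top) hp
  obtain ⟨d, hd, hv, -⟩ := exists_max hω hq
  refine ⟨d, (supportDim_eq_localized M).symm.trans hd, ?_⟩
  rw [del_closed hω hn, neg_zero, zero_sub] at hv
  exact (nontrivial_iff_not_van _).2 hv

theorem isCohenMacaulay_iff_local {M : Type u} [AddCommGroup M] [Module A M] [Module.Finite A M] [Nontrivial M]
    (d : ℕ) (hd : Module.supportDim A M = d) :
    LocCoh.IsCohenMacaulayModule A M ↔ ∀ i : ℤ, i ≠ d → Subsingleton (T ω M (-i)) := by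
  obtain ⟨d', hd', htop⟩ := exists_top hω hn (M := M)
  obtain rfl : d' = d := by exact_mod_cast hd'.symm.trans hd
  rw [LocCoh.IsCohenMacaulayModule, hd]
  constructor
  · intro h
    have h' : LocCoh.depth A M = (d' : ℕ∞) := (WithBot.coe_inj.1 h).symm
    obtain ⟨hlt, -⟩ := (depth_eq_iff_local hω hn M d').1 h'
    intro i hi
    by_contra hns
    have := mem_bounds hω hn d' hd.le (not_subsingleton_iff_nontrivial.1 hns)
    have := hlt i.toNat (by lia)
    rw [show -((i.toNat : ℤ)) = -i by lia] at this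
    exact hns this
  · intro h
    have h' := (depth_eq_iff_local hω hn M d').2 ⟨fun δ hδ => h _ (by lia), htop⟩
    rw [h']; rfl

theorem exists_mem_support_iff (M : Type u) [AddCommGroup M] [Module A M] [Module.Finite A M] (i : ℕ) (p : PrimeSpectrum A) :
    (∃ j : ℕ, j ≤ i ∧ p ∈ Module.support A (T ω M (-(j : ℤ)))) ↔
      ((LocCoh.depth (Localization.AtPrime p.asIdeal) (LocalizedModule p.asIdeal.primeCompl M) : ℕ∞) : WithBot ℕ∞) +
        ringKrullDim (A ⧸ p.asIdeal) ≤ (i : WithBot ℕ∞) := by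
  have hd0 : 0 ≤ del hω p := by
    have := del_le hω (show p ≤ closedPoint A from show p.asIdeal ≤ maximalIdeal A from le_maximalIdeal p.isPrime.ne_top)
    rwa [del_closed hω hn] at this
  obtain ⟨e, he⟩ : ∃ e : ℕ, del hω p = e := ⟨(del hω p).toNat, by lia⟩
  rw [ringKrullDim_quotient_eq hω hn, he, Int.toNat_natCast]
  simp only [mem_support_iff_not_van]
  have key : ((LocCoh.depth (Localization.AtPrime p.asIdeal) (LocalizedModule p.asIdeal.primeCompl M) : ℕ∞) : WithBot ℕ∞) +
      (e : WithBot ℕ∞) ≤ (i : WithBot ℕ∞) ↔ e ≤ i ∧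
        LocCoh.depth (Localization.AtPrime p.asIdeal) (LocalizedModule p.asIdeal.primeCompl M) ≤ ((i - e : ℕ) : ℕ∞) := by
    generalize LocCoh.depth (Localization.AtPrime p.asIdeal) (LocalizedModule p.asIdeal.primeCompl M) = x
    rw [show (e : WithBot ℕ∞) = ((e : ℕ∞) : WithBot ℕ∞) from rfl, ← WithBot.coe_add,
      show (i : WithBot ℕ∞) = ((i : ℕ∞) : WithBot ℕ∞) from rfl, WithBot.coe_le_coe]
    induction x with
    | top => simp
    | coe n => norm_cast; lia
  rw [key, depth_le_iff hω, he]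
  constructor
  · rintro ⟨j, hj, hv⟩
    obtain ⟨r, -, -, -, h2⟩ := exists_of_not_van hω hv
    refine ⟨by lia, j - e, by lia, ?_⟩
    rwa [show -(e : ℤ) - ((j - e : ℕ) : ℤ) = -(j : ℤ) by lia]
  · rintro ⟨hei, j, hj, hv⟩
    exact ⟨j + e, by lia, by rwa [show -((j + e : ℕ) : ℤ) = -(e : ℤ) - (j : ℤ) by lia]⟩

end

end Groth.Agent.DualCx

namespace Groth.Agent.DualCx

open CategoryTheory Limits DerivedCategory

attribute [local instance] HasDerivedCategory.standard

theorem subsingleton_hd_inD {A : Type u} [CommRing A] (W : Type u) [AddCommGroup W] [Module A W] {j : ℤ} (hj : j ≠ 0) :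
    Subsingleton (Dual.HD A (Dual.inD A W) j) := by
  refine ModuleCat.subsingleton_of_isZero ?_
  rcases lt_or_gt_of_ne hj with h | h
  · exact (DerivedCategory.isGE_iff _ 0).1 inferInstance j h
  · exact (DerivedCategory.isLE_iff _ 0).1 inferInstance j h

end Groth.Agent.DualCx
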