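import Groth.Agent.DualCx.Depth
import Groth.Agent.LocH.AdjDepthChange

/-!
Normalized dualizing complexes over local rings.
-/

set_option autoImplicit false
set_option maxHeartbeats 1000000
universe u v

namespace Groth.Agent.DualCx

open CategoryTheory Limits DerivedCategory Pretriangulated IsLocalRing

attribute [local instance] HasDerivedCategory.standard

noncomputable section

variable {A : Type u} [CommRing A] {ω : Dual.D A}

theorem mem_support_iff_not_van {M : Type u} [AddCommGroup M] [Module A M] (q : PrimeSpectrum A) (i : ℤ) :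
    q ∈ Module.support A (T ω M i) ↔ ¬ Van ω q.asIdeal M i := by
  rw [van_iff, Module.mem_support_iff, not_subsingleton_iff_nontrivial]

theorem nontrivial_localized_iff {M : Type u} [AddCommGroup M] [Module A M] (p : Ideal A) [p.IsPrime] (i : ℤ) :
    Nontrivial (LocalizedModule p.primeCompl (T ω M i)) ↔ ¬ Van ω p M i := by
  rw [van_iff, not_subsingleton_iff_nontrivial]

theorem van_self_iff (p : Ideal A) [p.IsPrime] (i : ℤ) :
    Van ω p A i ↔ Subsingleton (LocalizedModule p.primeCompl (Dual.HD A ω i)) := by
  rw [LocalizedModule.subsingleton_iff]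
  refine ⟨fun h w => ?_, fun h x => ?_⟩
  · obtain ⟨u, hu, hux⟩ := h ((homEquiv ω i).symm w)
    exact ⟨u, hu, (homEquiv ω i).symm.injective (by rw [map_smul, hux, map_zero])⟩
  · obtain ⟨u, hu, hux⟩ := h (homEquiv ω i x)
    exact ⟨u, hu, (homEquiv ω i).injective (by rw [map_smul, hux, map_zero])⟩

variable [IsLocalRing A]

theorem van_maximal_iff {M : Type u} [AddCommGroup M] [Module A M] (i : ℤ) :
    Van ω (maximalIdeal A) M i ↔ Subsingleton (T ω M i) := by
  refine ⟨fun h => subsingleton_of_forall_eq 0 fun x => ?_, fun h => van_of_subsingleton (Ideal.IsPrime.ne_top inferInstance) h⟩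
  obtain ⟨u, hu, hux⟩ := h x
  exact (IsUnit.smul_eq_zero (not_not.1 hu)).1 hux

theorem nontrivial_iff_not_van {M : Type u} [AddCommGroup M] [Module A M] (i : ℤ) :
    Nontrivial (T ω M i) ↔ ¬ Van ω (maximalIdeal A) M i := by
  rw [van_maximal_iff, not_subsingleton_iff_nontrivial]

theorem supportDim_maximal (M : Type v) [AddCommGroup M] [Module A M] :
    Module.supportDim A M = Order.krullDim ↥{r : PrimeSpectrum A | r ∈ Module.support A M ∧ r ≤ closedPoint A} :=
  Order.krullDim_eq_of_orderIso
    { toFun := fun r => ⟨r.1, r.2, le_maximalIdeal r.1.isPrime.ne_top⟩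
      invFun := fun r => ⟨r.1, r.2.1⟩
      map_rel_iff' := Iff.rfl }

theorem supportDim_eq_localized (M : Type u) [AddCommGroup M] [Module A M] :
    Module.supportDim (Localization.AtPrime (closedPoint A).asIdeal) (LocalizedModule (closedPoint A).asIdeal.primeCompl M) =
      Module.supportDim A M := by
  rw [supportDim_localized_eq, supportDim_maximal]

variable [IsNoetherianRing A]

omit [IsNoetherianRing A] in
theorem isLocalizedModule_id (M : Type u) [AddCommGroup M] [Module A M] :
    IsLocalizedModule (maximalIdeal A).primeCompl (LinearMap.id : M →ₗ[A] M) where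
  map_units s := by
    have hs : IsUnit (s : A) := not_not.1 s.2
    obtain ⟨c, hc⟩ := hs.exists_left_inv
    exact (Module.End.isUnit_iff _).2 ⟨fun x y h => by
        have := congrArg (c • ·) h
        simpa [← mul_smul, hc] using this,
      fun y => ⟨c • y, by simp [← mul_smul, mul_comm _ c, hc]⟩⟩
  surj y := ⟨⟨y, 1⟩, by simp⟩
  exists_of_eq h := ⟨1, by simpa using h⟩

theorem depth_eq_localized (M : Type u) [AddCommGroup M] [Module A M] [Module.Finite A M] :
    LocCoh.depth A M = LocCoh.depth (Localization.AtPrime (closedPoint A).asIdeal)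
      (LocalizedModule (closedPoint A).asIdeal.primeCompl M) := by
  haveI := isLocalizedModule_id (A := A) M
  exact LocH.depth_eq_of_isLocalizedModule M (maximalIdeal A) A (fun x => not_not.1 x.2)
    (fun a => ⟨a, 1, by simp⟩) M LinearMap.id

variable (hω : Dual.IsDualizing A ω) (hn : Dual.IsNormalized A ω)
include hn

theorem del_closed : del hω (closedPoint A) = 0 := by
  by_contra h
  exact not_van_del hω (closedPoint A) ((van_maximal_iff _).2 (hn _ (by lia)))

theorem van_pos {M : Type u} [AddCommGroup M] [Module A M] [Module.Finite A M] (hω : Dual.IsDualizing A ω) {i : ℤ}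
    (hi : 0 < i) : Van ω (maximalIdeal A) M i :=
  van_gt (q := closedPoint A) hω (by rw [del_closed hω hn]; lia)

theorem ringKrullDim_quotient_eq (p : PrimeSpectrum A) :
    ringKrullDim (A ⧸ p.asIdeal) = ((del hω p).toNat : WithBot ℕ∞) := by
  have hp : p ∈ Module.support A (A ⧸ p.asIdeal) := by
    rw [Module.support_eq_zeroLocus, Ideal.annihilator_quotient, PrimeSpectrum.mem_zeroLocus]
  have hle : p ≤ closedPoint A := show p.asIdeal ≤ maximalIdeal A from le_maximalIdeal p.isPrime.ne_top
  have hc := del_closed hω hn
  have hsup : ∀ r : PrimeSpectrum A, r ∈ Module.support A (A ⧸ p.asIdeal) → p ≤ r := fun r hr => by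
    rwa [Module.support_eq_zeroLocus, Ideal.annihilator_quotient] at hr
  rw [← Module.supportDim_quotient_eq_ringKrullDim, ← supportDim_eq_localized]
  refine le_antisymm ((supportDim_localized_le_iff hω _ _ _).2 fun r hr _ => ?_)
    (le_supportDim_localized hω hp hle _ ?_)
  · have := del_le hω (hsup r hr); lia
  · have := del_le hω hle; lia

end

end Groth.Agent.DualCx
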