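import Groth.Agent.DualCx.Basic
import Mathlib.Algebra.Homology.DerivedCategory.Ext.EnoughProjectives
import Mathlib.CategoryTheory.Abelian.Injective.Dimension
import Mathlib.Algebra.Category.ModuleCat.Ext.HasExt

/-!
When is `A[0]` a dualizing complex?
-/

set_option autoImplicit false
set_option maxHeartbeats 1000000
universe u

namespace Groth.Agent.DualCx

open CategoryTheory Limits DerivedCategory Pretriangulated Abelian

attribute [local instance] HasDerivedCategory.standard

noncomputable section

variable {A : Type u} [CommRing A]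

theorem subsingleton_neg {M N : Type u} [AddCommGroup M] [Module A M] [AddCommGroup N] [Module A N] {i : ℤ}
    (hi : i < 0) : Subsingleton (Dual.inD A M ⟶ (Dual.inD A N)⟦i⟧) := by
  refine subsingleton_of_forall_eq 0 fun f => ?_
  exact DerivedCategory.TStructure.t.zero_of_isLE_of_isGE f 0 (-i) (by lia) inferInstance
    (DerivedCategory.TStructure.t.isGE_shift (Dual.inD A N) 0 i (-i) (by lia))

theorem subsingleton_iff_ext {M N : Type u} [AddCommGroup M] [Module A M] [AddCommGroup N] [Module A N] (n : ℕ) :
    Subsingleton (Dual.inD A M ⟶ (Dual.inD A N)⟦(n : ℤ)⟧) ↔ Subsingleton (Ext (ModuleCat.of A M) (ModuleCat.of A N) n) :=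
  (Ext.homEquiv (X := ModuleCat.of A M) (Y := ModuleCat.of A N) (n := n)).subsingleton_congr.symm

theorem finite_hd_inD (N : Type u) [AddCommGroup N] [Module A N] [Module.Finite A N] (i : ℤ) :
    Module.Finite A (Dual.HD A (Dual.inD A N) i) := by
  by_cases hi : i = 0
  · subst hi
    haveI : Module.Finite A ((𝟭 (ModuleCat.{u} A)).obj (ModuleCat.of A N)) := ‹Module.Finite A N›
    exact Module.Finite.equiv
      ((DerivedCategory.singleFunctorCompHomologyFunctorIso (ModuleCat.{u} A) 0).app (ModuleCat.of A N)).symm.toLinearEquiv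
  · haveI : Subsingleton (Dual.HD A (Dual.inD A N) i) := ModuleCat.subsingleton_of_isZero (by
      rcases lt_or_gt_of_ne hi with h | h
      · exact (DerivedCategory.isGE_iff _ 0).1 inferInstance i h
      · exact (DerivedCategory.isLE_iff _ 0).1 inferInstance i h)
    infer_instance

theorem isDualizing_self [IsNoetherianRing A] (n : ℕ) [HasInjectiveDimensionLT (ModuleCat.of A A) n] :
    Dual.IsDualizing A (Dual.inD A A) where
  isNoetherianRing := inferInstance
  finite_injective_dimension := by
    refine ⟨0, n, fun M _ _ i hi => ?_⟩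
    rcases hi with hi | hi
    · exact subsingleton_neg hi
    · lift i to ℕ using by lia
      exact (subsingleton_iff_ext i).2 (HasInjectiveDimensionLT.subsingleton _ n i (by exact_mod_cast hi.le) _)
  finite_cohomology := finite_hd_inD A
  toEnd_bijective := by
    let F := DerivedCategory.singleFunctor (ModuleCat.{u} A) 0
    have h : ∀ a : A, a • 𝟙 (F.obj (ModuleCat.of A A)) = F.map (a • 𝟙 (ModuleCat.of A A)) := fun a => by
      rw [Functor.map_smul, CategoryTheory.Functor.map_id]
    refine ⟨fun a b hab => ?_, fun f => ?_⟩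
    · have h1 := F.map_injective ((h a).symm.trans (hab.trans (h b)))
      have h2 := congrArg (fun g : ModuleCat.of A A ⟶ ModuleCat.of A A => g.hom (1 : A)) h1
      simpa using h2
    · obtain ⟨g, rfl⟩ := F.map_surjective f
      refine ⟨(g.hom (1 : A) : A), (h _).trans (congrArg F.map (ModuleCat.hom_ext (LinearMap.ext_ring ?_)))⟩
      simp
  ext_self_subsingleton i hi := by
    rcases lt_or_gt_of_ne hi with h | h
    · exact subsingleton_neg h
    · lift i to ℕ using h.le
      obtain ⟨k, rfl⟩ : ∃ k, i = k + 1 := ⟨i - 1, by lia⟩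
      haveI : Projective (ModuleCat.of A A) := (IsProjective.iff_projective _).1 inferInstance
      exact (subsingleton_iff_ext (k + 1)).2 (subsingleton_of_forall_eq 0 Ext.eq_zero_of_projective)

theorem exists_hasInjectiveDimensionLT (h : Dual.IsDualizing A (Dual.inD A A)) :
    ∃ n : ℕ, HasInjectiveDimensionLT (ModuleCat.of A A) n := by
  obtain ⟨a, b, hab⟩ := h.finite_injective_dimension
  refine ⟨(b + 1).toNat, HasInjectiveDimensionLT.mk fun i hi X e => ?_⟩
  haveI : Subsingleton (Ext X (ModuleCat.of A A) i) := (subsingleton_iff_ext (M := X) i).1 (hab X i (Or.inr (by lia)))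
  exact Subsingleton.elim _ _

end

end Groth.Agent.DualCx
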