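import Groth.Agent.DualCx.Basic
import Groth.Agent.DRingKP.InjAmp
import Mathlib.CategoryTheory.Linear.Yoneda
import Mathlib.Algebra.Homology.DerivedCategory.ShortExact
import Mathlib.Algebra.Category.ModuleCat.Injective

/-!
A bounded injective representative `J` of `ω` and the complexes `Hom(M, J)`.
-/

set_option autoImplicit false
set_option maxHeartbeats 1000000
universe u

namespace Groth.Agent.DualCx

open CategoryTheory Limits DerivedCategory Pretriangulated Opposite

attribute [local instance] HasDerivedCategory.standard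

noncomputable section

variable {A : Type u} [CommRing A]

/-- A bounded complex of injectives representing `ω`. -/
structure Rep (ω : Dual.D A) where
  J : CochainComplex (ModuleCat.{u} A) ℤ
  a : ℤ
  b : ℤ
  zero : ∀ i : ℤ, i < a ∨ b < i → IsZero (J.X i)
  inj : ∀ i : ℤ, Injective (J.X i)
  iso : DerivedCategory.Q.obj J ≅ ω

theorem nonempty_rep {ω : Dual.D A} (hω : Dual.IsDualizing A ω) : Nonempty (Rep ω) := by
  obtain ⟨a, b, hab⟩ := hω.finite_injective_dimension
  obtain ⟨J, hJ, hJi, ⟨e⟩⟩ := (DRingKP.injAmp_iff ω a b).2 fun I i hi => hab (A ⧸ I) i hi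
  exact ⟨⟨J, a, b, hJ, fun i => (Module.injective_iff_injective_object A (J.X i)).1 (hJi i), e⟩⟩

variable {ω : Dual.D A} (R : Rep ω)

theorem Rep.isKInjective : R.J.IsKInjective := by
  haveI := R.inj
  haveI : R.J.IsStrictlyGE R.a := (CochainComplex.isStrictlyGE_iff R.J R.a).2 fun j hj => R.zero j (Or.inl hj)
  exact CochainComplex.isKInjective_of_injective R.J R.a

/-- `Hom(M, -)` applied to `J`. -/
def Rep.D (M : Type u) [AddCommGroup M] [Module A M] : CochainComplex (ModuleCat.{u} A) ℤ :=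
  (((linearCoyoneda A (ModuleCat.{u} A)).obj (op (ModuleCat.of A M))).mapHomologicalComplex (ComplexShape.up ℤ)).obj R.J

variable {L M N : Type u} [AddCommGroup L] [Module A L] [AddCommGroup M] [Module A M] [AddCommGroup N] [Module A N]

/-- Functoriality of `Hom(-, J)`. -/
def Rep.dmap (f : M →ₗ[A] N) : R.D N ⟶ R.D M :=
  (NatTrans.mapHomologicalComplex ((linearCoyoneda A (ModuleCat.{u} A)).map (ModuleCat.ofHom f).op)
    (ComplexShape.up ℤ)).app R.J

theorem Rep.dmap_apply (f : M →ₗ[A] N) (n : ℤ) (φ : ModuleCat.of A N ⟶ R.J.X n) :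
    ((R.dmap f).f n).hom φ = ModuleCat.ofHom f ≫ φ := rfl

theorem Rep.dmap_comp (f : L →ₗ[A] M) (g : M →ₗ[A] N) : R.dmap (g.comp f) = R.dmap g ≫ R.dmap f :=
  HomologicalComplex.hom_ext _ _ fun n => ModuleCat.hom_ext (LinearMap.ext fun φ => by
    show ModuleCat.ofHom (g.comp f) ≫ φ = ModuleCat.ofHom f ≫ ModuleCat.ofHom g ≫ φ
    rw [ModuleCat.ofHom_comp, Category.assoc])

theorem Rep.isZero_D (M : Type u) [AddCommGroup M] [Module A M] (i : ℤ) (hi : i < R.a ∨ R.b < i) :
    IsZero ((R.D M).X i) :=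
  Functor.map_isZero ((linearCoyoneda A (ModuleCat.{u} A)).obj (op (ModuleCat.of A M))) (R.zero i hi)

/-- Evaluation at `m`. -/
def Rep.ev (m : M) : R.D M ⟶ R.J where
  f n := ModuleCat.ofHom
    { toFun := fun φ : (ModuleCat.of A M ⟶ R.J.X n) => φ.hom m
      map_add' := fun _ _ => rfl
      map_smul' := fun _ _ => rfl }
  comm' i j _ := ModuleCat.hom_ext (LinearMap.ext fun _ => rfl)

theorem Rep.ev_add (m m' : M) : R.ev (m + m') = R.ev m + R.ev m' :=
  HomologicalComplex.hom_ext _ _ fun n => ModuleCat.hom_ext (LinearMap.ext fun φ => φ.hom.map_add m m')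

theorem Rep.ev_smul (c : A) (m : M) : R.ev (c • m) = c • R.ev m :=
  HomologicalComplex.hom_ext _ _ fun n => ModuleCat.hom_ext (LinearMap.ext fun φ => φ.hom.map_smul c m)

theorem Rep.dmap_ev (f : M →ₗ[A] N) (m : M) : R.dmap f ≫ R.ev m = R.ev (f m) :=
  HomologicalComplex.hom_ext _ _ fun n => ModuleCat.hom_ext (LinearMap.ext fun _ => rfl)

/-- `Hom(A, J) ≅ J`. -/
theorem Rep.isIso_ev_one : IsIso (R.ev (1 : A)) := by
  haveI : ∀ n, IsIso ((R.ev (1 : A)).f n) := fun n => by
    haveI : Mono ((R.ev (1 : A)).f n) := (ModuleCat.mono_iff_injective _).2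
      fun (φ ψ : ModuleCat.of A A ⟶ R.J.X n) h => ModuleCat.hom_ext (LinearMap.ext_ring h)
    haveI : Epi ((R.ev (1 : A)).f n) := (ModuleCat.epi_iff_surjective _).2 fun (y : R.J.X n) =>
      ⟨(ModuleCat.ofHom (LinearMap.toSpanSingleton A (R.J.X n) y) : ModuleCat.of A A ⟶ R.J.X n),
        (show (1 : A) • y = y from one_smul A y)⟩
    exact isIso_of_mono_of_epi _
  exact HomologicalComplex.Hom.isIso_of_components (R.ev (1 : A))

variable {f : L →ₗ[A] M} {g : M →ₗ[A] N}

/-- The short complex `DN → DM → DL`. -/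
def Rep.dsc (h : SES f g) : ShortComplex (CochainComplex (ModuleCat.{u} A) ℤ) :=
  ShortComplex.mk (R.dmap g) (R.dmap f) (by
    rw [← R.dmap_comp, h.exact.linearMap_comp_eq_zero]
    exact HomologicalComplex.hom_ext _ _ fun n => ModuleCat.hom_ext (LinearMap.ext fun φ => by
      show ModuleCat.ofHom (0 : L →ₗ[A] N) ≫ φ = 0
      rw [show ModuleCat.ofHom (0 : L →ₗ[A] N) = 0 from rfl, zero_comp]))

theorem Rep.dsc_shortExact (h : SES f g) : (R.dsc h).ShortExact := by
  refine HomologicalComplex.shortExact_of_degreewise_shortExact _ fun n => ?_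
  haveI := R.inj n
  haveI : Module.Injective A (R.J.X n) := (Module.injective_iff_injective_object A _).2 (R.inj n)
  exact
    { exact := (ShortComplex.moduleCat_exact_iff _).2 fun (φ : ModuleCat.of A M ⟶ R.J.X n) hφ => by
        have h1 : φ.hom.comp f = 0 := congrArg ModuleCat.Hom.hom hφ
        let e := h.exact.linearEquivOfSurjective h.surj
        let F := (LinearMap.range f).liftQ φ.hom (by
          rintro _ ⟨l, rfl⟩; exact LinearMap.congr_fun h1 l)
        refine ⟨ModuleCat.ofHom (F.comp e.symm.toLinearMap), ModuleCat.hom_ext (LinearMap.ext fun (m : M) => ?_)⟩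
        show F (e.symm (g m)) = φ.hom m
        rw [show e.symm (g m) = Submodule.Quotient.mk m by
          rw [LinearEquiv.symm_apply_eq]; rfl]
        rfl
      mono_f := (ModuleCat.mono_iff_injective _).2 fun (φ ψ : ModuleCat.of A N ⟶ R.J.X n) hφ =>
        ModuleCat.hom_ext (LinearMap.ext fun y => by
          obtain ⟨m, rfl⟩ := h.surj y
          exact LinearMap.congr_fun (congrArg ModuleCat.Hom.hom hφ) m)
      epi_g := (ModuleCat.epi_iff_surjective _).2 fun (φ : ModuleCat.of A L ⟶ R.J.X n) => by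
        obtain ⟨ψ, hψ⟩ := Module.Injective.out (R := A) f h.inj φ.hom
        exact ⟨ModuleCat.ofHom ψ, ModuleCat.hom_ext (LinearMap.ext hψ)⟩ }

end

end Groth.Agent.DualCx
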