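import Groth.Agent.DualCx.Localize
import Groth.Agent.DualCx.Rep
import Groth.Agent.DRingKP.Coherent
import Groth.Prelude.Def_Wider

/-!
Localizations of dualizing complexes are dualizing, and being dualizing is local.
-/

set_option autoImplicit false
set_option linter.style.haveILetI false
set_option backward.isDefEq.respectTransparency false
set_option maxHeartbeats 1000000
universe u

namespace Groth.Agent.DualCx.Loc

open CategoryTheory Limits DerivedCategory HomologicalComplex DRingKP

attribute [local instance] HasDerivedCategory.standard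

noncomputable section

variable {A : Type u} [CommRing A]

theorem isDualizing_of_iso {ω ω' : Dual.D A} (e : ω ≅ ω') (h : Dual.IsDualizing A ω) : Dual.IsDualizing A ω' where
  isNoetherianRing := h.isNoetherianRing
  finite_injective_dimension := by
    obtain ⟨a, b, hab⟩ := h.finite_injective_dimension
    exact ⟨a, b, fun M _ _ i hi => @Equiv.subsingleton _ _
      (Iso.homCongr (Iso.refl (Dual.inD A M)) ((shiftFunctor (Dual.D A) i).mapIso e)).symm (hab M i hi)⟩
  finite_cohomology i := haveI := h.finite_cohomology i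
    Module.Finite.equiv ((DerivedCategory.homologyFunctor (ModuleCat.{u} A) i).mapIso e).toLinearEquiv
  toEnd_bijective := by
    have : (fun a : A => a • 𝟙 ω') = (Iso.homCongr e e) ∘ fun a : A => a • 𝟙 ω := funext fun a => by
      simp [Iso.homCongr]
    rw [this]
    exact (Iso.homCongr e e).bijective.comp h.toEnd_bijective
  ext_self_subsingleton i hi := @Equiv.subsingleton _ _
    (Iso.homCongr e ((shiftFunctor (Dual.D A) i).mapIso e)).symm (h.ext_self_subsingleton i hi)

theorem isPseudoCoherent'_of_bounded [IsNoetherianRing A] {K : Dual.D A} {b : ℤ}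
    (hb : ∀ i, b < i → Subsingleton (Dual.HD A K i)) (hfin : ∀ i, Module.Finite A (Dual.HD A K i)) :
    DRing.IsPseudoCoherent' A K :=
  (pc'_iff_coherent isCoh_of_noetherian ⟨b + 1, fun i hi =>
    haveI : Subsingleton ((DerivedCategory.homologyFunctor (ModuleCat.{u} A) i).obj K) := hb i (by lia)
    ModuleCat.isZero_of_subsingleton _⟩).2 fun i => haveI := hfin i; Module.finitePresentation_of_finite A _

theorem finitePresentation_X {E : DRing.Cx A} (hE : DRing.TermwiseFiniteFree E) (i : ℤ) :
    Module.FinitePresentation A (E.X i) :=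
  haveI := (hE i).1; haveI := (hE i).2; Module.finitePresentation_of_projective A _

variable {B : Type u} [CommRing B] [Algebra A B] (S : Submonoid A) [IsLocalization S B]

include S in
theorem isIso_Q_bc {P J : DRing.Cx A} (α : P ⟶ J) (h : IsIso (DerivedCategory.Q.map α)) :
    IsIso (DerivedCategory.Q.map ((bc (algebraMap A B)).map α)) := by
  haveI := (DerivedCategory.isIso_Q_map_iff_quasiIso _ α).1 h
  haveI : PreservesFiniteLimits (ModuleCat.extendScalars.{u, u, u} (algebraMap A B)) :=
    ModuleCat.preservesFiniteLimits_extendScalars_of_flat (flat S)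
  haveI : PreservesFiniteColimits (ModuleCat.extendScalars.{u, u, u} (algebraMap A B)) := inferInstance
  haveI : QuasiIso ((bc (algebraMap A B)).map α) := inferInstance
  infer_instance

theorem bc_map_smul {P J : DRing.Cx A} (x : A) (α : P ⟶ J) :
    (bc (algebraMap A B)).map (x • α) = algebraMap A B x • (bc (algebraMap A B)).map α :=
  HomologicalComplex.hom_ext _ _ fun i => map_smul' x (α.f i)

theorem Q_bc_congr {P J : DRing.Cx A} [J.IsKInjective] {g h : P ⟶ J}
    (e : DerivedCategory.Q.map g = DerivedCategory.Q.map h) :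
    DerivedCategory.Q.map ((bc (algebraMap A B)).map g) = DerivedCategory.Q.map ((bc (algebraMap A B)).map h) := by
  obtain ⟨ho⟩ := exists_homotopy_inj (g - h) (by rw [Functor.map_sub, e, sub_self])
  have := DerivedCategory.Q_map_eq_of_homotopy _ ((ModuleCat.extendScalars.{u, u, u} (algebraMap A B)).mapHomotopy ho)
  rw [Functor.map_zero, Functor.map_zero, Functor.map_sub, Functor.map_sub, sub_eq_zero] at this
  exact this

variable [IsNoetherianRing A]

include S in
theorem isDualizing_bc (J : DRing.Cx A) (a b : ℤ) (hz : ∀ i : ℤ, i < a ∨ b < i → IsZero (J.X i))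
    (hinj : ∀ i, Injective (J.X i)) (h : Dual.IsDualizing A (DRing.toD J)) :
    Dual.IsDualizing B (DRing.toD ((bc (algebraMap A B)).obj J)) := by
  haveI := hinj
  haveI : IsNoetherianRing B := IsLocalization.isNoetherianRing S B ‹_›
  have ha : ∀ i : ℤ, i < a → IsZero (J.X i) := fun i hi => hz i (Or.inl hi)
  haveI : J.IsStrictlyGE a := (CochainComplex.isStrictlyGE_iff J a).2 ha
  haveI := CochainComplex.isKInjective_of_injective J a
  have hpc : DRing.IsPseudoCoherent' A (DRing.toD J) := isPseudoCoherent'_of_bounded (b := b) (fun i hi => by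
    exact ModuleCat.subsingleton_of_isZero (((HomologicalComplex.exactAt_iff_isZero_homology _ _).1
      (ShortComplex.exact_of_isZero_X₂ _ (hz i (Or.inr hi)))).of_iso
        ((DerivedCategory.homologyFunctorFactors (ModuleCat.{u} A) i).app J))) h.finite_cohomology
  obtain ⟨E, c, hEb, hEf, ⟨e⟩⟩ := hpc
  obtain ⟨α, hα⟩ := exists_lift_inj e.hom
  have hP := finitePresentation_X hEf
  haveI hαi : IsIso (DerivedCategory.Q.map α) := hα ▸ inferInstance
  haveI := isIso_Q_bc (B := B) S α hαi
  let β := DerivedCategory.Q.map ((bc (algebraMap A B)).map α)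
  have hzB : ∀ i : ℤ, i < a ∨ b < i → IsZero (((bc (algebraMap A B)).obj J).X i) := fun i hi =>
    (ModuleCat.extendScalars.{u, u, u} (algebraMap A B)).map_isZero (hz i hi)
  have hfid : DRing.HasInjAmplitudeIn B a b (DRing.toD ((bc (algebraMap A B)).obj J)) :=
    ⟨_, hzB, fun i => haveI := hinj i; (Module.injective_iff_injective_object B _).2 (injective_map S (J.X i)),
      ⟨Iso.refl _⟩⟩
  refine ⟨inferInstance, ⟨a, b, fun M _ _ i hi => ext_eq_zero_of_amp hfid (ModuleCat.of B M) i hi⟩, fun i => ?_,
    ⟨fun x y hxy => ?_, fun f => ?_⟩, fun n hn => ?_⟩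
  · have h1 : DRing.IsPseudoCoherent B (i - 1) (DRing.toD ((bc (algebraMap A B)).obj J)) :=
      pc_bc_of_flat _ (flat S) J (i - 1) (pc_of_pc' ⟨E, c, hEb, hEf, ⟨e⟩⟩ (i - 1))
    haveI := (pc_finite_fp isCoh_of_noetherian h1).2 i (by lia)
    exact inferInstanceAs (Module.Finite B ((DerivedCategory.homologyFunctor (ModuleCat.{u} B) i).obj _))
  · obtain ⟨x', s, hx'⟩ := IsLocalization.exists_mk'_eq S (x - y)
    have h0 : (x - y) • β = 0 := by
      rw [show (x - y) • β = β ≫ ((x - y) • 𝟙 _) by simp, sub_smul, show x • 𝟙 _ = y • 𝟙 _ from hxy, sub_self,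
        comp_zero]
    have h1 : DerivedCategory.Q.map ((bc (algebraMap A B)).map (x' • α)) = 0 := by
      rw [bc_map_smul, Functor.map_smul, ← IsLocalization.mk'_spec B x' s, hx', mul_comm, mul_smul, h0, smul_zero]
    obtain ⟨t, ht⟩ := hom_kill S hP hEb ha hinj (x' • α) h1
    rw [Functor.map_smul, hα, smul_smul] at ht
    have h2 : ((t : A) * x') • 𝟙 (DRing.toD J) = 0 := by
      have := congrArg (e.inv ≫ ·) ht
      simpa using this
    have h3 : (t : A) * x' = 0 := h.toEnd_bijective.1 (h2.trans (zero_smul A _).symm)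
    rw [← sub_eq_zero, ← hx', IsLocalization.mk'_eq_zero_iff]
    exact ⟨t, h3⟩
  · obtain ⟨s, g, hg⟩ := hom_lift S hP hEb ha hinj (β ≫ f)
    obtain ⟨x, hx⟩ := h.toEnd_bijective.2 (e.inv ≫ DerivedCategory.Q.map g)
    have h1 : DerivedCategory.Q.map g = DerivedCategory.Q.map (x • α) := by
      rw [Functor.map_smul, hα]
      have := congrArg (e.hom ≫ ·) hx
      simpa using this.symm
    have h2 : algebraMap A B s • (β ≫ f) = algebraMap A B x • β := by
      rw [← hg, Q_bc_congr h1, bc_map_smul, Functor.map_smul]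
    obtain ⟨d, hd⟩ := (IsLocalization.map_units B s).exists_left_inv
    refine ⟨d * algebraMap A B x, (cancel_epi β).1 ?_⟩
    show β ≫ ((d * algebraMap A B x) • 𝟙 (DRing.toD ((bc (algebraMap A B)).obj J))) = β ≫ f
    rw [Linear.comp_smul, Category.comp_id, mul_smul, ← h2, smul_smul, hd, one_smul]
  · let Jn := (shiftFunctor (DRing.Cx A) n).obj J
    haveI : ∀ i, Injective (Jn.X i) := fun i => inferInstanceAs (Injective (J.X (i + n)))
    have ha' : ∀ i : ℤ, i < a - n → IsZero (Jn.X i) := fun i hi => ha (i + n) (by lia)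
    haveI : Jn.IsStrictlyGE (a - n) := (CochainComplex.isStrictlyGE_iff Jn _).2 ha'
    haveI := CochainComplex.isKInjective_of_injective Jn (a - n)
    haveI : Subsingleton (DRing.toD E ⟶ DRing.toD Jn) := @Equiv.subsingleton _ _
      (Iso.homCongr e ((DerivedCategory.Q.commShiftIso n).app J)) (h.ext_self_subsingleton n hn)
    let eb : (DRing.toD ((bc (algebraMap A B)).obj J))⟦n⟧ ≅ DRing.toD ((bc (algebraMap A B)).obj Jn) :=
      ((DerivedCategory.Q.commShiftIso n).app _).symm ≪≫
        DerivedCategory.Q.mapIso (((bc (algebraMap A B)).commShiftIso n).app J).symm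
    refine subsingleton_of_forall_eq 0 fun f => (cancel_mono eb.hom).1 ((cancel_epi β).1 ?_)
    rw [zero_comp, comp_zero]
    obtain ⟨s, g, hg⟩ := hom_lift S hP hEb ha' (fun i => inferInstance) (β ≫ f ≫ eb.hom)
    rw [Q_bc_congr (show DerivedCategory.Q.map g = DerivedCategory.Q.map 0 from Subsingleton.elim _ _),
      Functor.map_zero, Functor.map_zero] at hg
    obtain ⟨d, hd⟩ := (IsLocalization.map_units B s).exists_left_inv
    rw [← one_smul B (β ≫ f ≫ eb.hom), ← hd, mul_smul, ← hg, smul_zero]

include S in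
theorem lbIso [DRing.HasLBaseChange (algebraMap A B)] {K : Dual.D A} {J : DRing.Cx A} (eK : DRing.toD J ≅ K)
    (hpc : DRing.IsPseudoCoherent' A K) :
    Nonempty (DRing.toD ((bc (algebraMap A B)).obj J) ≅ (DRing.LBaseChange (algebraMap A B)).obj K) := by
  obtain ⟨E, c, hEb, hEf, ⟨e⟩⟩ := hpc
  haveI := isKProjective_of_vanishesAbove hEb (projective_X (termwiseFiniteProjective_of_free hEf))
  exact ⟨bcDIso (algebraMap A B) (flat S) (eK ≪≫ e.symm) ≪≫ (lBaseChangeIso (algebraMap A B) E).symm ≪≫
    (DRing.LBaseChange (algebraMap A B)).mapIso e⟩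

include S in
/-- Localization of a dualizing complex. -/
theorem isDualizing_lBaseChange [DRing.HasLBaseChange (algebraMap A B)] {ω : Dual.D A} (hω : Dual.IsDualizing A ω) :
    Dual.IsDualizing B ((DRing.LBaseChange (algebraMap A B)).obj ω) := by
  obtain ⟨R⟩ := nonempty_rep hω
  have hpc : DRing.IsPseudoCoherent' A ω := isPseudoCoherent'_of_bounded (b := R.b) (fun i hi =>
    ModuleCat.subsingleton_of_isZero (((HomologicalComplex.exactAt_iff_isZero_homology _ _).1
      (ShortComplex.exact_of_isZero_X₂ _ (R.zero i (Or.inr hi)))).of_iso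
        (((DerivedCategory.homologyFunctor (ModuleCat.{u} A) i).mapIso R.iso).symm ≪≫
          (DerivedCategory.homologyFunctorFactors (ModuleCat.{u} A) i).app R.J))) hω.finite_cohomology
  obtain ⟨e⟩ := lbIso (B := B) S R.iso hpc
  exact isDualizing_of_iso e (isDualizing_bc S R.J R.a R.b R.zero R.inj (isDualizing_of_iso R.iso.symm hω))

end

end Groth.Agent.DualCx.Loc
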