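import Groth.Agent.DualCx.Rep
import Mathlib.CategoryTheory.Shift.CommShift

/-!
Biduality on finite modules: `M ≅ Hom(Hom(M, ω), ω)`.
-/

set_option autoImplicit false
set_option maxHeartbeats 1000000
universe u

namespace Groth.Agent.DualCx

open CategoryTheory Limits DerivedCategory Pretriangulated Opposite

attribute [local instance] HasDerivedCategory.standard

noncomputable section

variable {A : Type u} [CommRing A] {ω : Dual.D A} (R : Rep ω)
variable {L M N : Type u} [AddCommGroup L] [Module A L] [AddCommGroup M] [Module A M] [AddCommGroup N] [Module A N]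
  {i j : ℤ}

theorem zero_comp_assoc' {C : Type*} [Category C] [Preadditive C] {X Y Z W V : C} {a : X ⟶ Y} {b : Y ⟶ Z}
    (c : Z ⟶ W) (d : W ⟶ V) (h : a ≫ b = 0) : a ≫ (b ≫ c) ≫ d = 0 := by
  rw [Category.assoc, ← Category.assoc, h, zero_comp]

/-- `Hom_D(Hom(M, J), ω[i])`. -/
abbrev Rep.G (M : Type u) [AddCommGroup M] [Module A M] (i : ℤ) : Type _ := DerivedCategory.Q.obj (R.D M) ⟶ ω⟦i⟧

/-- Covariant functoriality. -/
def Rep.gmap (i : ℤ) (f : M →ₗ[A] N) : R.G M i →ₗ[A] R.G N i :=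
  Linear.leftComp A (ω⟦i⟧) (DerivedCategory.Q.map (R.dmap f))

theorem Rep.gmap_comp (f : L →ₗ[A] M) (g : M →ₗ[A] N) (x : R.G L i) :
    R.gmap i (g.comp f) x = R.gmap i g (R.gmap i f x) := by
  show DerivedCategory.Q.map (R.dmap (g.comp f)) ≫ x = DerivedCategory.Q.map (R.dmap g) ≫ DerivedCategory.Q.map (R.dmap f) ≫ x
  rw [R.dmap_comp, Functor.map_comp, Category.assoc]

theorem Rep.gmap_zero (x : R.G M i) : R.gmap i (0 : M →ₗ[A] N) x = 0 := by
  have h : R.dmap (0 : M →ₗ[A] N) = 0 := HomologicalComplex.hom_ext _ _ fun n => ModuleCat.hom_ext (LinearMap.ext fun φ => by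
    show ModuleCat.ofHom (0 : M →ₗ[A] N) ≫ φ = 0
    rw [show ModuleCat.ofHom (0 : M →ₗ[A] N) = 0 from rfl, zero_comp])
  show DerivedCategory.Q.map (R.dmap (0 : M →ₗ[A] N)) ≫ x = 0
  rw [h, Functor.map_zero, zero_comp]

/-- The biduality map. -/
def Rep.eta (M : Type u) [AddCommGroup M] [Module A M] : M →ₗ[A] R.G M 0 where
  toFun m := DerivedCategory.Q.map (R.ev m) ≫ R.iso.hom ≫ ((shiftFunctorZero (Dual.D A) ℤ).app ω).inv
  map_add' m m' := by rw [R.ev_add, Functor.map_add, Preadditive.add_comp]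
  map_smul' c m := by rw [R.ev_smul, Functor.map_smul, Linear.smul_comp, RingHom.id_apply]

theorem Rep.gmap_eta (f : M →ₗ[A] N) (m : M) : R.gmap 0 f (R.eta M m) = R.eta N (f m) := by
  show DerivedCategory.Q.map (R.dmap f) ≫ DerivedCategory.Q.map (R.ev m) ≫ _ = DerivedCategory.Q.map (R.ev (f m)) ≫ _
  rw [← Category.assoc, ← Functor.map_comp, R.dmap_ev]

/-- Outside a bounded range there are no such morphisms. -/
theorem Rep.subsingleton_G (M : Type u) [AddCommGroup M] [Module A M] (hi : R.b - R.a < i ∨ i < R.a - R.b) :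
    Subsingleton (R.G M i) := by
  let J' := R.J⟦i⟧
  haveI := R.inj
  haveI : ∀ k, Injective (J'.X k) := fun k => R.inj (k + i)
  haveI : J'.IsStrictlyGE (R.a - i) := (CochainComplex.isStrictlyGE_iff J' (R.a - i)).2 fun k hk =>
    R.zero (k + i) (Or.inl (by lia))
  haveI := CochainComplex.isKInjective_of_injective J' (R.a - i)
  let e : DerivedCategory.Q.obj J' ≅ ω⟦i⟧ :=
    (DerivedCategory.Q.commShiftIso i).app R.J ≪≫ (shiftFunctor (Dual.D A) i).mapIso R.iso
  refine subsingleton_of_forall_eq 0 fun x => ?_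
  obtain ⟨g, hg⟩ := DRingKP.exists_lift_inj (x ≫ e.inv)
  have hg0 : g = 0 := HomologicalComplex.hom_ext _ _ fun k => by
    by_cases hk : k < R.a ∨ R.b < k
    · exact (R.isZero_D M k hk).eq_of_src _ _
    · exact (R.zero (k + i) (by lia)).eq_of_tgt _ _
  rw [hg0, Functor.map_zero] at hg
  exact (cancel_mono e.inv).1 (hg.symm.trans zero_comp.symm)

variable {f : L →ₗ[A] M} {g : M →ₗ[A] N}

theorem Rep.g_exact_mid (h : SES f g) (x : R.G M i) (hx : R.gmap i g x = 0) : ∃ y, R.gmap i f y = x := by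
  obtain ⟨y, hy⟩ := Triangle.yoneda_exact₂ _ (triangleOfSES_distinguished (R.dsc_shortExact h)) x hx
  exact ⟨y, hy.symm⟩

theorem Rep.g_left (h : SES f g) (h₁ : Subsingleton (R.G N i)) (hij : i + 1 = j) (x : R.G L j)
    (hx : R.gmap j f x = 0) : x = 0 := by
  obtain ⟨z, hz⟩ := Triangle.yoneda_exact₃ _ (triangleOfSES_distinguished (R.dsc_shortExact h)) x hx
  obtain ⟨y, hy⟩ := (shiftFunctor (Dual.D A) (1 : ℤ)).map_surjective
    (z ≫ (shiftFunctorAdd' (Dual.D A) i 1 j hij).hom.app ω)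
  have hy0 : y = 0 := @Subsingleton.elim _ h₁ y 0
  rw [hy0] at hy
  have hz0 : z = 0 := (cancel_mono ((shiftFunctorAdd' (Dual.D A) i 1 j hij).hom.app ω)).1 (by
    refine hy.symm.trans ?_
    erw [Functor.map_zero, zero_comp])
  rw [hz, hz0]
  exact comp_zero

theorem Rep.g_right_of_zero (h : SES f g) (hij : i + 1 = j) (x : R.G N i)
    (hx : ((triangleOfSES (R.dsc_shortExact h)).mor₃ ≫ x⟦(1 : ℤ)⟧') ≫ (shiftFunctorAdd' (Dual.D A) i 1 j hij).inv.app ω = 0) :
    ∃ y, R.gmap i g y = x := by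
  have hT2 := rot_of_distTriang _ (rot_of_distTriang _ (triangleOfSES_distinguished (R.dsc_shortExact h)))
  have h1 : (triangleOfSES (R.dsc_shortExact h)).mor₃ ≫ x⟦(1 : ℤ)⟧' = 0 := by
    exact (cancel_mono ((shiftFunctorAdd' (Dual.D A) i 1 j hij).inv.app ω)).1 (hx.trans zero_comp.symm)
  obtain ⟨z, hz⟩ := Triangle.yoneda_exact₂ _ hT2 (x⟦(1 : ℤ)⟧') h1
  obtain ⟨y, hy⟩ := (shiftFunctor (Dual.D A) (1 : ℤ)).map_surjective (-z)
  refine ⟨y, (shiftFunctor (Dual.D A) (1 : ℤ)).map_injective ?_⟩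
  refine Eq.trans ?_ hz.symm
  show (shiftFunctor (Dual.D A) (1 : ℤ)).map (DerivedCategory.Q.map (R.dmap g) ≫ y) =
    (-((triangleOfSES (R.dsc_shortExact h)).mor₁⟦(1 : ℤ)⟧')) ≫ z
  erw [Functor.map_comp, hy]
  rw [Preadditive.neg_comp]
  erw [Preadditive.comp_neg]
  rfl

theorem Rep.g_right (h : SES f g) (h₂ : Subsingleton (R.G L j)) (hij : i + 1 = j) (x : R.G N i) :
    ∃ y, R.gmap i g y = x :=
  R.g_right_of_zero h hij x (@Subsingleton.elim _ h₂ _ _)

theorem Rep.g_subsingleton_right (h : SES f g) (h₁ : Subsingleton (R.G M i)) (h₂ : Subsingleton (R.G L j))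
    (hij : i + 1 = j) : Subsingleton (R.G N i) :=
  subsingleton_of_forall_eq 0 fun x => by
    obtain ⟨y, rfl⟩ := R.g_right h h₂ hij x
    rw [@Subsingleton.elim _ h₁ y 0, map_zero]

theorem Rep.g_subsingleton_mid (h : SES f g) (h₁ : Subsingleton (R.G L i)) (h₂ : Subsingleton (R.G N i)) :
    Subsingleton (R.G M i) :=
  subsingleton_of_forall_eq 0 fun x => by
    obtain ⟨y, rfl⟩ := R.g_exact_mid h x (Subsingleton.elim _ _)
    rw [@Subsingleton.elim _ h₁ y 0, map_zero]

section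

variable (hω : Dual.IsDualizing A ω)
include hω

theorem Rep.eta_self : Function.Bijective (R.eta A) := by
  haveI := R.isIso_ev_one
  let u : R.G A 0 → (ω ⟶ ω) := fun x => R.iso.inv ≫ inv (DerivedCategory.Q.map (R.ev (1 : A))) ≫ x ≫
    ((shiftFunctorZero (Dual.D A) ℤ).app ω).hom
  have hu : Function.Bijective u := by
    refine ⟨fun x y hxy => ?_, fun z => ⟨DerivedCategory.Q.map (R.ev (1 : A)) ≫ R.iso.hom ≫ z ≫
      ((shiftFunctorZero (Dual.D A) ℤ).app ω).inv, ?_⟩⟩
    · simpa [u, cancel_epi, cancel_mono] using hxy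
    · simp [u]
  have h : ∀ c : A, u (R.eta A c) = c • 𝟙 ω := fun c => by
    have h1 : R.eta A c = c • R.eta A 1 := by rw [← map_smul, smul_eq_mul, mul_one]
    rw [h1]
    simp [u, Rep.eta, Linear.smul_comp, Linear.comp_smul]
  refine ⟨fun c c' hc => hω.toEnd_bijective.1 ((h c).symm.trans ((congrArg u hc).trans (h c'))), fun x => ?_⟩
  obtain ⟨c, hc⟩ := hω.toEnd_bijective.2 (u x)
  exact ⟨c, hu.1 ((h c).trans hc)⟩

theorem Rep.subsingleton_G_self (hi : i ≠ 0) : Subsingleton (R.G A i) := by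
  haveI := R.isIso_ev_one
  exact @Equiv.subsingleton _ _ (Iso.homCongr (asIso (DerivedCategory.Q.map (R.ev (1 : A))) ≪≫ R.iso) (Iso.refl (ω⟦i⟧)))
    (hω.ext_self_subsingleton i hi)

theorem Rep.free_spec : ∀ r : ℕ, Function.Bijective (R.eta (Fin r → A)) ∧
    ∀ i : ℤ, i ≠ 0 → Subsingleton (R.G (Fin r → A) i) := by
  intro r
  induction r with
  | zero =>
    have h : ∀ i, Subsingleton (R.G (Fin 0 → A) i) := fun i => subsingleton_of_forall_eq 0 fun x => by
      have h1 := R.gmap_comp (i := i) (LinearMap.id : (Fin 0 → A) →ₗ[A] Fin 0 → A) (0 : (Fin 0 → A) →ₗ[A] Fin 0 → A) x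
      have hid : R.dmap (LinearMap.id : (Fin 0 → A) →ₗ[A] Fin 0 → A) = 𝟙 _ :=
        HomologicalComplex.hom_ext _ _ fun n => ModuleCat.hom_ext (LinearMap.ext fun φ => rfl)
      have h2 : R.gmap i (LinearMap.id : (Fin 0 → A) →ₗ[A] Fin 0 → A) x = x := by
        show DerivedCategory.Q.map (R.dmap _) ≫ x = x
        rw [hid, CategoryTheory.Functor.map_id, Category.id_comp]
      rw [← h2, show (LinearMap.id : (Fin 0 → A) →ₗ[A] Fin 0 → A) = 0 from Subsingleton.elim _ _, R.gmap_zero]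
    exact ⟨⟨Function.injective_of_subsingleton _, fun x => ⟨0, @Subsingleton.elim _ (h 0) _ _⟩⟩, fun i _ => h i⟩
  | succ r ih =>
    let e : (A × (Fin r → A)) ≃ₗ[A] (Fin (r + 1) → A) := Fin.consLinearEquiv A (fun _ : Fin (r + 1) => A)
    let f : A →ₗ[A] (Fin (r + 1) → A) := e.toLinearMap.comp (LinearMap.inl A A (Fin r → A))
    let g : (Fin (r + 1) → A) →ₗ[A] (Fin r → A) := (LinearMap.snd A A (Fin r → A)).comp e.symm.toLinearMap
    have h : SES f g := ⟨e.injective.comp LinearMap.inl_injective, fun y => by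
        obtain ⟨⟨c, v⟩, rfl⟩ := e.surjective y
        simp [f, g, eq_comm],
      (LinearMap.snd_surjective (R := A) (M := A) (M₂ := Fin r → A)).comp e.symm.surjective⟩
    refine ⟨⟨(injective_iff_map_eq_zero _).2 fun m hm => ?_, fun x => ?_⟩, fun i hi =>
      R.g_subsingleton_mid h (R.subsingleton_G_self hω hi) (ih.2 i hi)⟩
    · have hg : g m = 0 := (injective_iff_map_eq_zero _).1 ih.1.1 _ (by rw [← R.gmap_eta, hm, map_zero])
      obtain ⟨c, rfl⟩ := (h.exact m).1 hg
      rw [← R.gmap_eta] at hm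
      have hc := R.g_left h (ih.2 (-1) (by lia)) (show (-1 : ℤ) + 1 = 0 by lia) _ hm
      rw [(injective_iff_map_eq_zero _).1 (R.eta_self hω).1 c hc, map_zero]
    · obtain ⟨v, hv⟩ := ih.1.2 (R.gmap 0 g x)
      obtain ⟨m, rfl⟩ := h.surj v
      obtain ⟨y, hy⟩ := R.g_exact_mid h (x - R.eta _ m) (by rw [map_sub, R.gmap_eta, hv, sub_self])
      obtain ⟨c, rfl⟩ := (R.eta_self hω).2 y
      exact ⟨m + f c, by rw [map_add, ← R.gmap_eta, hy, add_sub_cancel]⟩

variable [IsNoetherianRing A]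

theorem Rep.subsingleton_G_pos (M : Type u) [AddCommGroup M] [Module A M] [Module.Finite A M] (hi : 0 < i) :
    Subsingleton (R.G M i) := by
  suffices H : ∀ (n : ℕ) (M : Type u) [AddCommGroup M] [Module A M] [Module.Finite A M] (i : ℤ), 0 < i →
      R.b - R.a < i + n → Subsingleton (R.G M i) from H (R.b - R.a - i + 1).toNat M i hi (by lia)
  intro n
  induction n with
  | zero => intro M _ _ _ i _ hi'; exact R.subsingleton_G M (Or.inl (by lia))
  | succ n ih =>
    intro M _ _ _ i hi hi'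
    obtain ⟨r, π, hπ⟩ := Module.Finite.exists_fin' A M
    have h : SES (LinearMap.ker π).subtype π :=
      ⟨Submodule.subtype_injective _, LinearMap.exact_subtype_ker_map π, hπ⟩
    exact R.g_subsingleton_right h ((R.free_spec hω r).2 i hi.ne') (ih (LinearMap.ker π) (i + 1) (by lia) (by lia)) rfl

theorem Rep.eta_surjective (M : Type u) [AddCommGroup M] [Module A M] [Module.Finite A M] :
    Function.Surjective (R.eta M) := fun x => by
  obtain ⟨r, π, hπ⟩ := Module.Finite.exists_fin' A M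
  have h : SES (LinearMap.ker π).subtype π :=
    ⟨Submodule.subtype_injective _, LinearMap.exact_subtype_ker_map π, hπ⟩
  obtain ⟨y, rfl⟩ := R.g_right h (R.subsingleton_G_pos hω (LinearMap.ker π) one_pos) (zero_add 1) x
  obtain ⟨v, rfl⟩ := (R.free_spec hω r).1.2 y
  exact ⟨π v, (R.gmap_eta π v).symm⟩

theorem Rep.eta_bijective (M : Type u) [AddCommGroup M] [Module A M] [Module.Finite A M] :
    Function.Bijective (R.eta M) := by
  refine ⟨(injective_iff_map_eq_zero _).2 fun m hm => ?_, R.eta_surjective hω M⟩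
  obtain ⟨r, π, hπ⟩ := Module.Finite.exists_fin' A M
  have h : SES (LinearMap.ker π).subtype π :=
    ⟨Submodule.subtype_injective _, LinearMap.exact_subtype_ker_map π, hπ⟩
  obtain ⟨v, rfl⟩ := hπ m
  rw [← R.gmap_eta] at hm
  obtain ⟨y, hy⟩ := R.g_exact_mid h _ hm
  obtain ⟨k, rfl⟩ := R.eta_surjective hω (LinearMap.ker π) y
  rw [R.gmap_eta] at hy
  rw [← (R.free_spec hω r).1.1 hy]
  exact k.2

theorem Rep.subsingleton_G_ne (M : Type u) [AddCommGroup M] [Module A M] [Module.Finite A M] (hi : i ≠ 0) :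
    Subsingleton (R.G M i) := by
  rcases lt_or_gt_of_ne hi with hneg | hpos
  swap; · exact R.subsingleton_G_pos hω M hpos
  suffices H : ∀ (n : ℕ) (M : Type u) [AddCommGroup M] [Module A M] [Module.Finite A M],
      Subsingleton (R.G M (-(n : ℤ) - 1)) by
    have := H (-i - 1).toNat M
    rwa [show -(((-i - 1).toNat : ℤ)) - 1 = i by lia] at this
  intro n
  induction n with
  | zero =>
    intro M _ _ _
    obtain ⟨r, π, hπ⟩ := Module.Finite.exists_fin' A M
    have h : SES (LinearMap.ker π).subtype π :=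
      ⟨Submodule.subtype_injective _, LinearMap.exact_subtype_ker_map π, hπ⟩
    refine subsingleton_of_forall_eq 0 fun x => ?_
    -- the boundary lands in the kernel of an injective map
    have hinj : ∀ y : R.G (LinearMap.ker π) 0, R.gmap 0 (LinearMap.ker π).subtype y = 0 → y = 0 := fun y hy => by
      obtain ⟨k, rfl⟩ := R.eta_surjective hω (LinearMap.ker π) y
      rw [R.gmap_eta] at hy
      have h0 : (LinearMap.ker π).subtype k = 0 := (R.free_spec hω r).1.1 (by rw [hy, map_zero])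
      rw [show k = 0 from Subtype.ext h0, map_zero]
    let t := ((triangleOfSES (R.dsc_shortExact h)).mor₃ ≫ x⟦(1 : ℤ)⟧') ≫
      (shiftFunctorAdd' (Dual.D A) (-((0 : ℕ) : ℤ) - 1) 1 0 (by simp)).inv.app ω
    have ht : t = 0 := hinj t (by
      show DerivedCategory.Q.map (R.dmap (LinearMap.ker π).subtype) ≫ t = 0
      have h0 : DerivedCategory.Q.map (R.dmap (LinearMap.ker π).subtype) ≫ (triangleOfSES (R.dsc_shortExact h)).mor₃ = 0 :=
        comp_distTriang_mor_zero₂₃ _ (triangleOfSES_distinguished (R.dsc_shortExact h))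
      exact zero_comp_assoc' _ _ h0)
    obtain ⟨y, hy⟩ := R.g_right_of_zero h (show (-((0 : ℕ) : ℤ) - 1) + 1 = 0 by simp) x ht
    rw [← hy, @Subsingleton.elim _ ((R.free_spec hω r).2 _ (by lia)) y 0, map_zero]
  | succ n ih =>
    intro M _ _ _
    obtain ⟨r, π, hπ⟩ := Module.Finite.exists_fin' A M
    have h : SES (LinearMap.ker π).subtype π :=
      ⟨Submodule.subtype_injective _, LinearMap.exact_subtype_ker_map π, hπ⟩
    exact R.g_subsingleton_right h ((R.free_spec hω r).2 _ (by lia)) (ih (LinearMap.ker π)) (by push_cast; lia)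

end

end

end Groth.Agent.DualCx
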