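import Groth.Agent.DualCx.Local

/-!
Morphisms from bounded objects into a normalized dualizing complex.
-/

set_option autoImplicit false
set_option maxHeartbeats 1000000
universe u

namespace Groth.Agent.DualCx

open CategoryTheory Limits DerivedCategory Pretriangulated

attribute [local instance] HasDerivedCategory.standard

noncomputable section

variable {A : Type u} [CommRing A] {ω : Dual.D A}

theorem subsingleton_single {M : Type u} [AddCommGroup M] [Module A M] (d i : ℤ)
    (h : Subsingleton (T ω M (i + d))) :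
    Subsingleton ((DerivedCategory.singleFunctor (ModuleCat.{u} A) d).obj (ModuleCat.of A M) ⟶ ω⟦i⟧) := by
  refine subsingleton_of_forall_eq 0 fun x => (shiftFunctor (Dual.D A) d).map_injective ?_
  rw [Functor.map_zero]
  let e := ((DerivedCategory.singleFunctors (ModuleCat.{u} A)).shiftIso d 0 d (add_zero d)).app (ModuleCat.of A M)
  let c := (shiftFunctorAdd' (Dual.D A) i d (i + d) rfl).app ω
  have h1 : e.inv ≫ x⟦d⟧' ≫ c.inv = 0 := @Subsingleton.elim _ h _ _
  exact (cancel_epi e.inv).1 ((cancel_mono c.inv).1 (by rw [Category.assoc, h1, comp_zero, zero_comp]))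

theorem subsingleton_of_amplitude {c : ℤ} :
    ∀ (k : ℕ) (d : ℤ) (N : Dual.D A), d < c + k →
      (∀ j, (j < c ∨ d < j) → IsZero ((DerivedCategory.homologyFunctor (ModuleCat.{u} A) j).obj N)) →
      ∀ i : ℤ, (∀ j, c ≤ j → j ≤ d → Subsingleton (T ω ((DerivedCategory.homologyFunctor (ModuleCat.{u} A) j).obj N) (i + j))) →
      Subsingleton (N ⟶ ω⟦i⟧) := by
  intro k
  induction k with
  | zero =>
    intro d N hd hz i _
    haveI : N.IsLE (c - 1) := (DerivedCategory.isLE_iff N (c - 1)).2 fun j _ => hz j (by lia)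
    haveI : N.IsGE c := (DerivedCategory.isGE_iff N c).2 fun j hj => hz j (Or.inl hj)
    exact ⟨fun a b => (DerivedCategory.TStructure.t.isZero N (c - 1) c (by lia)).eq_of_src a b⟩
  | succ k ih =>
    intro d N hd hz i hi
    obtain ⟨X, B, f, g, w, hT, hX, hlt, ⟨e⟩⟩ := DRingKP.exists_top_triangle N d fun j hj => hz j (Or.inr (by lia))
    have hX' : ∀ j, (j < c ∨ d - 1 < j) → IsZero ((DerivedCategory.homologyFunctor (ModuleCat.{u} A) j).obj X) := by
      intro j hj
      by_cases hj' : j < d
      · exact (hz j (by lia)).of_iso (hlt j hj').some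
      · exact hX j (by lia)
    haveI h1 : Subsingleton (X ⟶ ω⟦i⟧) := ih (d - 1) X (by lia) hX' i fun j hcj hjd => by
      obtain ⟨e'⟩ := hlt j (by lia)
      exact (subsingleton_congr e'.toLinearEquiv).2 (hi j hcj (by lia))
    haveI h2 : Subsingleton (B ⟶ ω⟦i⟧) := by
      have hB : Subsingleton ((DerivedCategory.singleFunctor (ModuleCat.{u} A) d).obj
          (ModuleCat.of A ((DerivedCategory.homologyFunctor (ModuleCat.{u} A) d).obj N)) ⟶ ω⟦i⟧) := by
        by_cases hcd : c ≤ d
        · exact subsingleton_single d i (hi d hcd le_rfl)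
        · haveI := ModuleCat.subsingleton_of_isZero (hz d (Or.inl (by lia)))
          exact subsingleton_single d i subsingleton_of_subsingleton
      exact (e.homFromEquiv (Z := ω⟦i⟧)).subsingleton_congr.2 hB
    refine subsingleton_of_forall_eq 0 fun x => ?_
    obtain ⟨y, hy⟩ := Triangle.yoneda_exact₂ _ hT x (@Subsingleton.elim _ h1 _ _)
    rw [hy, show y = 0 from @Subsingleton.elim _ h2 _ _]
    exact comp_zero

end

end Groth.Agent.DualCx
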