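import Groth.Agent.DualCx.Residue
import Groth.Agent.DualCx.Bounded

/-!
Coherent objects bounded below as targets of `Hom_D`, and the homology of `Hom(M, J)`.
-/

set_option autoImplicit false
set_option maxHeartbeats 1000000
universe u

namespace Groth.Agent.DualCx

open CategoryTheory Limits DerivedCategory Pretriangulated Opposite

attribute [local instance] HasDerivedCategory.standard

noncomputable section

variable {A : Type u} [CommRing A] {ω : Dual.D A}

/-- Cohomology vanishing below `a`. -/
theorem isGE_of_low {a : ℤ} (hlow : ∀ i : ℤ, i < a → Subsingleton (Dual.HD A ω i)) : ω.IsGE a :=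
  (DerivedCategory.isGE_iff ω a).2 fun i hi => by
    haveI : Subsingleton ((DerivedCategory.homologyFunctor (ModuleCat.{u} A) i).obj ω) := hlow i hi
    exact ModuleCat.isZero_of_subsingleton _

theorem subsingleton_T_low {a : ℤ} (hlow : ∀ i : ℤ, i < a → Subsingleton (Dual.HD A ω i))
    (M : Type u) [AddCommGroup M] [Module A M] {i : ℤ} (hi : i < a) : Subsingleton (T ω M i) := by
  haveI := isGE_of_low hlow
  refine subsingleton_of_forall_eq 0 fun f => ?_
  exact DerivedCategory.TStructure.t.zero_of_isLE_of_isGE f 0 (a - i) (by lia) inferInstance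
    (DerivedCategory.TStructure.t.isGE_shift ω a i (a - i) (by lia))

/-- Morphisms from a module placed in degree `d`. -/
def singleEquiv (ω : Dual.D A) (M : Type u) [AddCommGroup M] [Module A M] (d i : ℤ) :
    ((DerivedCategory.singleFunctor (ModuleCat.{u} A) d).obj (ModuleCat.of A M) ⟶ ω⟦i⟧) ≃ₗ[A] T ω M (i + d) :=
  (LinearEquiv.ofBijective (Functor.mapLinearMap A (shiftFunctor (Dual.D A) d))
    ((Functor.FullyFaithful.ofFullyFaithful (shiftFunctor (Dual.D A) d)).map_bijective _ _)).trans
    (Linear.homCongr A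
      (((DerivedCategory.singleFunctors (ModuleCat.{u} A)).shiftIso d 0 d (add_zero d)).app (ModuleCat.of A M))
      ((shiftFunctorAdd' (Dual.D A) i d (i + d) rfl).app ω).symm)

variable [IsNoetherianRing A]

/-- `Hom_D(M, ω[i])` is finite for finite `M`, `ω` coherent and bounded below. -/
theorem finite_T_coh (hfin : ∀ i : ℤ, Module.Finite A (Dual.HD A ω i)) {a : ℤ}
    (hlow : ∀ i : ℤ, i < a → Subsingleton (Dual.HD A ω i))
    (M : Type u) [AddCommGroup M] [Module A M] [Module.Finite A M] (i : ℤ) :
    Module.Finite A (T ω M i) := by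
  suffices H : ∀ (n : ℕ) (M : Type u) [AddCommGroup M] [Module A M] [Module.Finite A M] (i : ℤ), i < a + n →
      Module.Finite A (T ω M i) from H (i - a + 1).toNat M i (by lia)
  intro n
  induction n with
  | zero =>
    intro M _ _ _ i hi
    haveI : Subsingleton (T ω M i) := subsingleton_T_low hlow M (by lia)
    infer_instance
  | succ n ih =>
    intro M _ _ _ i hi
    obtain ⟨r, π, hπ⟩ := Module.Finite.exists_fin' A M
    have h : SES (LinearMap.ker π).subtype π :=
      ⟨Submodule.subtype_injective _, LinearMap.exact_subtype_ker_map π, hπ⟩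
    haveI := ih (LinearMap.ker π) (i - 1) (by lia)
    haveI := finite_pow hfin i r
    exact finite_of_exact (h.delta ω (show i - 1 + 1 = i by lia)) (pre ω i π) (fun x => h.pre_delta _ x)
      fun y hy => h.exact_right _ y hy

theorem finite_hom_amplitude (hfin : ∀ i : ℤ, Module.Finite A (Dual.HD A ω i)) {a : ℤ}
    (hlow : ∀ i : ℤ, i < a → Subsingleton (Dual.HD A ω i)) {c : ℤ} :
    ∀ (k : ℕ) (d : ℤ) (N : Dual.D A), d < c + k →
      (∀ j, (j < c ∨ d < j) → IsZero ((DerivedCategory.homologyFunctor (ModuleCat.{u} A) j).obj N)) →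
      (∀ j : ℤ, Module.Finite A ((DerivedCategory.homologyFunctor (ModuleCat.{u} A) j).obj N)) →
      ∀ i : ℤ, Module.Finite A (N ⟶ ω⟦i⟧) := by
  intro k
  induction k with
  | zero =>
    intro d N hd hz _ i
    haveI : N.IsLE (c - 1) := (DerivedCategory.isLE_iff N (c - 1)).2 fun j _ => hz j (by lia)
    haveI : N.IsGE c := (DerivedCategory.isGE_iff N c).2 fun j hj => hz j (Or.inl hj)
    haveI : Subsingleton (N ⟶ ω⟦i⟧) :=
      ⟨fun a b => (DerivedCategory.TStructure.t.isZero N (c - 1) c (by lia)).eq_of_src a b⟩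
    infer_instance
  | succ k ih =>
    intro d N hd hz hN i
    obtain ⟨X, B, f, g, w, hT, hX, hlt, ⟨e⟩⟩ := DRingKP.exists_top_triangle N d fun j hj => hz j (Or.inr (by lia))
    have hX' : ∀ j, (j < c ∨ d - 1 < j) → IsZero ((DerivedCategory.homologyFunctor (ModuleCat.{u} A) j).obj X) := by
      intro j hj
      by_cases hj' : j < d
      · exact (hz j (by lia)).of_iso (hlt j hj').some
      · exact hX j (by lia)
    haveI : Module.Finite A (X ⟶ ω⟦i⟧) := ih (d - 1) X (by lia) hX' (fun j => by
      by_cases hj : j < d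
      · haveI := hN j
        exact Module.Finite.equiv (hlt j hj).some.toLinearEquiv.symm
      · haveI := ModuleCat.subsingleton_of_isZero (hX j (by lia))
        infer_instance) i
    haveI := hN d
    haveI := finite_T_coh hfin hlow ((DerivedCategory.homologyFunctor (ModuleCat.{u} A) d).obj N) (i + d)
    haveI : Module.Finite A (B ⟶ ω⟦i⟧) :=
      Module.Finite.equiv ((Linear.homCongr A e (Iso.refl (ω⟦i⟧))).trans (singleEquiv ω _ d i)).symm
    refine finite_of_exact (Linear.leftComp A (ω⟦i⟧) g) (Linear.leftComp A (ω⟦i⟧) f) (fun x => ?_) fun y hy => ?_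
    · show f ≫ g ≫ x = 0
      rw [← Category.assoc, show f ≫ g = 0 from comp_distTriang_mor_zero₁₂ _ hT, zero_comp]
    · obtain ⟨z, hz⟩ := Triangle.yoneda_exact₂ _ hT y hy
      exact ⟨z, hz.symm⟩

omit [IsNoetherianRing A]

section Homology

variable (R : Rep ω) (M : Type u) [AddCommGroup M] [Module A M] (i : ℤ)

/-- Cycles of `Hom(M, J)`. -/
def Rep.Z : Submodule A ((R.D M).X i) := LinearMap.ker ((R.D M).d i (i + 1)).hom

/-- The map from a module in degree `i` given by a cycle. -/
def Rep.ofCycle (z : R.Z M i) : sgl M i ⟶ R.J :=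
  HomologicalComplex.mkHomFromSingle (z.1 : ModuleCat.of A M ⟶ R.J.X i) (fun j hj => by
    obtain rfl : i + 1 = j := hj
    exact z.2)

/-- The class of a cycle. -/
def Rep.toT : R.Z M i →ₗ[A] T ω M i :=
  (LinearEquiv.ofBijective (R.theta M i) (R.theta_bijective M i)).symm.toLinearMap.comp
    { toFun := fun z => DerivedCategory.Q.map (R.ofCycle M i z)
      map_add' := fun z z' => by
        rw [← Functor.map_add]
        congr 1
        refine HomologicalComplex.from_single_hom_ext ?_
        simp only [Rep.ofCycle, HomologicalComplex.add_f_apply, HomologicalComplex.mkHomFromSingle_f]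
        exact (Preadditive.comp_add _ _ _ _ _ _)
      map_smul' := fun c z => by
        rw [RingHom.id_apply, ← Functor.map_smul]
        congr 1
        refine HomologicalComplex.from_single_hom_ext ?_
        simp only [Rep.ofCycle, HomologicalComplex.smul_f_apply, HomologicalComplex.mkHomFromSingle_f]
        exact (Linear.comp_smul _ _ _ _ _ _) }

theorem Rep.exists_boundary (z : R.Z M i) (hz : R.toT M i z = 0) :
    ∃ w : ModuleCat.of A M ⟶ R.J.X (i - 1), w ≫ R.J.d (i - 1) i = z.1 := by
  haveI := R.isKInjective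
  have h0 : DerivedCategory.Q.map (R.ofCycle M i z) = 0 :=
    (LinearEquiv.ofBijective (R.theta M i) (R.theta_bijective M i)).symm.injective (hz.trans (map_zero _).symm)
  obtain ⟨ho⟩ := DRingKP.exists_homotopy_inj (R.ofCycle M i z) h0
  refine ⟨(HomologicalComplex.singleObjXSelf (ComplexShape.up ℤ) i _).inv ≫ ho.hom i (i - 1), ?_⟩
  have := congrArg ((HomologicalComplex.singleObjXSelf (ComplexShape.up ℤ) i (ModuleCat.of A M)).inv ≫ ·) (ho.comm i)
  simp only [Rep.ofCycle, HomologicalComplex.mkHomFromSingle_f, Iso.inv_hom_id_assoc] at this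
  rw [this, dNext_eq _ (show (ComplexShape.up ℤ).Rel i (i + 1) from rfl),
    prevD_eq _ (show (ComplexShape.up ℤ).Rel (i - 1) i by simp),
    (HomologicalComplex.isZero_single_obj_X (ComplexShape.up ℤ) i (ModuleCat.of A M) (i + 1) (by lia)).eq_of_src
      (ho.hom (i + 1) i) 0]
  simp

/-- The homology of `Hom(M, J)` is a subquotient of `Hom_D(M, ω[i])`. -/
theorem Rep.exists_homology_quot :
    ∃ (S : Submodule A (T ω M i)) (g : S →ₗ[A] (R.D M).homology i), Function.Surjective g := by
  let S' := (R.D M).sc' (i - 1) i (i + 1)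
  let e : (R.D M).homology i ≅ S'.moduleCatLeftHomologyData.H :=
    (R.D M).homologyIsoSc' (i - 1) i (i + 1) (by simp) (by simp) ≪≫ S'.moduleCatHomologyIso
  let π : R.Z M i →ₗ[A] (R.D M).homology i :=
    e.inv.hom.comp (LinearMap.range S'.moduleCatToCycles).mkQ
  have hπ : Function.Surjective π :=
    ((e.toLinearEquiv.symm.surjective).comp (Submodule.mkQ_surjective (LinearMap.range S'.moduleCatToCycles)) :)
  have hker : LinearMap.ker (R.toT M i) ≤ LinearMap.ker π := fun z hz => by
    obtain ⟨w, hw⟩ := R.exists_boundary M i z hz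
    show e.inv.hom ((LinearMap.range S'.moduleCatToCycles).mkQ z) = 0
    rw [show (LinearMap.range S'.moduleCatToCycles).mkQ z = 0 from (Submodule.Quotient.mk_eq_zero _).2
      ⟨w, Subtype.ext hw⟩]
    exact map_zero e.inv.hom
  refine ⟨LinearMap.range (R.toT M i),
    ((LinearMap.ker (R.toT M i)).liftQ π hker).comp (R.toT M i).quotKerEquivRange.symm.toLinearMap,
    fun y => ?_⟩
  obtain ⟨z, rfl⟩ := hπ y
  exact ⟨(R.toT M i).quotKerEquivRange (Submodule.Quotient.mk z), by
    rw [LinearMap.comp_apply, LinearEquiv.coe_coe, LinearEquiv.symm_apply_apply, Submodule.liftQ_apply]⟩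

theorem Rep.subsingleton_homology (h : Subsingleton (T ω M i)) : Subsingleton ((R.D M).homology i) := by
  obtain ⟨S, g, hg⟩ := R.exists_homology_quot M i
  haveI := h
  exact hg.subsingleton

theorem Rep.finite_homology [IsNoetherianRing A] (h : Module.Finite A (T ω M i)) :
    Module.Finite A ((R.D M).homology i) := by
  obtain ⟨S, g, hg⟩ := R.exists_homology_quot M i
  haveI := h
  exact Module.Finite.of_surjective g hg

/-- Homology in `D(A)`. -/
def Rep.homologyIso : (DerivedCategory.homologyFunctor (ModuleCat.{u} A) i).obj (DerivedCategory.Q.obj (R.D M)) ≅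
    (R.D M).homology i :=
  (DerivedCategory.homologyFunctorFactors (ModuleCat.{u} A) i).app (R.D M)

theorem Rep.isZero_homology_out (hi : i < R.a ∨ R.b < i) :
    IsZero ((DerivedCategory.homologyFunctor (ModuleCat.{u} A) i).obj (DerivedCategory.Q.obj (R.D M))) := by
  refine IsZero.of_iso ?_ (R.homologyIso M i)
  exact (HomologicalComplex.exactAt_iff_isZero_homology _ _).1
    (ShortComplex.exact_of_isZero_X₂ _ (R.isZero_D M i hi))

end Homology

/-- `Hom_D(Hom(M, J), ν[i])` is finite. -/
theorem Rep.finite_hom [IsNoetherianRing A] (R : Rep ω) {ν : Dual.D A}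
    (hω : ∀ (M : Type u) [AddCommGroup M] [Module A M] [Module.Finite A M] (j : ℤ), Module.Finite A (T ω M j))
    (hfin : ∀ i : ℤ, Module.Finite A (Dual.HD A ν i)) {a : ℤ}
    (hlow : ∀ i : ℤ, i < a → Subsingleton (Dual.HD A ν i))
    (M : Type u) [AddCommGroup M] [Module A M] [Module.Finite A M] (i : ℤ) :
    Module.Finite A (DerivedCategory.Q.obj (R.D M) ⟶ ν⟦i⟧) :=
  finite_hom_amplitude hfin hlow (c := R.a) (R.b + 1 - R.a).toNat R.b _ (by lia)
    (fun j hj => R.isZero_homology_out M j hj)
    (fun j => by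
      haveI := R.finite_homology M j (hω M j)
      exact Module.Finite.equiv (R.homologyIso M j).toLinearEquiv.symm) i

end

end Groth.Agent.DualCx
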