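import Groth.Agent.DualCx.Loc
import Groth.Agent.DualCx.Rep
import Groth.Agent.DualCx.Coherent
import Groth.Agent.DRingKP.Coherent
import Groth.Agent.DRingKP.Derive
import Mathlib.Algebra.Category.ModuleCat.Descent

/-!
Localization in `D(A)`: `Hom` commutes with localization, and dualizing complexes localize.
-/

set_option autoImplicit false
set_option maxHeartbeats 1000000
universe u

namespace Groth.Agent.DualCx

open CategoryTheory Limits DerivedCategory Pretriangulated

attribute [local instance] HasDerivedCategory.standard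

noncomputable section

variable {A B : Type u} [CommRing A] [CommRing B]

instance isLocMap_inst [Algebra A B] (S : Submonoid A) [IsLocalization S B] : IsLocMap (algebraMap A B) S :=
  isLocMap_algebraMap S

instance preservesFiniteLimits_ext [Algebra A B] [Module.Flat A B] : PreservesFiniteLimits (ext (algebraMap A B)) :=
  ModuleCat.preservesFiniteLimits_extendScalars_of_flat (RingHom.flat_algebraMap_iff.2 ‹_›)

theorem preservesFiniteLimits_of_isLocMap (φ : A →+* B) (S : Submonoid A) [IsLocMap φ S] :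
    PreservesFiniteLimits (ext φ) :=
  ModuleCat.preservesFiniteLimits_extendScalars_of_flat (flat (φ := φ) S)

theorem isDualizing_of_iso {ω ω' : Dual.D A} (e : ω ≅ ω') (h : Dual.IsDualizing A ω) : Dual.IsDualizing A ω' where
  isNoetherianRing := h.isNoetherianRing
  finite_injective_dimension := by
    obtain ⟨a, b, hab⟩ := h.finite_injective_dimension
    exact ⟨a, b, fun M _ _ i hi =>
      (Linear.homCongr A (Iso.refl (Dual.inD A M)) ((shiftFunctor (Dual.D A) i).mapIso e)).toEquiv.subsingleton_congr.1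
        (hab M i hi)⟩
  finite_cohomology i :=
    haveI := h.finite_cohomology i
    Module.Finite.equiv ((DerivedCategory.homologyFunctor (ModuleCat.{u} A) i).mapIso e).toLinearEquiv
  toEnd_bijective := by
    have hc : (fun a : A => a • 𝟙 ω') = (Linear.homCongr A e e) ∘ fun a : A => a • 𝟙 ω := funext fun a => by
      simp [Linear.homCongr_apply, Linear.smul_comp, Linear.comp_smul]
    rw [hc]
    exact (LinearEquiv.bijective _).comp h.toEnd_bijective
  ext_self_subsingleton i hi :=
    (Linear.homCongr A e ((shiftFunctor (Dual.D A) i).mapIso e)).toEquiv.subsingleton_congr.1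
      (h.ext_self_subsingleton i hi)

theorem exists_injRep (L : Dual.D A) (a : ℤ) [L.IsGE a] :
    ∃ J : CochainComplex (ModuleCat.{u} A) ℤ, J.IsStrictlyGE a ∧ (∀ i, Injective (J.X i)) ∧
      Nonempty (DerivedCategory.Q.obj J ≅ L) := by
  obtain ⟨C, hC, ⟨e⟩⟩ := DerivedCategory.exists_iso_Q_obj_of_isGE L a
  haveI := hC
  obtain ⟨J, q, hq, hJ, hJa⟩ := CochainComplex.Plus.modelCategoryQuillen.exists_quasiIso_injective C a
  haveI := hq
  exact ⟨J, hJa, hJ, ⟨(asIso (DerivedCategory.Q.map q)).symm ≪≫ e.symm⟩⟩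

theorem exists_freeRep [IsNoetherianRing A] (K : Dual.D A) (c : ℤ) [K.IsLE c]
    (hK : ∀ i : ℤ, Module.Finite A (Dual.HD A K i)) :
    ∃ (P : CochainComplex (ModuleCat.{u} A) ℤ) (c' : ℤ), P.IsStrictlyLE c' ∧
      (∀ p, Module.Free A (P.X p) ∧ Module.Finite A (P.X p)) ∧ Nonempty (DerivedCategory.Q.obj P ≅ K) := by
  obtain ⟨P, b, hb, hP, he⟩ := (DRingKP.pc'_iff_coherent DRingKP.isCoh_of_noetherian (K := K)
    ⟨c + 1, fun i hi => DerivedCategory.isZero_of_isLE K c i (by lia)⟩).2
      fun i => haveI := hK i; Module.finitePresentation_of_finite A _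
  exact ⟨P, b, (CochainComplex.isStrictlyLE_iff P b).2 hb, fun p => ⟨(hP p).2, (hP p).1⟩, he⟩

variable (φ : A →+* B) [PreservesFiniteLimits (ext φ)]

/-- Localization of objects of `D(A)`. -/
abbrev locD : Dual.D A ⥤ Dual.D B := (ext φ).mapDerivedCategory

/-- On complexes. -/
def locQ (C : CochainComplex (ModuleCat.{u} A) ℤ) :
    (locD φ).obj (DerivedCategory.Q.obj C) ≅ DerivedCategory.Q.obj ((DRingKP.bc φ).obj C) :=
  (ext φ).mapDerivedCategoryFactors.app C

theorem locD_map_Q {C C' : CochainComplex (ModuleCat.{u} A) ℤ} (g : C ⟶ C') :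
    (locD φ).map (DerivedCategory.Q.map g) =
      (locQ φ C).hom ≫ DerivedCategory.Q.map ((DRingKP.bc φ).map g) ≫ (locQ φ C').inv := by
  rw [← Category.assoc, Iso.eq_comp_inv]
  exact (ext φ).mapDerivedCategoryFactors_hom_naturality g

theorem locD_smul_id (a : A) (K : Dual.D A) : (locD φ).map (a • 𝟙 K) = φ a • 𝟙 ((locD φ).obj K) := by
  let e := DerivedCategory.Q.objObjPreimageIso K
  let C := DerivedCategory.Q.objPreimage K
  have h1 : a • 𝟙 K = e.inv ≫ DerivedCategory.Q.map (a • 𝟙 C) ≫ e.hom := by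
    rw [Functor.map_smul, CategoryTheory.Functor.map_id, Linear.smul_comp, Category.id_comp, Linear.comp_smul,
      e.inv_hom_id]
  have h2 : (DRingKP.bc φ).map (a • 𝟙 C) = φ a • 𝟙 _ := HomologicalComplex.hom_ext _ _ fun i => by
    show (ext φ).map (a • 𝟙 (C.X i)) = φ a • 𝟙 ((ext φ).obj (C.X i))
    rw [map_smul_hom, CategoryTheory.Functor.map_id]
  rw [h1, Functor.map_comp, Functor.map_comp, locD_map_Q, h2, Functor.map_smul, CategoryTheory.Functor.map_id,
    Linear.smul_comp, Category.id_comp, Linear.comp_smul, Iso.hom_inv_id, Linear.smul_comp, Category.id_comp,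
    Linear.comp_smul, ← Functor.map_comp, e.inv_hom_id, CategoryTheory.Functor.map_id]

theorem locD_smul (a : A) {K L : Dual.D A} (g : K ⟶ L) : (locD φ).map (a • g) = φ a • (locD φ).map g := by
  rw [show a • g = g ≫ (a • 𝟙 L) by rw [Linear.comp_smul, Category.comp_id], Functor.map_comp, locD_smul_id,
    Linear.comp_smul, Category.comp_id]

/-- Homology of the localization. -/
def locHD (K : Dual.D A) (i : ℤ) :
    (DerivedCategory.homologyFunctor (ModuleCat.{u} B) i).obj ((locD φ).obj K) ≅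
      (ext φ).obj ((DerivedCategory.homologyFunctor (ModuleCat.{u} A) i).obj K) :=
  (DerivedCategory.homologyFunctor (ModuleCat.{u} B) i).mapIso
      ((locD φ).mapIso (DerivedCategory.Q.objObjPreimageIso K).symm ≪≫ locQ φ _) ≪≫
    (DerivedCategory.homologyFunctorFactors (ModuleCat.{u} B) i).app _ ≪≫
    ((DerivedCategory.Q.objPreimage K).sc i).mapHomologyIso (ext φ) ≪≫
    (ext φ).mapIso (((DerivedCategory.homologyFunctorFactors (ModuleCat.{u} A) i).app _).symm ≪≫
      (DerivedCategory.homologyFunctor (ModuleCat.{u} A) i).mapIso (DerivedCategory.Q.objObjPreimageIso K))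

theorem finite_locHD {K : Dual.D A} {i : ℤ} (h : Module.Finite A (Dual.HD A K i)) :
    Module.Finite B (Dual.HD B ((locD φ).obj K) i) :=
  letI := φ.toAlgebra
  haveI := h
  haveI : Module.Finite B ((ext φ).obj ((DerivedCategory.homologyFunctor (ModuleCat.{u} A) i).obj K)) :=
    inferInstanceAs (Module.Finite B (TensorProduct A B ((DerivedCategory.homologyFunctor (ModuleCat.{u} A) i).obj K)))
  Module.Finite.equiv (locHD φ K i).toLinearEquiv.symm

theorem isZero_locHD {K : Dual.D A} {i : ℤ} (h : Subsingleton (Dual.HD A K i)) :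
    IsZero ((DerivedCategory.homologyFunctor (ModuleCat.{u} B) i).obj ((locD φ).obj K)) :=
  haveI := h
  ((ext φ).map_isZero (ModuleCat.isZero_of_subsingleton
    ((DerivedCategory.homologyFunctor (ModuleCat.{u} A) i).obj K))).of_iso (locHD φ K i)

theorem isGE_locD (K : Dual.D A) (a : ℤ) [K.IsGE a] : ((locD φ).obj K).IsGE a :=
  (DerivedCategory.isGE_iff _ a).2 fun i hi => isZero_locHD φ
    (ModuleCat.subsingleton_of_isZero (DerivedCategory.isZero_of_isGE K a i hi))

/-- The derived base change is the termwise one. -/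
def lBaseChangeObjIso [DRing.HasLBaseChange φ] (K : Dual.D A) :
    (DRing.LBaseChange φ).obj K ≅ (locD φ).obj K :=
  let h := DRingKP.exists_kProj_resolution (DerivedCategory.Q.objPreimage K)
  haveI := h.choose_spec.choose_spec.1
  haveI := h.choose_spec.choose_spec.2
  let e : DerivedCategory.Q.obj h.choose ≅ K :=
    asIso (DerivedCategory.Q.map h.choose_spec.choose) ≪≫ DerivedCategory.Q.objObjPreimageIso K
  (DRing.LBaseChange φ).mapIso e.symm ≪≫ DRingKP.lBaseChangeIso φ h.choose ≪≫ (locQ φ h.choose).symm ≪≫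
    (locD φ).mapIso e

variable (S : Submonoid A) [IsLocMap φ S] [IsNoetherianRing A]

omit [PreservesFiniteLimits (ext φ)] [IsLocMap φ S] in
theorem isStrictlyGE_bc (J : CochainComplex (ModuleCat.{u} A) ℤ) (a : ℤ) [J.IsStrictlyGE a] :
    ((DRingKP.bc φ).obj J).IsStrictlyGE a :=
  (CochainComplex.isStrictlyGE_iff _ a).2 fun i hi => (ext φ).map_isZero (J.isZero_of_isStrictlyGE a i hi)

include S in
omit [PreservesFiniteLimits (ext φ)] in
theorem isKInjective_bc (J : CochainComplex (ModuleCat.{u} A) ℤ) (a : ℤ) [J.IsStrictlyGE a]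
    (hJ : ∀ i, Injective (J.X i)) : ((DRingKP.bc φ).obj J).IsKInjective := by
  haveI := isStrictlyGE_bc φ J a
  haveI : ∀ i, Injective (((DRingKP.bc φ).obj J).X i) := fun i => by
    haveI := hJ i
    exact injective_ext (φ := φ) S (J.X i)
  exact CochainComplex.isKInjective_of_injective _ a

/-- Every map between localizations descends up to a denominator. -/
theorem exists_locD_map_eq {K L : Dual.D A} (c a : ℤ) [K.IsLE c] [L.IsGE a]
    (hK : ∀ i : ℤ, Module.Finite A (Dual.HD A K i)) (f : (locD φ).obj K ⟶ (locD φ).obj L) :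
    ∃ s ∈ S, ∃ g : K ⟶ L, φ s • f = (locD φ).map g := by
  obtain ⟨P, c', hc', hP, ⟨eP⟩⟩ := exists_freeRep K c hK
  obtain ⟨J, hJa, hJ, ⟨eJ⟩⟩ := exists_injRep L a
  haveI := hc'
  haveI := hJa
  haveI := isKInjective_bc φ S J a hJ
  obtain ⟨v, hv⟩ := DRingKP.exists_lift_inj
    ((locQ φ P).inv ≫ (locD φ).map eP.hom ≫ f ≫ (locD φ).map eJ.inv ≫ (locQ φ J).hom)
  obtain ⟨s, hs, g, hg⟩ := exists_chain_eq (φ := φ) S c' a hP v
  refine ⟨s, hs, eP.inv ≫ DerivedCategory.Q.map g ≫ eJ.hom, ?_⟩
  have h1 : (locD φ).map eP.inv ≫ (locD φ).map eP.hom = 𝟙 _ := by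
    rw [← Functor.map_comp, eP.inv_hom_id, CategoryTheory.Functor.map_id]
  have h2 : (locD φ).map eJ.inv ≫ (locD φ).map eJ.hom = 𝟙 _ := by
    rw [← Functor.map_comp, eJ.inv_hom_id, CategoryTheory.Functor.map_id]
  rw [Functor.map_comp, Functor.map_comp, locD_map_Q, ← hg, Functor.map_smul, hv]
  simp [Linear.smul_comp, Linear.comp_smul, h2, reassoc_of% h1]

/-- A map killed by localization is killed by a denominator. -/
theorem exists_smul_eq_zero_of_locD {K L : Dual.D A} (c a : ℤ) [K.IsLE c] [L.IsGE a]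
    (hK : ∀ i : ℤ, Module.Finite A (Dual.HD A K i)) (g : K ⟶ L) (hg : (locD φ).map g = 0) :
    ∃ s ∈ S, s • g = 0 := by
  obtain ⟨P, c', hc', hP, ⟨eP⟩⟩ := exists_freeRep K c hK
  obtain ⟨J, hJa, hJ, ⟨eJ⟩⟩ := exists_injRep L a
  haveI := hc'
  haveI := hJa
  haveI := isKInjective_bc φ S J a hJ
  haveI : J.IsKInjective := haveI := hJ; CochainComplex.isKInjective_of_injective J a
  obtain ⟨g0, hg0⟩ := DRingKP.exists_lift_inj (eP.hom ≫ g ≫ eJ.inv)
  have h0 : DerivedCategory.Q.map ((DRingKP.bc φ).map g0) = 0 := by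
    have h1 := congrArg (fun t => (locQ φ P).inv ≫ (locD φ).map t ≫ (locQ φ J).hom) hg0
    simp only [locD_map_Q, Category.assoc, Iso.inv_hom_id, Category.comp_id, Iso.inv_hom_id_assoc,
      Functor.map_comp, hg, zero_comp, comp_zero] at h1
    exact h1
  obtain ⟨s, hs, ⟨ho⟩⟩ := exists_homotopy_smul (φ := φ) S c' a hP g0 (DRingKP.exists_homotopy_inj _ h0).some
  refine ⟨s, hs, (cancel_epi eP.hom).1 ((cancel_mono eJ.inv).1 ?_)⟩
  have h2 : s • DerivedCategory.Q.map g0 = 0 := by
    rw [← Functor.map_smul, DerivedCategory.Q_map_eq_of_homotopy _ ho, Functor.map_zero]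
  rw [comp_zero, zero_comp, Linear.comp_smul, Linear.smul_comp, Category.assoc, ← hg0, h2]

include S in
theorem isDualizing_locD {ω : Dual.D A} (hω : Dual.IsDualizing A ω) :
    Dual.IsDualizing B ((locD φ).obj ω) := by
  letI := φ.toAlgebra
  haveI : IsLocalization S B := IsLocMap.isLocalization (φ := φ)
  haveI : IsNoetherianRing B := IsLocalization.isNoetherianRing S B inferInstance
  obtain ⟨R⟩ := nonempty_rep hω
  haveI : R.J.IsStrictlyGE R.a := (CochainComplex.isStrictlyGE_iff _ _).2 fun j hj => R.zero j (Or.inl hj)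
  haveI : R.J.IsStrictlyLE R.b := (CochainComplex.isStrictlyLE_iff _ _).2 fun j hj => R.zero j (Or.inr hj)
  haveI : ω.IsGE R.a := DerivedCategory.TStructure.t.isGE_of_iso R.iso R.a
  haveI : ω.IsLE R.b := DerivedCategory.TStructure.t.isLE_of_iso R.iso R.b
  have hamp : DRing.HasInjAmplitudeIn B R.a R.b ((locD φ).obj ω) :=
    ⟨(DRingKP.bc φ).obj R.J, fun i hi => (ext φ).map_isZero (R.zero i hi), fun i => by
      haveI := R.inj i
      exact (Module.injective_iff_injective_object B ((ext φ).obj (R.J.X i))).2 (injective_ext (φ := φ) S (R.J.X i)),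
      ⟨(locQ φ R.J).symm ≪≫ (locD φ).mapIso R.iso⟩⟩
  refine ⟨inferInstance, ⟨R.a, R.b, fun M _ _ i hi => DRingKP.ext_eq_zero_of_amp hamp (ModuleCat.of B M) i hi⟩,
    fun i => finite_locHD φ (hω.finite_cohomology i), ⟨fun x y hxy => ?_, fun f => ?_⟩, fun i hi => ?_⟩
  · obtain ⟨⟨a, s⟩, hs⟩ := IsLocalization.surj S (x - y)
    have hsu : IsUnit (φ s) := IsLocalization.map_units B s
    have h1 : φ a • 𝟙 ((locD φ).obj ω) = 0 := by
      rw [show φ a = φ s * (x - y) from hs.symm.trans (mul_comm _ _), mul_smul, sub_smul,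
        show x • 𝟙 _ = y • 𝟙 _ from hxy, sub_self, smul_zero]
    rw [← locD_smul_id] at h1
    obtain ⟨t, ht, hta⟩ := exists_smul_eq_zero_of_locD φ S R.b R.a hω.finite_cohomology _ h1
    have h2 : t * a = 0 := hω.toEnd_bijective.1 (by
      show (t * a) • 𝟙 ω = (0 : A) • 𝟙 ω
      rw [zero_smul, mul_smul, hta])
    have htu : IsUnit (φ t) := IsLocalization.map_units B ⟨t, ht⟩
    have h3 : φ t * φ a = 0 :=
      (map_mul φ t a).symm.trans ((congrArg φ h2).trans (map_zero φ))
    have h4 : φ a = 0 := htu.mul_right_eq_zero.1 h3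
    exact sub_eq_zero.1 (hsu.mul_left_eq_zero.1 (hs.trans h4))
  · obtain ⟨s, hs, g, hg⟩ := exists_locD_map_eq φ S R.b R.a hω.finite_cohomology f
    obtain ⟨a, rfl⟩ := hω.toEnd_bijective.2 g
    have hsu : IsUnit (φ s) := IsLocalization.map_units B ⟨s, hs⟩
    refine ⟨↑hsu.unit⁻¹ * φ a, ?_⟩
    show (↑hsu.unit⁻¹ * φ a) • 𝟙 _ = f
    rw [mul_smul, ← locD_smul_id, ← hg, smul_smul, IsUnit.val_inv_mul, one_smul]
  · haveI := hω.ext_self_subsingleton i hi
    haveI : (ω⟦i⟧).IsGE (R.a - i) := DerivedCategory.TStructure.t.isGE_shift ω R.a i (R.a - i) (by lia)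
    let e := ((locD φ).commShiftIso i).app ω
    refine subsingleton_of_forall_eq 0 fun f => ?_
    obtain ⟨s, hs, g, hg⟩ := exists_locD_map_eq φ S R.b (R.a - i) hω.finite_cohomology (f ≫ e.inv)
    rw [Subsingleton.elim g 0, Functor.map_zero] at hg
    exact (cancel_mono e.inv).1 ((((IsLocalization.map_units B ⟨s, hs⟩).smul_left_cancel).1
      (hg.trans (smul_zero _).symm)).trans zero_comp.symm)

end

end Groth.Agent.DualCx
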