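import Groth.Agent.DualCx.Basic
import Groth.Agent.Goren.Rees
import Groth.Agent.DRingKP.Modules
import Mathlib.RingTheory.Ideal.AssociatedPrime.Finiteness
import Mathlib.RingTheory.Support
import Mathlib.RingTheory.LocalRing.RingHom.Basic
import Mathlib.RingTheory.Nakayama

/-!
Vanishing of `Hom_D(M, ω[i])` at a prime.
-/

set_option autoImplicit false
set_option maxHeartbeats 1000000
universe u

namespace Groth.Agent.DualCx

open CategoryTheory Limits DerivedCategory Pretriangulated

attribute [local instance] HasDerivedCategory.standard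

noncomputable section

variable {A : Type u} [CommRing A] {ω : Dual.D A}

/-- `Hom_D(M, ω[i])` vanishes at `p`. -/
def Van (ω : Dual.D A) (p : Ideal A) (M : Type u) [AddCommGroup M] [Module A M] (i : ℤ) : Prop :=
  ∀ x : T ω M i, ∃ u ∉ p, u • x = 0

variable {p : Ideal A} [hp : p.IsPrime] {L M N : Type u} [AddCommGroup L] [Module A L] [AddCommGroup M] [Module A M]
  [AddCommGroup N] [Module A N] {i j : ℤ}

theorem van_iff : Van ω p M i ↔ Subsingleton (LocalizedModule p.primeCompl (T ω M i)) := by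
  rw [LocalizedModule.subsingleton_iff]
  exact ⟨fun h x => h x, fun h x => h x⟩

omit hp in
theorem van_of_subsingleton (hp : p ≠ ⊤) (h : Subsingleton (T ω M i)) : Van ω p M i :=
  fun x => ⟨1, fun h1 => hp ((Ideal.eq_top_iff_one p).2 h1), Subsingleton.elim _ _⟩

omit hp in
theorem van_mono {q : Ideal A} (hpq : p ≤ q) (h : Van ω q M i) : Van ω p M i := fun x => by
  obtain ⟨u, hu, hux⟩ := h x
  exact ⟨u, fun h' => hu (hpq h'), hux⟩

omit hp in
theorem van_of_killed {u : A} (hu : u ∉ p) (h : ∀ m : M, u • m = 0) : Van ω p M i :=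
  fun x => ⟨u, hu, smul_eq_zero_of_killed h x⟩

omit hp in
theorem van_congr (e : M ≃ₗ[A] N) (h : Van ω p M i) : Van ω p N i := fun x => by
  obtain ⟨u, hu, hux⟩ := h (congr ω i e x)
  exact ⟨u, hu, (congr ω i e).injective (by rw [map_smul, hux, map_zero])⟩

variable {f : L →ₗ[A] M} {g : M →ₗ[A] N}

theorem van_mid (h : SES f g) (h₁ : Van ω p L i) (h₃ : Van ω p N i) : Van ω p M i := fun x => by
  obtain ⟨u, hu, hux⟩ := h₁ (pre ω i f x)
  obtain ⟨y, hy⟩ := h.exact_mid (u • x) (by rw [map_smul, hux])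
  obtain ⟨v, hv, hvy⟩ := h₃ y
  exact ⟨v * u, fun h' => (hp.mem_or_mem h').elim hv hu, by rw [mul_smul, ← hy, ← map_smul, hvy, map_zero]⟩

theorem van_left (h : SES f g) (hij : i + 1 = j) (h₂ : Van ω p M i) (h₃ : Van ω p N j) : Van ω p L i := fun x => by
  obtain ⟨u, hu, hux⟩ := h₃ (h.delta ω hij x)
  obtain ⟨y, hy⟩ := h.exact_left hij (u • x) (by rw [map_smul, hux])
  obtain ⟨v, hv, hvy⟩ := h₂ y
  exact ⟨v * u, fun h' => (hp.mem_or_mem h').elim hv hu, by rw [mul_smul, ← hy, ← map_smul, hvy, map_zero]⟩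

theorem van_right (h : SES f g) (hij : i + 1 = j) (h₁ : Van ω p L i) (h₂ : Van ω p M j) : Van ω p N j := fun x => by
  obtain ⟨u, hu, hux⟩ := h₂ (pre ω j g x)
  obtain ⟨y, hy⟩ := h.exact_right hij (u • x) (by rw [map_smul, hux])
  obtain ⟨v, hv, hvy⟩ := h₁ y
  exact ⟨v * u, fun h' => (hp.mem_or_mem h').elim hv hu, by rw [mul_smul, ← hy, ← map_smul, hvy, map_zero]⟩

/-- Nakayama at `p`. -/
theorem van_of_div [Module.Finite A (T ω M i)] {c : A} (hc : c ∈ p)
    (h : ∀ x : T ω M i, ∃ u ∉ p, ∃ y, u • x = c • y) : Van ω p M i := by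
  rw [van_iff]
  let S := Localization.AtPrime p
  have hcm : algebraMap A S c ∈ IsLocalRing.maximalIdeal S :=
    (IsLocalization.AtPrime.to_map_mem_maximal_iff S p c).2 hc
  have hsurj : ∀ z : LocalizedModule p.primeCompl (T ω M i), ∃ w, algebraMap A S c • w = z := by
    intro z
    induction z using LocalizedModule.induction_on with
    | h x s =>
      obtain ⟨u, hu, y, hy⟩ := h x
      refine ⟨LocalizedModule.mk y (⟨u, hu⟩ * s), ?_⟩
      rw [algebraMap_smul, LocalizedModule.smul'_mk, ← hy]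
      exact LocalizedModule.mk_cancel_common_left ⟨u, hu⟩ s x
  have htop : (⊤ : Submodule S (LocalizedModule p.primeCompl (T ω M i))) = ⊥ :=
    Submodule.eq_bot_of_le_smul_of_le_jacobson_bot (IsLocalRing.maximalIdeal S) _ Module.Finite.fg_top
      (fun z _ => by
        obtain ⟨w, rfl⟩ := hsurj z
        exact Submodule.smul_mem_smul hcm Submodule.mem_top)
      (IsLocalRing.maximalIdeal_le_jacobson _)
  exact subsingleton_of_forall_eq 0 fun z => (Submodule.mem_bot S).1 (htop ▸ Submodule.mem_top)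

/-- Division by a regular element, with vanishing of the next degree. -/
theorem van_of_quot {c : A} (hc : c ∈ p) [Module.Finite A (T ω M i)] {g : M →ₗ[A] N}
    (h : SES (c • (LinearMap.id : M →ₗ[A] M)) g) (hij : i + 1 = j) (h₃ : Van ω p N j) : Van ω p M i :=
  van_of_div hc fun x => by
    obtain ⟨u, hu, hux⟩ := h₃ (h.delta ω hij x)
    obtain ⟨y, hy⟩ := h.exact_left hij (u • x) (by rw [map_smul, hux])
    exact ⟨u, hu, y, hy.symm.trans (pre_smul_id c y)⟩

variable [IsNoetherianRing A]

/-- Dévissage. -/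
theorem van_of_primes (M : Type u) [AddCommGroup M] [Module A M] [Module.Finite A M]
    (h : ∀ q : PrimeSpectrum A, q ∈ Module.support A M → q.asIdeal ≤ p → Van ω p (A ⧸ q.asIdeal) i) :
    Van ω p M i := by
  revert h
  refine IsNoetherianRing.induction_on_isQuotientEquivQuotientPrime (M := M)
    (motive := fun N _ _ _ => (∀ q : PrimeSpectrum A, q ∈ Module.support A N → q.asIdeal ≤ p →
      Van ω p (A ⧸ q.asIdeal) i) → Van ω p N i) A inferInstance ?_ ?_ ?_
  · intro N _ _ _ _ _
    exact van_of_subsingleton hp.ne_top subsingleton_of_subsingleton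
  · intro N _ _ _ q e hN
    by_cases hq : q.asIdeal ≤ p
    · refine van_congr e.symm (hN q ?_ hq)
      rw [e.support_eq, Module.support_eq_zeroLocus, Ideal.annihilator_quotient]
      exact PrimeSpectrum.mem_zeroLocus _ _ |>.2 le_rfl
    · obtain ⟨u, hu, hup⟩ := SetLike.not_le_iff_exists.1 hq
      refine van_congr e.symm (van_of_killed hup fun w => ?_)
      obtain ⟨a, rfl⟩ := Submodule.Quotient.mk_surjective _ w
      exact (Submodule.Quotient.mk_eq_zero _).2 (q.asIdeal.mul_mem_right a hu)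
  · intro N₁ _ _ _ N₂ _ _ _ N₃ _ _ _ f g hf hg hfg h₁ h₃ h
    exact van_mid ⟨hf, hfg, hg⟩ (h₁ fun q hq => h q (Module.support_subset_of_injective f hf hq))
      (h₃ fun q hq => h q (Module.support_subset_of_surjective g hg hq))

end

/-- A bounded object with homology killed by `u` is killed by a power of `u`. -/
theorem exists_pow_smul_id {A : Type u} [CommRing A] (u : A) (c d : ℤ) (K : Dual.D A)
    (hz : ∀ i, (i < c ∨ d < i) → IsZero ((DerivedCategory.homologyFunctor (ModuleCat.{u} A) i).obj K))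
    (hu : ∀ i, ∀ w : (DerivedCategory.homologyFunctor (ModuleCat.{u} A) i).obj K, u • w = 0) :
    ∃ n : ℕ, (u ^ n) • 𝟙 K = 0 := by
  suffices H : ∀ (k : ℕ) (d : ℤ) (K : Dual.D A), d < c + k →
      (∀ i, (i < c ∨ d < i) → IsZero ((DerivedCategory.homologyFunctor (ModuleCat.{u} A) i).obj K)) →
      (∀ i, ∀ w : (DerivedCategory.homologyFunctor (ModuleCat.{u} A) i).obj K, u • w = 0) →
      ∃ n : ℕ, (u ^ n) • 𝟙 K = 0 from H (d + 1 - c).toNat d K (by lia) hz hu
  intro k
  induction k with
  | zero =>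
    intro d K hd hz _
    haveI : K.IsLE (c - 1) := (DerivedCategory.isLE_iff K (c - 1)).2 fun i _ => hz i (by lia)
    haveI : K.IsGE c := (DerivedCategory.isGE_iff K c).2 fun i hi => hz i (Or.inl hi)
    exact ⟨0, (DerivedCategory.TStructure.t.isZero K (c - 1) c (by lia)).eq_of_src _ _⟩
  | succ k ih =>
    intro d K hd hz hu
    obtain ⟨X, B, f, g, w, hT, hX, hlt, ⟨e⟩⟩ := DRingKP.exists_top_triangle K d fun i hi => hz i (Or.inr (by lia))
    have hX' : ∀ i, (i < c ∨ d - 1 < i) → IsZero ((DerivedCategory.homologyFunctor (ModuleCat.{u} A) i).obj X) := by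
      intro i hi
      by_cases hi' : i < d
      · exact (hz i (by lia)).of_iso (hlt i hi').some
      · exact hX i (by lia)
    obtain ⟨n, hn⟩ := ih (d - 1) X (by lia) hX' (fun i => by
      by_cases hi' : i < d
      · intro w'
        obtain ⟨e'⟩ := hlt i hi'
        apply e'.toLinearEquiv.injective
        rw [map_smul, map_zero]; exact hu i _
      · intro w'
        have h0 := hX i (by lia : d ≤ i)
        haveI := ModuleCat.subsingleton_of_isZero h0
        exact Subsingleton.elim _ _)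
    have hB : u • 𝟙 B = 0 := by
      have h1 : u • 𝟙 ((DerivedCategory.homologyFunctor (ModuleCat.{u} A) d).obj K) = 0 :=
        ModuleCat.hom_ext (LinearMap.ext fun w' => hu d w')
      have h2 := congrArg ((DerivedCategory.singleFunctor (ModuleCat.{u} A) d).map) h1
      rw [Functor.map_smul, Functor.map_zero, CategoryTheory.Functor.map_id] at h2
      calc u • 𝟙 B = e.hom ≫ (u • 𝟙 _) ≫ e.inv := by simp
        _ = 0 := by rw [h2]; simp
    refine ⟨n + 1, ?_⟩
    have hf : f ≫ ((u ^ n) • 𝟙 K) = 0 := by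
      rw [Linear.comp_smul, Category.comp_id, ← Category.id_comp f, ← Linear.smul_comp, hn, zero_comp]
    obtain ⟨h, hh⟩ := Triangle.yoneda_exact₂ _ hT ((u ^ n) • 𝟙 K) hf
    have hh' : (u ^ n) • 𝟙 K = g ≫ h := hh
    rw [pow_succ', mul_smul, hh']
    calc u • (g ≫ h) = g ≫ ((u • 𝟙 B) ≫ h) := by simp
      _ = 0 := by rw [hB, zero_comp, comp_zero]

end Groth.Agent.DualCx
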