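import Groth.Agent.DualCx.RightAdjoint
import Groth.Agent.DualCx.LocD
import Groth.Agent.DualCx.Van
import Groth.Agent.DualCx.Bidual
import Groth.Prelude.Def_DDual2

/-!
`RHom_A(B, ω)` for a finite `A`-algebra `B`.
-/

set_option autoImplicit false
set_option maxHeartbeats 1000000
universe u

namespace Groth.Agent.DualCx

open CategoryTheory Limits DerivedCategory Pretriangulated

attribute [local instance] HasDerivedCategory.standard

noncomputable section

variable (A B : Type u) [CommRing A] [CommRing B] [Algebra A B]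

/-- Restriction of scalars. -/
abbrev res : ModuleCat.{u} B ⥤ ModuleCat.{u} A := ModuleCat.restrictScalars.{u} (algebraMap A B)

/-- Restriction on derived categories. -/
abbrev resD : Dual.D B ⥤ Dual.D A := DRing.restrictD (algebraMap A B)

/-- Coextension of scalars. -/
abbrev coext : ModuleCat.{u} A ⥤ ModuleCat.{u} B := ModuleCat.coextendScalars.{u, u, u} (algebraMap A B)

/-- The adjunction. -/
abbrev rcAdj : (res A B) ⊣ (coext A B) := ModuleCat.restrictCoextendScalarsAdj.{u, u, u} (algebraMap A B)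

variable {A B}

instance coext_additive : (coext A B).Additive := (rcAdj A B).right_adjoint_additive

theorem res_smul_id (a : A) (M : ModuleCat.{u} B) : (res A B).map (algebraMap A B a • 𝟙 M) = a • 𝟙 ((res A B).obj M) := rfl

theorem resD_smul_id (a : A) (K : Dual.D B) : (resD A B).map (algebraMap A B a • 𝟙 K) = a • 𝟙 ((resD A B).obj K) := by
  let e := DerivedCategory.Q.objObjPreimageIso K
  let C := DerivedCategory.Q.objPreimage K
  have h1 : algebraMap A B a • 𝟙 K = e.inv ≫ DerivedCategory.Q.map (algebraMap A B a • 𝟙 C) ≫ e.hom := by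
    rw [Functor.map_smul, CategoryTheory.Functor.map_id, Linear.smul_comp, Category.id_comp, Linear.comp_smul,
      e.inv_hom_id]
  have h2 : ((res A B).mapHomologicalComplex (ComplexShape.up ℤ)).map (algebraMap A B a • 𝟙 C) =
      a • 𝟙 (((res A B).mapHomologicalComplex (ComplexShape.up ℤ)).obj C) := HomologicalComplex.hom_ext _ _ fun i => by
    show (res A B).map (algebraMap A B a • 𝟙 (C.X i)) = a • 𝟙 ((res A B).obj (C.X i))
    exact res_smul_id a (C.X i)
  rw [h1, Functor.map_comp, Functor.map_comp]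
  rw [← cancel_epi ((resD A B).map e.hom), ← Functor.map_comp_assoc, e.hom_inv_id, CategoryTheory.Functor.map_id,
    Category.id_comp, Linear.comp_smul, Category.comp_id, ← cancel_mono ((resD A B).map e.inv), Category.assoc,
    ← Functor.map_comp, e.hom_inv_id, CategoryTheory.Functor.map_id, Category.comp_id, Linear.smul_comp,
    ← Functor.map_comp, e.hom_inv_id, CategoryTheory.Functor.map_id]
  rw [← cancel_mono ((res A B).mapDerivedCategoryFactors.hom.app C)]
  erw [Functor.mapDerivedCategoryFactors_hom_naturality, h2]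
  rw [Functor.map_smul, CategoryTheory.Functor.map_id, Linear.smul_comp]
  erw [Linear.comp_smul, Category.comp_id, Category.id_comp]

theorem resD_smul (a : A) {K L : Dual.D B} (g : K ⟶ L) :
    (resD A B).map (algebraMap A B a • g) = a • (resD A B).map g := by
  rw [show algebraMap A B a • g = g ≫ (algebraMap A B a • 𝟙 L) by rw [Linear.comp_smul, Category.comp_id],
    Functor.map_comp, resD_smul_id, Linear.comp_smul, Category.comp_id]

/-- `RHom_A(B, J)`. -/
abbrev coJ (J : CochainComplex (ModuleCat.{u} A) ℤ) : CochainComplex (ModuleCat.{u} B) ℤ :=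
  ((coext A B).mapHomologicalComplex (ComplexShape.up ℤ)).obj J

/-- A universal pair: `W` represents `Hom_A((res A B) -, L)`. -/
def IsRA (W : Dual.D B) (L : Dual.D A) (c : (resD A B).obj W ⟶ L) : Prop :=
  ∀ X : Dual.D B, Function.Bijective (fun v : X ⟶ W => (resD A B).map v ≫ c)

theorem isRA_coJ (J : CochainComplex (ModuleCat.{u} A) ℤ) [J.IsKInjective] {L : Dual.D A}
    (e : DerivedCategory.Q.obj J ≅ L) :
    IsRA (DerivedCategory.Q.obj (coJ (B := B) J)) L (raCounit (rcAdj A B) J ≫ e.hom) := fun X => by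
  have h := (Iso.homCongr (Iso.refl ((resD A B).obj X)) e).bijective.comp (raCounit_bijective (rcAdj A B) J X)
  convert h using 1
  funext v
  simp [Iso.homCongr_apply]

theorem IsRA.nonempty_iso {W : Dual.D B} {L : Dual.D A} {c : (resD A B).obj W ⟶ L} (h : IsRA W L c)
    {R : Dual.D A ⥤ Dual.D B} (adj : DRing.restrictD (algebraMap A B) ⊣ R) : Nonempty (W ≅ R.obj L) :=
  nonempty_iso_of_adj adj c h

variable {W : Dual.D B} {L : Dual.D A} (c : (resD A B).obj W ⟶ L)

/-- The shifted comparison. -/
def raMap (i : ℤ) (X : Dual.D B) (f : X ⟶ W⟦i⟧) : (resD A B).obj X ⟶ L⟦i⟧ :=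
  (resD A B).map f ≫ ((resD A B).commShiftIso i).hom.app W ≫ c⟦i⟧'

theorem raMap_smul (i : ℤ) (X : Dual.D B) (a : A) (f : X ⟶ W⟦i⟧) :
    raMap c i X (algebraMap A B a • f) = a • raMap c i X f := by
  rw [raMap, resD_smul, Linear.smul_comp]
  rfl

theorem raMap_add (i : ℤ) (X : Dual.D B) (f g : X ⟶ W⟦i⟧) :
    raMap c i X (f + g) = raMap c i X f + raMap c i X g := by
  rw [raMap, Functor.map_add, Preadditive.add_comp]
  rfl

variable {c}

theorem IsRA.raMap_bijective (h : IsRA W L c) (i : ℤ) (X : Dual.D B) : Function.Bijective (raMap c i X) := by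
  suffices H : ∀ X' : Dual.D B, Function.Bijective (raMap c i (X'⟦i⟧)) by
    let e : (X⟦-i⟧)⟦i⟧ ≅ X := (shiftFunctorCompIsoId (Dual.D B) (-i) i (by lia)).app X
    have heq : raMap c i X = (fun g => (resD A B).map e.inv ≫ g) ∘ raMap c i ((X⟦-i⟧)⟦i⟧) ∘ fun f => e.hom ≫ f := by
      funext f
      show _ = (resD A B).map e.inv ≫ (resD A B).map (e.hom ≫ f) ≫ ((resD A B).commShiftIso i).hom.app W ≫ c⟦i⟧'
      rw [← Functor.map_comp_assoc, e.inv_hom_id_assoc]
      rfl
    rw [heq]
    refine Function.Bijective.comp ?_ ((H _).comp ?_)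
    · exact ⟨fun a b h => (cancel_epi ((resD A B).map e.inv)).1 h, fun g => ⟨(resD A B).map e.hom ≫ g, by
        show (resD A B).map e.inv ≫ (resD A B).map e.hom ≫ g = g
        rw [← Functor.map_comp_assoc, e.inv_hom_id, CategoryTheory.Functor.map_id, Category.id_comp]⟩⟩
    · exact ⟨fun a b h => (cancel_epi e.hom).1 h, fun g => ⟨e.inv ≫ g, e.hom_inv_id_assoc g⟩⟩
  intro X'
  have heq : raMap c i (X'⟦i⟧) ∘ (fun v : X' ⟶ W => v⟦i⟧') =
      (fun u : (resD A B).obj X' ⟶ L => ((resD A B).commShiftIso i).hom.app X' ≫ u⟦i⟧') ∘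
        fun v => (resD A B).map v ≫ c := by
    funext v
    show (resD A B).map (v⟦i⟧') ≫ _ ≫ c⟦i⟧' = _ ≫ ((resD A B).map v ≫ c)⟦i⟧'
    rw [Functor.map_comp]
    exact ((resD A B).commShiftIso i).hom.naturality_assoc v _
  have hs : Function.Bijective (fun v : X' ⟶ W => v⟦i⟧') :=
    (Functor.FullyFaithful.ofFullyFaithful (shiftFunctor (Dual.D B) i)).map_bijective _ _
  refine (Function.Bijective.of_comp_iff _ hs).1 ?_
  rw [heq]
  refine Function.Bijective.comp ?_ (h X')
  exact (Iso.homFromEquiv (((resD A B).commShiftIso i).app X').symm).bijective.comp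
    ((Functor.FullyFaithful.ofFullyFaithful (shiftFunctor (Dual.D A) i)).map_bijective _ _)

omit [Algebra A B] in
/-- An isomorphism from a bijection. -/
def isoMk {X Y : ModuleCat.{u} A} (f : X → Y) (g : Y → X) (hadd : ∀ x y, f (x + y) = f x + f y)
    (hsmul : ∀ (a : A) x, f (a • x) = a • f x) (hl : ∀ x, g (f x) = x) (hr : ∀ y, f (g y) = y) : X ≅ Y :=
  LinearEquiv.toModuleIso
    { toFun := f, invFun := g, map_add' := hadd, map_smul' := hsmul, left_inv := hl, right_inv := hr }

/-- Restriction of the ring itself. -/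
def resSelf : (res A B).obj (ModuleCat.of B B) ≅ ModuleCat.of A B :=
  isoMk (fun x : B => x) (fun x : B => x) (fun _ _ => rfl) (fun a (x : B) => (Algebra.smul_def a x).symm)
    (fun _ => rfl) (fun _ => rfl)

theorem IsRA.subsingleton_T (h : IsRA W L c) (M : Type u) [AddCommGroup M] [Module B M] (i : ℤ)
    (hM : Subsingleton (T L ((res A B).obj (ModuleCat.of B M) : ModuleCat.{u} A) i)) : Subsingleton (T W M i) :=
  (Equiv.ofBijective _ (h.raMap_bijective i (Dual.inD B M))).subsingleton_congr.2
    ((Iso.homCongr (((res A B).mapDerivedCategorySingleFunctor 0).app (ModuleCat.of B M)) (Iso.refl (L⟦i⟧))).subsingleton_congr.2 hM)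

variable [IsNoetherianRing A] [Module.Finite A B]

theorem IsRA.finite_hd (h : IsRA W L c) (hfin : ∀ i : ℤ, Module.Finite A (Dual.HD A L i)) {a : ℤ}
    (hlow : ∀ i : ℤ, i < a → Subsingleton (Dual.HD A L i)) (i : ℤ) : Module.Finite B (Dual.HD B W i) := by
  haveI := finite_T_coh hfin hlow B i
  let e0 : Dual.inD A B ≅ (resD A B).obj (Dual.inD B B) :=
    (DerivedCategory.singleFunctor (ModuleCat.{u} A) 0).mapIso (resSelf (A := A) (B := B)).symm ≪≫
      (((res A B).mapDerivedCategorySingleFunctor 0).app (ModuleCat.of B B)).symm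
  let Ψ : T W B i → T L B i := fun f => e0.hom ≫ raMap c i _ f
  have hΨ : Function.Bijective Ψ :=
    (show Function.Bijective (fun g => e0.hom ≫ g) from
      ⟨fun _ _ h => (cancel_epi e0.hom).1 h, fun g => ⟨e0.inv ≫ g, e0.hom_inv_id_assoc g⟩⟩).comp
      (h.raMap_bijective i (Dual.inD B B))
  obtain ⟨G, hG⟩ := Module.finite_def.1 (inferInstance : Module.Finite A (T L B i))
  choose g hg using fun y => hΨ.2 y
  classical
  haveI : Module.Finite B (T W B i) := Module.finite_def.2 ⟨G.image g, by
    refine eq_top_iff.2 fun f _ => ?_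
    have hy : Ψ f ∈ Submodule.span A (G : Set (T L B i)) := hG.symm ▸ Submodule.mem_top
    suffices H : ∀ y ∈ Submodule.span A (G : Set (T L B i)), g y ∈ Submodule.span B (G.image g : Set (T W B i)) by
      have := H _ hy
      rwa [show g (Ψ f) = f from hΨ.1 (hg _)] at this
    intro y hy
    induction hy using Submodule.span_induction with
    | mem y hy => exact Submodule.subset_span (Finset.mem_image_of_mem g hy)
    | zero =>
      have h0 : g 0 = 0 := hΨ.1 ((hg 0).trans (by simp [Ψ, raMap]))
      rw [h0]; exact Submodule.zero_mem _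
    | add y z _ _ hy hz =>
      have h1 : g (y + z) = g y + g z := hΨ.1 ((hg _).trans (by
        show _ = e0.hom ≫ raMap c i _ (g y + g z)
        rw [raMap_add, Preadditive.comp_add]
        exact congrArg₂ (· + ·) (hg y).symm (hg z).symm))
      rw [h1]; exact Submodule.add_mem _ hy hz
    | smul t y _ hy =>
      have h1 : g (t • y) = algebraMap A B t • g y := hΨ.1 ((hg _).trans (by
        show _ = e0.hom ≫ raMap c i _ (algebraMap A B t • g y)
        rw [raMap_smul, Linear.comp_smul]
        exact congrArg (t • ·) (hg y).symm))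
      rw [h1]; exact Submodule.smul_mem _ _ hy⟩
  exact Module.Finite.equiv (homEquiv W i)

section Dualizing

variable {ω : Dual.D A} (R : Rep ω)

omit [IsNoetherianRing A] [Module.Finite A B] in
/-- `(res A B) ((coext A B) J)` is `Hom_A(B, J)`. -/
def resCoJ : ((res A B).mapHomologicalComplex (ComplexShape.up ℤ)).obj (coJ (B := B) R.J) ≅ R.D B :=
  HomologicalComplex.Hom.isoOfComponents (fun n => isoMk
    (fun g : ((coext A B).obj (R.J.X n) : Type u) =>
      ((resSelf (A := A) (B := B)).inv ≫
        ModuleCat.ofHom (X := (res A B).obj (ModuleCat.of B B))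
          (ModuleCat.CoextendScalars.equiv (algebraMap A B) (R.J.X n) g) : ModuleCat.of A B ⟶ R.J.X n))
    (fun h : ModuleCat.of A B ⟶ R.J.X n =>
      (ModuleCat.CoextendScalars.equiv (algebraMap A B) (R.J.X n)).symm ((resSelf (A := A) (B := B)).hom ≫ h).hom)
    (fun _ _ => rfl)
    (fun a g => ModuleCat.hom_ext (LinearMap.ext fun (x : B) => by
      show (ModuleCat.CoextendScalars.equiv (algebraMap A B) (R.J.X n) g) (x * algebraMap A B a) =
        a • (ModuleCat.CoextendScalars.equiv (algebraMap A B) (R.J.X n) g) x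
      rw [mul_comm]
      exact (ModuleCat.CoextendScalars.equiv (algebraMap A B) (R.J.X n) g).map_smul a (x : (res A B).obj (ModuleCat.of B B))))
    (fun _ => rfl) (fun _ => rfl))
    (fun i j _ => ModuleCat.hom_ext (LinearMap.ext fun _ => rfl))

omit [IsNoetherianRing A] [Module.Finite A B] in
theorem resCoJ_ev (b : B) :
    ((res A B).mapHomologicalComplex (ComplexShape.up ℤ)).map (b • 𝟙 (coJ (B := B) R.J)) ≫
      (KInj.mapHomologicalComplexAdj (rcAdj A B) (ComplexShape.up ℤ)).counit.app R.J =
      (resCoJ R).hom ≫ R.ev b := by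
  refine HomologicalComplex.hom_ext _ _ fun n => ModuleCat.hom_ext (LinearMap.ext fun g => ?_)
  show (ModuleCat.CoextendScalars.equiv (algebraMap A B) (R.J.X n) g) ((1 : B) * b) = _
  rw [one_mul]
  rfl

theorem isDualizing_coJ [IsNoetherianRing B] (hω : Dual.IsDualizing A ω) :
    Dual.IsDualizing B (DerivedCategory.Q.obj (coJ (B := B) R.J)) := by
  haveI := R.isKInjective
  have h := isRA_coJ (B := B) R.J R.iso
  let c := raCounit (rcAdj A B) R.J ≫ R.iso.hom
  let W := DerivedCategory.Q.obj (coJ (B := B) R.J)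
  let eW : (resD A B).obj W ≅ DerivedCategory.Q.obj (R.D B) :=
    (res A B).mapDerivedCategoryFactors.app (coJ R.J) ≪≫ DerivedCategory.Q.mapIso (resCoJ R)
  obtain ⟨a, b, hab⟩ := hω.finite_injective_dimension
  have hlow : ∀ i : ℤ, i < a → Subsingleton (Dual.HD A ω i) := fun i hi =>
    (homEquiv ω i).toEquiv.subsingleton_congr.1 (hab A i (Or.inl hi))
  refine ⟨inferInstance, ⟨a, b, fun M _ _ i hi => h.subsingleton_T M i (hab _ i hi)⟩,
    fun i => h.finite_hd hω.finite_cohomology hlow i, ?_, fun i hi => ?_⟩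
  · have hkey : (fun v : W ⟶ W => (resD A B).map v ≫ c) ∘ (fun x : B => x • 𝟙 W) =
        (fun g : R.G B 0 => eW.hom ≫ g ≫ ((shiftFunctorZero (Dual.D A) ℤ).app ω).hom) ∘ R.eta B := by
      funext x
      show (resD A B).map (x • 𝟙 W) ≫ c = eW.hom ≫ (DerivedCategory.Q.map (R.ev x) ≫ R.iso.hom ≫
        ((shiftFunctorZero (Dual.D A) ℤ).app ω).inv) ≫ ((shiftFunctorZero (Dual.D A) ℤ).app ω).hom
      rw [show x • 𝟙 W = DerivedCategory.Q.map (x • 𝟙 (coJ R.J)) by
        rw [Functor.map_smul, CategoryTheory.Functor.map_id]]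
      show (resD A B).map _ ≫ raCounit _ _ ≫ R.iso.hom = _
      rw [raCounit, Category.assoc, Category.assoc, Category.assoc, Iso.inv_hom_id, Category.comp_id]
      erw [Functor.mapDerivedCategoryFactors_hom_naturality_assoc]
      rw [← Functor.map_comp_assoc, resCoJ_ev, Functor.map_comp]
      simp [eW]
    have hbij : Function.Bijective ((fun v : W ⟶ W => (resD A B).map v ≫ c) ∘ fun x : B => x • 𝟙 W) := by
      rw [hkey]
      refine Function.Bijective.comp ?_ (R.eta_bijective hω B)
      exact (Iso.homCongr eW.symm ((shiftFunctorZero (Dual.D A) ℤ).app ω)).bijective.comp Function.bijective_id |>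
        fun hh => by convert hh using 1; funext g; simp [Iso.homCongr_apply]
    exact (Function.Bijective.of_comp_iff' (h W) _).1 hbij
  · refine (Equiv.ofBijective _ (h.raMap_bijective i W)).subsingleton_congr.2 ?_
    exact (Iso.homCongr eW (Iso.refl (ω⟦i⟧))).subsingleton_congr.2 (R.subsingleton_G_ne hω B hi)

theorem isDualizing_rightAdjoint [IsNoetherianRing B] (hω : Dual.IsDualizing A ω) {Rf : Dual.D A ⥤ Dual.D B}
    (adj : DRing.restrictD (algebraMap A B) ⊣ Rf) : Dual.IsDualizing B (Rf.obj ω) := by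
  obtain ⟨R⟩ := nonempty_rep hω
  haveI := R.isKInjective
  obtain ⟨e⟩ := (isRA_coJ (B := B) R.J R.iso).nonempty_iso adj
  exact isDualizing_of_iso e (isDualizing_coJ R hω)

theorem isRA_counit {Rf : Dual.D A ⥤ Dual.D B} (adj : DRing.restrictD (algebraMap A B) ⊣ Rf) (L : Dual.D A) :
    IsRA (Rf.obj L) L (adj.counit.app L) := fun X => by
  have h := (adj.homEquiv X L).symm.bijective
  convert h using 1
  funext v
  exact (adj.homEquiv_counit X L v).symm

end Dualizing

end

end Groth.Agent.DualCx
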