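import Groth.Agent.DualCx.PolyDual
import Groth.Agent.DualCx.FiniteMap
import Groth.Agent.DualCx.LocalizeDual
import Mathlib.RingTheory.EssentialFiniteness
import Mathlib.RingTheory.FiniteType
import Mathlib.RingTheory.Polynomial.Basic
import Mathlib.Algebra.MvPolynomial.Equiv

/-!
Dualizing complexes exist along finite, polynomial, and essentially finite type extensions.
-/

set_option autoImplicit false
set_option linter.style.haveILetI false
set_option maxHeartbeats 1000000
universe u

namespace Groth.Agent.DualCx.EssFin

open CategoryTheory Polynomial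

attribute [local instance] HasDerivedCategory.standard

noncomputable section

/-- Existence of a dualizing complex. -/
def HasDual (A : Type u) [CommRing A] : Prop := ∃ ω : Dual.D A, Dual.IsDualizing A ω

theorem of_finite {A : Type u} [CommRing A] [IsNoetherianRing A] (h : HasDual A) (B : Type u) [CommRing B]
    [Algebra A B] [Module.Finite A B] : HasDual B := by
  obtain ⟨ω, hω⟩ := h
  haveI : IsNoetherianRing B := IsNoetherianRing.of_finite A B
  obtain ⟨R⟩ := nonempty_rep hω
  exact ⟨_, isDualizing_coJ R hω⟩

theorem of_surjective {A : Type u} [CommRing A] [IsNoetherianRing A] (h : HasDual A) {B : Type u} [CommRing B]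
    (f : A →+* B) (hf : Function.Surjective f) : HasDual B := by
  letI := f.toAlgebra
  haveI : Module.Finite A B := Module.Finite.of_surjective (Algebra.linearMap A B) hf
  exact of_finite h B

theorem polynomial {A : Type u} [CommRing A] [IsNoetherianRing A] (h : HasDual A) : HasDual A[X] := by
  obtain ⟨ω, hω⟩ := h
  obtain ⟨R⟩ := nonempty_rep hω
  exact ⟨_, Poly.isDualizing_poly R.J R.a R.b R.zero R.inj (Loc.isDualizing_of_iso R.iso.symm hω)⟩

theorem mvPolynomial {A : Type u} [CommRing A] [IsNoetherianRing A] (h : HasDual A) :
    ∀ n : ℕ, HasDual (MvPolynomial (Fin n) A)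
  | 0 => of_surjective h (MvPolynomial.isEmptyAlgEquiv A (Fin 0)).symm.toRingEquiv.toRingHom
      (MvPolynomial.isEmptyAlgEquiv A (Fin 0)).symm.surjective
  | n + 1 => of_surjective (polynomial (mvPolynomial h n))
      (MvPolynomial.finSuccEquiv A n).symm.toRingEquiv.toRingHom (MvPolynomial.finSuccEquiv A n).symm.surjective

theorem localization {A : Type u} [CommRing A] [IsNoetherianRing A] (h : HasDual A) (S : Submonoid A) (B : Type u)
    [CommRing B] [Algebra A B] [IsLocalization S B] : HasDual B := by
  obtain ⟨ω, hω⟩ := h
  obtain ⟨R⟩ := nonempty_rep hω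
  exact ⟨_, Loc.isDualizing_bc (B := B) S R.J R.a R.b R.zero R.inj (Loc.isDualizing_of_iso R.iso.symm hω)⟩

theorem essFiniteType {A : Type u} [CommRing A] [IsNoetherianRing A] (h : HasDual A) (B : Type u) [CommRing B]
    [Algebra A B] [Algebra.EssFiniteType A B] : HasDual B := by
  let C := Algebra.EssFiniteType.subalgebra A B
  haveI : Algebra.FiniteType A C := inferInstance
  obtain ⟨n, f, hf⟩ := Algebra.FiniteType.iff_quotient_mvPolynomial''.1 (inferInstance : Algebra.FiniteType A C)
  have hC : HasDual C := of_surjective (mvPolynomial h n) f.toRingHom hf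
  haveI : IsNoetherianRing C := Algebra.FiniteType.isNoetherianRing A C
  exact localization hC (Algebra.EssFiniteType.submonoid A B) B

end

end Groth.Agent.DualCx.EssFin
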