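import Groth.Agent.DualCx.Pairing
import Groth.Agent.DualCx.Apps
import Groth.Agent.LocH.Noetherian
import Groth.Agent.LocH.Grothendieck
import Groth.Agent.LocH.TildeCompl

/-!
Local duality: `Hⁱ_𝔪(M) ≅ Hom(Hom_D(M, ω[-i]), E)`.
-/

set_option autoImplicit false
set_option maxHeartbeats 1000000
universe u v

namespace Groth.Agent.DualCx

open CategoryTheory Limits DerivedCategory Pretriangulated Abelian IsLocalRing

attribute [local instance] HasDerivedCategory.standard

noncomputable section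

variable {A : Type u} [CommRing A] [IsLocalRing A] [IsNoetherianRing A] {ω : Dual.D A}
  {E : Type u} [AddCommGroup E] [Module A E]

theorem exists_factor (hE : Module.Injective A E) {X Y : Type v} [AddCommGroup X] [Module A X] [AddCommGroup Y]
    [Module A Y] (p : X →ₗ[A] Y) (l : X →ₗ[A] E) (h : LinearMap.ker p ≤ LinearMap.ker l) :
    ∃ l' : Y →ₗ[A] E, l'.comp p = l := by
  let p' := (LinearMap.ker p).liftQ p le_rfl
  obtain ⟨l', hl⟩ := (Module.Baer.of_injective hE).extension_property p'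
    (LinearMap.ker_eq_bot.1 (Submodule.ker_liftQ_eq_bot _ _ _ le_rfl)) ((LinearMap.ker p).liftQ l h)
  exact ⟨l', LinearMap.ext fun x => LinearMap.congr_fun hl (Submodule.Quotient.mk x)⟩

theorem exists_kill (hE : LocCoh.IsPowerTorsion (maximalIdeal A) E) {X : Type v} [AddCommGroup X] [Module A X]
    [Module.Finite A X] (l : X →ₗ[A] E) : ∃ k : ℕ, ∀ a ∈ maximalIdeal A ^ k, a • l = 0 := by
  obtain ⟨s, hs⟩ := Module.Finite.fg_top (R := A) (M := X)
  choose k hk using fun x : X => hE (l x)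
  refine ⟨s.sup k, fun a ha => LinearMap.ext_on hs fun x hx => ?_⟩
  show a • l x = 0
  exact hk x a (Ideal.pow_le_pow_right (Finset.le_sup (f := k) hx) ha)

theorem exists_regular {M : Type u} [AddCommGroup M] [Module A M] [Module.Finite A M] [Nontrivial M]
    (h : DRing.torsionSub (maximalIdeal A) M = ⊥) : ∃ x ∈ maximalIdeal A, IsSMulRegular M x := by
  obtain ⟨n, hn⟩ := FlatDepth.exists_socSeq (R := A) M
  cases n with
  | zero =>
    obtain ⟨_ | ⟨r, rs⟩, hl, -, -, x, hx, hax⟩ := hn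
    swap
    · simp at hl
    obtain ⟨y, rfl⟩ := Submodule.Quotient.mk_surjective _ x
    refine absurd ?_ hx
    rw [(Submodule.eq_bot_iff _).1 h y ⟨1, fun a ha => ?_⟩, Submodule.Quotient.mk_zero]
    rw [pow_one] at ha
    have h1 := hax a ha
    rwa [← Submodule.Quotient.mk_smul, Submodule.Quotient.mk_eq_zero, FlatDepth.ofList_nil_smul, Submodule.mem_bot] at h1
  | succ n =>
    obtain ⟨r, hr, hreg, -⟩ := FlatDepth.socSeq_uncons hn
    exact ⟨r, hr, hreg⟩

variable (hω : Dual.IsDualizing A ω) (hn : Dual.IsNormalized A ω) {f : (A ⧸ maximalIdeal A) →ₗ[A] E}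
  (hf : InjHull.IsInjectiveHull f) (Φ : Fam ω E)

theorem deg (i : ℕ) : -(i : ℤ) + (i : ℤ) = 0 := neg_add_cancel _

/-- The duality map in degree `i`. -/
abbrev Fam.th (M : Type u) [AddCommGroup M] [Module A M] (i : ℕ) :
    LocCoh.H (maximalIdeal A) i M →ₗ[A] (T ω M (-(i : ℤ)) →ₗ[A] E) :=
  Φ.theta (ModuleCat.of A M) i (deg i)

variable {M N : Type u} [AddCommGroup M] [Module A M] [AddCommGroup N] [Module A N]

theorem theta0_mk₀ {n : ℕ} (g : LocH.quotObj (maximalIdeal A) n ⟶ ModuleCat.of A M) (x : T ω M (-((0 : ℕ) : ℤ))) :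
    Φ.theta0 (Ext.mk₀ g) (deg 0) x = Φ.φ n (pre ω 0 (g.hom.comp (tr (Nat.le_succ n))) x) := by
  have h1 : pair (Ext.mk₀ g) (deg 0) x = pre ω 0 g.hom x := by
    show (Ext.mk₀ g).hom.comp x (deg 0) = _
    rw [Ext.mk₀_hom, ShiftedHom.mk₀_comp]
    rfl
  simp only [Fam.theta0, LinearMap.comp_apply]
  rw [pre_comp]
  exact congrArg (fun z => Φ.φ n (pre ω 0 (tr (Nat.le_succ n)) z)) h1

include hω hn

theorem inj_zero [Module.Finite A M] : Function.Injective (Φ.th M 0) := by
  refine (injective_iff_map_eq_zero _).2 fun y hy => ?_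
  obtain ⟨n, α, rfl⟩ := LocH.exists_hι y
  obtain ⟨g, rfl⟩ := (Ext.mk₀_bijective _ _).2 α
  let P : Q A (n + 1) →ₗ[A] M := g.hom.comp (tr (Nat.le_succ n))
  have hP : ∀ x : T ω M 0, pre ω 0 P x = 0 := fun x => (injective_iff_map_eq_zero (Φ.φ n)).1 (Φ.inj n) _ (by
    rw [← theta0_mk₀ Φ g x, ← Φ.theta_hι]
    exact LinearMap.congr_fun hy x)
  have hC : IsFiniteLength A (LinearMap.range P) :=
    InjHull.isFiniteLength_of_pow_smul_eq_zero (maximalIdeal A) (n + 1) _ inferInstance fun a ha w => Subtype.ext (by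
      obtain ⟨v, hv⟩ := w.2
      obtain ⟨c, rfl⟩ := Submodule.Quotient.mk_surjective _ v
      show a • (w : M) = 0
      rw [← hv, ← map_smul, ← Submodule.Quotient.mk_smul,
        (Submodule.Quotient.mk_eq_zero _).2 (show a • c ∈ maximalIdeal A ^ (n + 1) from Ideal.mul_mem_right _ _ ha), map_zero])
  have hsub : Subsingleton (T ω (LinearMap.range P) 0) := subsingleton_of_forall_eq 0 fun z => by
    obtain ⟨x, rfl⟩ := (ses_quot (LinearMap.range P)).exact_left (show (0 : ℤ) + 1 = 1 by rfl) z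
      (@Subsingleton.elim _ ((van_maximal_iff _).1 (van_pos hn hω (by lia))) _ _)
    refine (injective_iff_map_eq_zero _).1
      (pre_injective_of_surjective hω hn P.surjective_rangeRestrict (finite_Q _)) _ ?_
    rw [← pre_comp, show (LinearMap.range P).subtype.comp P.rangeRestrict = P from rfl, hP]
  have hP0 : LinearMap.range P = ⊥ := by
    have h1 := length_T hω hn hC
    rw [Module.length_eq_zero (R := A) (M := T ω (LinearMap.range P) 0)] at h1
    exact Submodule.subsingleton_iff_eq_bot.1 (Module.length_eq_zero_iff.1 h1.symm)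
  have hg : g = 0 := ModuleCat.hom_ext (Submodule.linearMap_qext _ (LinearMap.ext_ring (by
    exact (Submodule.mem_bot A).1 (hP0.le ⟨Submodule.Quotient.mk 1, rfl⟩))))
  rw [hg, Ext.mk₀_zero, map_zero]

include hf

theorem surj_zero [Module.Finite A M] : Function.Surjective (Φ.th M 0) := by
  intro l
  let Γ := DRing.torsionSub (maximalIdeal A) M
  have hΓt : LocCoh.IsPowerTorsion (maximalIdeal A) Γ := fun ⟨y, k, hk⟩ => ⟨k, fun a ha => Subtype.ext (hk a ha)⟩
  obtain ⟨k, hk⟩ := InjHull.exists_pow_smul_eq_zero hΓt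
  have hk' : ∀ a ∈ maximalIdeal A ^ (k + 1), ∀ y : Γ, a • y = 0 := fun a ha y =>
    hk a (Ideal.pow_le_pow_right (Nat.le_succ k) ha) y
  have hΓ : IsFiniteLength A Γ := InjHull.isFiniteLength_of_pow_smul_eq_zero _ (k + 1) _ inferInstance hk'
  have hvan : Subsingleton (T ω (M ⧸ Γ) 0) := by
    by_cases hnt : Nontrivial (M ⧸ Γ)
    · have hbot : DRing.torsionSub (maximalIdeal A) (M ⧸ Γ) = ⊥ := by
        rw [Submodule.eq_bot_iff]
        rintro w ⟨j, hj⟩
        obtain ⟨y, rfl⟩ := Submodule.Quotient.mk_surjective _ w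
        refine (Submodule.Quotient.mk_eq_zero _).2 ⟨k + j, fun a ha => ?_⟩
        rw [pow_add] at ha
        refine Submodule.smul_induction_on ha (fun b hb c hc => ?_) fun b c hb hc => by rw [add_smul, hb, hc, add_zero]
        have h1 := hj c hc
        rw [← Submodule.Quotient.mk_smul, Submodule.Quotient.mk_eq_zero] at h1
        rw [smul_eq_mul, mul_smul]
        exact congrArg Subtype.val (hk b hb ⟨c • y, h1⟩)
      obtain ⟨x, hx, hreg⟩ := exists_regular hbot
      obtain ⟨n, hn'⟩ := FlatDepth.exists_socSeq (R := A) (M ⧸ Γ)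
      obtain rfl | hpos := n.eq_zero_or_pos
      · obtain ⟨_ | ⟨r, rs⟩, hl, -, -, z, hz, haz⟩ := hn'
        swap
        · simp at hl
        obtain ⟨y, rfl⟩ := Submodule.Quotient.mk_surjective _ z
        refine absurd ?_ hz
        have h1 := haz x hx
        rw [← Submodule.Quotient.mk_smul, Submodule.Quotient.mk_eq_zero, FlatDepth.ofList_nil_smul, Submodule.mem_bot] at h1
        rw [hreg (h1.trans (smul_zero x).symm), Submodule.Quotient.mk_zero]
      · simpa using ((depth_eq_iff_local hω hn (M ⧸ Γ) n).1 hn'.depth_eq.1).1 0 hpos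
    · haveI := not_nontrivial_iff_subsingleton.1 hnt
      exact subsingleton_of_subsingleton
  have hres : Function.Injective (pre ω 0 Γ.subtype) := (injective_iff_map_eq_zero _).2 fun z hz => by
    obtain ⟨w, rfl⟩ := (ses_quot Γ).exact_mid z hz
    rw [@Subsingleton.elim _ hvan w 0, map_zero]
  obtain ⟨l₁, hl₁⟩ := (Module.Baer.of_injective hf.isInjective).extension_property _ hres l
  have hb := evalMap_bijective hω hn hf hΓ hk' (Φ.φ k) (Φ.inj k)
  let e := LinearEquiv.ofBijective _ hb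
  obtain ⟨y, hy⟩ := (InjHull.apply_bijective_of_finiteLength hf hΓ hΓt).2 (l₁.comp e.symm.toLinearMap)
  refine ⟨LocH.hι (maximalIdeal A) (ModuleCat.of A M) 0 k
    (Ext.mk₀ (ModuleCat.ofHom (Γ.subtype.comp (span hk y)))), LinearMap.ext fun x => ?_⟩
  erw [Φ.theta_hι]
  rw [theta0_mk₀]
  have h2 := LinearMap.congr_fun hy (e (pre ω 0 Γ.subtype x))
  rw [LinearMap.comp_apply, LinearEquiv.coe_coe, e.symm_apply_apply] at h2
  refine Eq.trans ?_ (LinearMap.congr_fun hl₁ x)
  refine Eq.trans ?_ h2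
  show _ = evalMap hk' (Φ.φ k) (pre ω 0 Γ.subtype x) y
  rw [evalMap_apply, ← pre_comp]
  have h3 : ((ModuleCat.ofHom (Γ.subtype.comp (span hk y))).hom).comp (tr (Nat.le_succ k)) =
      Γ.subtype.comp (span hk' y) :=
    Submodule.linearMap_qext _ (LinearMap.ext fun c => rfl)
  rw [h3]

omit hω hn hf in
theorem th_pre_smul (i : ℕ) (c : A) (y : LocCoh.H (maximalIdeal A) i M) :
    (localCohomology (maximalIdeal A) i).map (ModuleCat.ofHom (c • (LinearMap.id : M →ₗ[A] M))) y = c • y :=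
  LocH.map_smul_id_apply c i y

theorem inj_succ [Module.Finite A M] {i : ℕ}
    (ih : ∀ (N : Type u) [AddCommGroup N] [Module A N] [Module.Finite A N], Function.Bijective (Φ.th N i)) :
    Function.Injective (Φ.th M (i + 1)) := by
  refine (injective_iff_map_eq_zero _).2 fun y hy => ?_
  let Γ := DRing.torsionSub (maximalIdeal A) M
  have hΓt : LocCoh.IsPowerTorsion (maximalIdeal A) Γ := fun ⟨y, k, hk⟩ => ⟨k, fun a ha => Subtype.ext (hk a ha)⟩
  have hsΓ : SES Γ.subtype Γ.mkQ := ses_quot Γ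
  have hbot : DRing.torsionSub (maximalIdeal A) (M ⧸ Γ) = ⊥ := by
    obtain ⟨k, hk⟩ := InjHull.exists_pow_smul_eq_zero hΓt
    rw [Submodule.eq_bot_iff]
    rintro w ⟨j, hj⟩
    obtain ⟨z, rfl⟩ := Submodule.Quotient.mk_surjective _ w
    refine (Submodule.Quotient.mk_eq_zero _).2 ⟨k + j, fun a ha => ?_⟩
    rw [pow_add] at ha
    refine Submodule.smul_induction_on ha (fun b hb c hc => ?_) fun b c hb hc => by rw [add_smul, hb, hc, add_zero]
    have h1 := hj c hc
    rw [← Submodule.Quotient.mk_smul, Submodule.Quotient.mk_eq_zero] at h1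
    rw [smul_eq_mul, mul_smul]
    exact congrArg Subtype.val (hk b hb ⟨c • z, h1⟩)
  -- reduce to `M/Γ`
  let q := (localCohomology (maximalIdeal A) (i + 1)).map (ModuleCat.ofHom Γ.mkQ)
  have hq : q y = 0 := by
    have hy' : Φ.th (M ⧸ Γ) (i + 1) (q y) = 0 := LinearMap.ext fun x => by
      refine (Φ.theta_map (deg (i + 1)) (ModuleCat.ofHom Γ.mkQ) y x).trans ?_
      exact LinearMap.congr_fun hy _
    generalize q y = y' at hy' ⊢
    obtain ⟨k, hk⟩ := LocH.isPowerTorsion (maximalIdeal A) (i + 1) (ModuleCat.of A (M ⧸ Γ)) y'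
    by_cases hnt : Nontrivial (M ⧸ Γ)
    swap
    · haveI := not_nontrivial_iff_subsingleton.1 hnt
      exact @Subsingleton.elim _ (LocH.subsingleton_of_subsingleton (ModuleCat.of A (M ⧸ Γ)) (i + 1)) _ _
    obtain ⟨x, hx, hreg⟩ := exists_regular hbot
    have hs : SES (x • (LinearMap.id : (M ⧸ Γ) →ₗ[A] (M ⧸ Γ)))
        (LinearMap.range (x • (LinearMap.id : (M ⧸ Γ) →ₗ[A] (M ⧸ Γ)))).mkQ := ses_range hreg
    have step : ∀ z, x • z = 0 → Φ.th (M ⧸ Γ) (i + 1) z = 0 → z = 0 := by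
      intro z hz hθ
      obtain ⟨w, rfl⟩ := LocH.exact₁ hs.shortExact i (x := z) ((th_pre_smul (i + 1) x z).trans hz)
      have h1 : ∀ t, Φ.th _ i w (hs.delta ω (show -((i + 1 : ℕ) : ℤ) + 1 = -(i : ℤ) by push_cast; ring) t) = 0 := fun t =>
        (Φ.theta_delta hs _ (deg i) (deg (i + 1)) w t).symm.trans (LinearMap.congr_fun hθ t)
      obtain ⟨l', hl'⟩ := exists_factor hf.isInjective (pre ω (-(i : ℤ))
          (LinearMap.range (x • (LinearMap.id : (M ⧸ Γ) →ₗ[A] (M ⧸ Γ)))).mkQ) (Φ.th _ i w) (fun t ht => by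
        obtain ⟨s, hst⟩ := hs.exact_right (show -((i + 1 : ℕ) : ℤ) + 1 = -(i : ℤ) by push_cast; ring) t ht
        rw [LinearMap.mem_ker, ← hst]
        exact h1 s)
      obtain ⟨w', hw'⟩ := (ih (M ⧸ Γ)).2 l'
      have h2 : (localCohomology (maximalIdeal A) i).map (ModuleCat.ofHom
          (LinearMap.range (x • (LinearMap.id : (M ⧸ Γ) →ₗ[A] (M ⧸ Γ)))).mkQ) w' = w := by
        refine (ih _).1 (LinearMap.ext fun t => ?_)
        refine (Φ.theta_map (deg i) (ModuleCat.ofHom (LinearMap.range (x • (LinearMap.id : (M ⧸ Γ) →ₗ[A] (M ⧸ Γ)))).mkQ) w' t).trans ?_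
        exact (LinearMap.congr_fun hw' _).trans (LinearMap.congr_fun hl' t)
      rw [← h2]
      exact LocH.delta_map hs.shortExact i w'
    clear hnt
    induction k generalizing y' with
    | zero => simpa using hk 1 (by simp)
    | succ k ihk =>
      have h3 : x ^ k • y' = 0 := step _ (by rw [smul_smul, ← pow_succ']; exact hk _ (Ideal.pow_mem_pow hx _))
        (by rw [map_smul, hy', smul_zero])
      have : ∀ j, x ^ j • y' = 0 → y' = 0 := by
        intro j
        induction j with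
        | zero => simp
        | succ j ihj => exact fun h => ihj (step _ (by rw [smul_smul, ← pow_succ']; exact h) (by rw [map_smul, hy', smul_zero]))
      exact this k h3
  obtain ⟨z, rfl⟩ := LocH.exact₂ hsΓ.shortExact (i + 1) (x := y) hq
  haveI := LocH.subsingleton_of_isPowerTorsion (I := maximalIdeal A) i (ModuleCat.of A Γ) hΓt
  rw [@Subsingleton.elim _ this z 0]
  exact map_zero _

theorem surj_succ [Module.Finite A M] {i : ℕ}
    (ih : ∀ (N : Type u) [AddCommGroup N] [Module A N] [Module.Finite A N], Function.Bijective (Φ.th N i)) :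
    Function.Surjective (Φ.th M (i + 1)) := by
  intro g
  let Γ := DRing.torsionSub (maximalIdeal A) M
  have hΓt : LocCoh.IsPowerTorsion (maximalIdeal A) Γ := fun ⟨y, k, hk⟩ => ⟨k, fun a ha => Subtype.ext (hk a ha)⟩
  obtain ⟨c, hc⟩ := InjHull.exists_pow_smul_eq_zero hΓt
  have hbot : DRing.torsionSub (maximalIdeal A) (M ⧸ Γ) = ⊥ := by
    rw [Submodule.eq_bot_iff]
    rintro w ⟨j, hj⟩
    obtain ⟨z, rfl⟩ := Submodule.Quotient.mk_surjective _ w
    refine (Submodule.Quotient.mk_eq_zero _).2 ⟨c + j, fun a ha => ?_⟩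
    rw [pow_add] at ha
    refine Submodule.smul_induction_on ha (fun b hb d hd => ?_) fun b d hb hd => by rw [add_smul, hb, hd, add_zero]
    have h1 := hj d hd
    rw [← Submodule.Quotient.mk_smul, Submodule.Quotient.mk_eq_zero] at h1
    rw [smul_eq_mul, mul_smul]
    exact congrArg Subtype.val (hc b hb ⟨d • z, h1⟩)
  have hsub : ∀ d : ℤ, d ≠ 0 → Subsingleton (T ω Γ d) := fun d hd => subsingleton_T_finiteLength hω hn
    (InjHull.isFiniteLength_of_pow_smul_eq_zero _ c _ inferInstance hc) hd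
  -- `T(M/Γ) → T(M)` is onto, so `g` is determined on `M/Γ`
  let g' : T ω (M ⧸ Γ) (-((i + 1 : ℕ) : ℤ)) →ₗ[A] E := g.comp (pre ω _ Γ.mkQ)
  have hlift : ∀ s : T ω M (-((i + 1 : ℕ) : ℤ)), ∃ s', pre ω _ Γ.mkQ s' = s := fun s =>
    (ses_quot Γ).exact_mid s (@Subsingleton.elim _ (hsub _ (by push_cast; lia)) _ _)
  suffices H : ∃ y, Φ.th (M ⧸ Γ) (i + 1) y = g' by
    obtain ⟨y, hy⟩ := H
    have h2 : ∃ y₀, (localCohomology (maximalIdeal A) (i + 1)).map (ModuleCat.ofHom Γ.mkQ) y₀ = y :=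
      LocH.exact₃ (ses_quot Γ).shortExact (i + 1) (x := y)
        (@Subsingleton.elim _ (LocH.subsingleton_of_isPowerTorsion (I := maximalIdeal A) (i + 1) (ModuleCat.of A Γ) hΓt) _ _)
    obtain ⟨y₀, rfl⟩ := h2
    refine ⟨y₀, LinearMap.ext fun s => ?_⟩
    obtain ⟨s', rfl⟩ := hlift s
    exact (Φ.theta_map (deg (i + 1)) (ModuleCat.ofHom Γ.mkQ) y₀ s').symm.trans (LinearMap.congr_fun hy s')
  clear_value g'
  clear g hlift
  haveI := finite_T hω (M ⧸ Γ) (-((i + 1 : ℕ) : ℤ))
  obtain ⟨k, hk⟩ := exists_kill (InjHull.isPowerTorsion_hull hf) g'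
  by_cases hnt : Nontrivial (M ⧸ Γ)
  swap
  · haveI := not_nontrivial_iff_subsingleton.1 hnt
    haveI : Subsingleton (T ω (M ⧸ Γ) (-((i + 1 : ℕ) : ℤ))) := subsingleton_of_subsingleton
    exact ⟨0, LinearMap.ext fun s => by rw [Subsingleton.elim s 0, map_zero, map_zero]⟩
  obtain ⟨x, hx, hreg⟩ := exists_regular hbot
  have hs : SES (x • (LinearMap.id : (M ⧸ Γ) →ₗ[A] (M ⧸ Γ)))
      (LinearMap.range (x • (LinearMap.id : (M ⧸ Γ) →ₗ[A] (M ⧸ Γ)))).mkQ := ses_range hreg
  -- functionals killed by `x`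
  have step0 : ∀ l : T ω (M ⧸ Γ) (-((i + 1 : ℕ) : ℤ)) →ₗ[A] E, x • l = 0 → ∃ y, Φ.th (M ⧸ Γ) (i + 1) y = l := by
    intro l hl
    have hab : -((i + 1 : ℕ) : ℤ) + 1 = -(i : ℤ) := by push_cast; ring
    obtain ⟨l', hl'⟩ := exists_factor hf.isInjective (hs.delta ω hab) l (fun t ht => by
      obtain ⟨s, rfl⟩ := hs.exact_left hab t ht
      show l _ = 0
      rw [pre_smul_id, map_smul]
      exact LinearMap.congr_fun hl s)
    obtain ⟨w, hw⟩ := (ih _).2 l'
    exact ⟨LocH.delta hs.shortExact i w, LinearMap.ext fun t =>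
      (Φ.theta_delta hs hab (deg i) (deg (i + 1)) w t).trans ((LinearMap.congr_fun hw _).trans (LinearMap.congr_fun hl' t))⟩
  have step : ∀ (k : ℕ) (l : T ω (M ⧸ Γ) (-((i + 1 : ℕ) : ℤ)) →ₗ[A] E), x ^ k • l = 0 →
      ∃ y, Φ.th (M ⧸ Γ) (i + 1) y = l := by
    intro k
    induction k with
    | zero => exact fun l hl => ⟨0, by rw [map_zero]; simpa using hl.symm⟩
    | succ k ihk =>
      intro l hl
      obtain ⟨y, hy⟩ := ihk (x • l) (by rw [smul_smul, ← pow_succ]; exact hl)
      let π := (LinearMap.range (x • (LinearMap.id : (M ⧸ Γ) →ₗ[A] (M ⧸ Γ)))).mkQ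
      have h1 : (localCohomology (maximalIdeal A) (i + 1)).map (ModuleCat.ofHom π) y = 0 := by
        refine (injective_iff_map_eq_zero _).1 (inj_succ hω hn hf Φ ih) _ (LinearMap.ext fun t => ?_)
        refine (Φ.theta_map (deg (i + 1)) (ModuleCat.ofHom π) y t).trans ?_
        refine (LinearMap.congr_fun hy _).trans ?_
        show x • l (pre ω _ π t) = 0
        rw [← map_smul, ← map_smul, smul_eq_zero_of_killed (fun w => ?_) t, map_zero, map_zero]
        obtain ⟨w, rfl⟩ := Submodule.Quotient.mk_surjective _ w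
        rw [← Submodule.Quotient.mk_smul]
        exact (Submodule.Quotient.mk_eq_zero _).2 ⟨w, rfl⟩
      obtain ⟨y', rfl⟩ := LocH.exact₂ hs.shortExact (i + 1) (x := y) h1
      erw [th_pre_smul (i + 1) x y', map_smul] at hy
      obtain ⟨y'', hy''⟩ := step0 (l - Φ.th (M ⧸ Γ) (i + 1) y') (by rw [smul_sub, ← hy, sub_self])
      exact ⟨y'' + (show LocCoh.H (maximalIdeal A) (i + 1) (M ⧸ Γ) from y'), by rw [map_add, hy'']; exact sub_add_cancel _ _⟩
  exact step k g' (hk _ (Ideal.pow_mem_pow hx k))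

theorem th_bijective : ∀ (i : ℕ) (M : Type u) [AddCommGroup M] [Module A M] [Module.Finite A M],
    Function.Bijective (Φ.th M i) := by
  intro i
  induction i with
  | zero => exact fun M _ _ _ => ⟨inj_zero hω hn Φ, surj_zero hω hn hf Φ⟩
  | succ i ih => exact fun M _ _ _ => ⟨inj_succ hω hn hf Φ ih, surj_succ hω hn hf Φ ih⟩

omit Φ in
/-- Local duality. -/
theorem localDuality (M : Type u) [AddCommGroup M] [Module A M] [Module.Finite A M] (i : ℕ) :
    Nonempty (LocCoh.H (maximalIdeal A) i M ≃ₗ[A] (T ω M (-(i : ℤ)) →ₗ[A] E)) := by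
  obtain ⟨φ, h1, h2⟩ := exists_family hω hn hf
  exact ⟨LinearEquiv.ofBijective _ (th_bijective hω hn hf ⟨φ, h1, h2⟩ i M)⟩

end

end Groth.Agent.DualCx
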