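import Groth.Agent.DualCx.Local
import Groth.Agent.InjHull.Matlis

/-!
`Hom_D(-, ω)` on modules of finite length is Matlis duality.
-/

set_option autoImplicit false
set_option maxHeartbeats 1000000
universe u

namespace Groth.Agent.DualCx

open CategoryTheory Limits DerivedCategory Pretriangulated IsLocalRing

attribute [local instance] HasDerivedCategory.standard

noncomputable section

variable {A : Type u} [CommRing A] {ω : Dual.D A}

theorem pre_add {M N : Type u} [AddCommGroup M] [Module A M] [AddCommGroup N] [Module A N] {i : ℤ}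
    (f g : M →ₗ[A] N) (x : T ω N i) : pre ω i (f + g) x = pre ω i f x + pre ω i g x := by
  simp only [pre_apply]
  rw [show ModuleCat.ofHom (f + g) = ModuleCat.ofHom f + ModuleCat.ofHom g from rfl, Functor.map_add,
    Preadditive.add_comp]

theorem pre_sum {M N : Type u} [AddCommGroup M] [Module A M] [AddCommGroup N] [Module A N] {i : ℤ} {ι : Type*}
    (s : Finset ι) (f : ι → (M →ₗ[A] N)) (x : T ω N i) : pre ω i (∑ c ∈ s, f c) x = ∑ c ∈ s, pre ω i (f c) x := by
  classical
  induction s using Finset.induction with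
  | empty => simp [pre_zero]
  | insert a s ha ih => rw [Finset.sum_insert ha, Finset.sum_insert ha, pre_add, ih]

variable [IsLocalRing A]

/-- `A/𝔪ⁿ`. -/
abbrev Q (A : Type u) [CommRing A] [IsLocalRing A] (n : ℕ) : Type u := A ⧸ maximalIdeal A ^ n

/-- The transition map. -/
def tr {n k : ℕ} (h : n ≤ k) : Q A k →ₗ[A] Q A n := Submodule.mapQ _ _ LinearMap.id (Ideal.pow_le_pow_right h)

theorem tr_surjective {n k : ℕ} (h : n ≤ k) : Function.Surjective (tr (A := A) h) := by
  intro w
  obtain ⟨a, rfl⟩ := Submodule.Quotient.mk_surjective _ w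
  exact ⟨Submodule.Quotient.mk a, rfl⟩

/-- The map sending `1` to `y`. -/
def span {N : Type u} [AddCommGroup N] [Module A N] {n : ℕ} (hN : ∀ a ∈ maximalIdeal A ^ n, ∀ y : N, a • y = 0)
    (y : N) : Q A n →ₗ[A] N :=
  Submodule.liftQ _ (LinearMap.toSpanSingleton A N y) fun a ha => hN a ha y

variable [IsNoetherianRing A]

theorem finite_Q (n : ℕ) : IsFiniteLength A (Q A n) :=
  InjHull.isFiniteLength_of_pow_smul_eq_zero (maximalIdeal A) n _ inferInstance fun a ha w => by
    obtain ⟨c, rfl⟩ := Submodule.Quotient.mk_surjective _ w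
    exact (Submodule.Quotient.mk_eq_zero _).2 (Ideal.mul_mem_right _ _ ha)

theorem support_finiteLength {N : Type u} [AddCommGroup N] [Module A N] (hN : IsFiniteLength A N) :
    ∀ p ∈ Module.support A N, p = closedPoint A := by
  induction hN with
  | of_subsingleton => simp [Module.support_eq_empty]
  | @of_simple_quotient M _ _ N _ _ ih =>
    intro p hp
    rw [Module.support_of_exact (LinearMap.exact_subtype_mkQ N) N.injective_subtype N.mkQ_surjective] at hp
    rcases hp with hp | hp
    · exact ih p hp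
    · obtain ⟨n, hn, ⟨e⟩⟩ := isSimpleModule_iff_quot_maximal.1 (inferInstance : IsSimpleModule A (M ⧸ N))
      rw [e.support_eq, Module.support_eq_zeroLocus, Ideal.annihilator_quotient] at hp
      refine PrimeSpectrum.ext (le_antisymm (le_maximalIdeal p.isPrime.ne_top) ?_)
      show maximalIdeal A ≤ p.asIdeal
      rw [← eq_maximalIdeal hn]
      exact hp

variable (hω : Dual.IsDualizing A ω) (hn : Dual.IsNormalized A ω)
include hω hn

theorem subsingleton_T_finiteLength {N : Type u} [AddCommGroup N] [Module A N] (hN : IsFiniteLength A N) {i : ℤ}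
    (hi : i ≠ 0) : Subsingleton (T ω N i) := by
  obtain ⟨_, _⟩ := isFiniteLength_iff_isNoetherian_isArtinian.1 hN
  refine (van_maximal_iff i).1 (van_range (q := closedPoint A) hω fun p hp _ => ?_)
  rw [support_finiteLength hN p hp, del_closed hω hn]
  lia

theorem pre_injective_of_surjective {M N : Type u} [AddCommGroup M] [Module A M] [Module.Finite A M]
    [AddCommGroup N] [Module A N] {f : M →ₗ[A] N} (hf : Function.Surjective f)
    (hM : IsFiniteLength A M) : Function.Injective (pre ω 0 f) := by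
  obtain ⟨_, _⟩ := isFiniteLength_iff_isNoetherian_isArtinian.1 hM
  have hK : Subsingleton (T ω (LinearMap.ker f) (-1)) := subsingleton_T_finiteLength hω hn
    (isFiniteLength_iff_isNoetherian_isArtinian.2 ⟨inferInstance, inferInstance⟩) (by lia)
  refine (injective_iff_map_eq_zero _).2 fun x hx => ?_
  obtain ⟨y, rfl⟩ := SES.exact_right ⟨Submodule.subtype_injective _, LinearMap.exact_subtype_ker_map f, hf⟩
    (show (-1 : ℤ) + 1 = 0 by rfl) x hx
  rw [@Subsingleton.elim _ hK y 0, map_zero]

theorem nonempty_residue_iso : Nonempty (T ω (A ⧸ maximalIdeal A) 0 ≃ₗ[A] (A ⧸ maximalIdeal A)) := by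
  obtain ⟨R⟩ := nonempty_rep hω
  obtain ⟨n, h1, ⟨e⟩⟩ := residue_spec hω (maximalIdeal A) R
  have h2 : n = 0 := by
    by_contra h
    haveI : Subsingleton (T ω (A ⧸ maximalIdeal A) n) := hn n h
    haveI := e.symm.toEquiv.subsingleton
    exact not_nontrivial _ (inferInstance : Nontrivial (A ⧸ maximalIdeal A))
  subst h2
  exact ⟨e⟩

theorem length_T {N : Type u} [AddCommGroup N] [Module A N] (hN : IsFiniteLength A N) :
    Module.length A (T ω N 0) = Module.length A N := by
  induction hN with
  | @of_subsingleton M _ _ _ =>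
    haveI : Subsingleton (T ω M 0) := subsingleton_of_subsingleton
    simp [Module.length_eq_zero]
  | @of_simple_quotient M _ _ N _ hN ih =>
    have h : SES N.subtype N.mkQ := ses_quot N
    obtain ⟨n, hn', ⟨e⟩⟩ := isSimpleModule_iff_quot_maximal.1 (inferInstance : IsSimpleModule A (M ⧸ N))
    rw [eq_maximalIdeal hn'] at e
    have hM : IsFiniteLength A M := .of_simple_quotient hN
    obtain ⟨_, _⟩ := isFiniteLength_iff_isNoetherian_isArtinian.1 hM
    have hq : IsFiniteLength A (M ⧸ N) :=
      isFiniteLength_iff_isNoetherian_isArtinian.2 ⟨inferInstance, inferInstance⟩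
    have hN1 : Subsingleton (T ω (M ⧸ N) 1) := subsingleton_T_finiteLength hω hn hq (by lia)
    have h2 : Function.Surjective (pre ω 0 N.subtype) := fun x =>
      h.exact_left (show (0 : ℤ) + 1 = 1 by rfl) x (@Subsingleton.elim _ hN1 _ _)
    rw [Module.length_eq_add_of_exact (pre ω 0 N.mkQ) (pre ω 0 N.subtype)
        (pre_injective_of_surjective hω hn N.mkQ_surjective hM) h2
        (fun x => ⟨h.exact_mid x, by rintro ⟨y, rfl⟩; exact h.pre_f_g y⟩),
      Module.length_eq_add_of_exact N.subtype N.mkQ N.injective_subtype N.mkQ_surjective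
        (LinearMap.exact_subtype_mkQ N), ih, add_comm]
    congr 1
    obtain ⟨e₀⟩ := nonempty_residue_iso hω hn
    exact ((congr ω 0 e).symm.trans (e₀.trans e.symm)).length_eq

theorem eq_zero_of_span {N : Type u} [AddCommGroup N] [Module A N] [Module.Finite A N] {n : ℕ}
    (hN : ∀ a ∈ maximalIdeal A ^ n, ∀ y : N, a • y = 0) (x : T ω N 0)
    (hx : ∀ y : N, pre ω 0 (span hN y) x = 0) : x = 0 := by
  classical
  obtain ⟨r, s, hs⟩ := Module.Finite.exists_fin (R := A) (M := N)
  let π : (Fin r → Q A n) →ₗ[A] N := ∑ c, (span hN (s c)).comp (LinearMap.proj c)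
  have hπ : Function.Surjective π := by
    rw [← LinearMap.range_eq_top, eq_top_iff, ← hs, Submodule.span_le]
    rintro _ ⟨c, rfl⟩
    refine ⟨Pi.single c (Submodule.Quotient.mk 1), ?_⟩
    simp only [π, LinearMap.sum_apply, LinearMap.comp_apply, LinearMap.proj_apply]
    rw [Finset.sum_eq_single c (fun b _ hb => by rw [Pi.single_eq_of_ne hb, map_zero]) (by simp), Pi.single_eq_same]
    exact one_smul A (s c)
  refine pre_injective_of_surjective hω hn hπ (InjHull.isFiniteLength_of_pow_smul_eq_zero (maximalIdeal A) n _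
    inferInstance fun a ha w => funext fun c => ?_) ?_
  · obtain ⟨z, hz⟩ := Submodule.Quotient.mk_surjective _ (w c)
    show a • w c = 0
    rw [← hz]
    exact (Submodule.Quotient.mk_eq_zero _).2 (Ideal.mul_mem_right _ _ ha)
  · rw [map_zero, pre_sum]
    exact Finset.sum_eq_zero fun c _ => by rw [pre_comp, hx, map_zero]

theorem socle_le {n : ℕ} (x : T ω (Q A (n + 1)) 0) (hx : ∀ a ∈ maximalIdeal A, a • x = 0) :
    ∃ y, pre ω 0 (tr (show 1 ≤ n + 1 by lia)) y = x := by
  let τ := tr (A := A) (show 1 ≤ n + 1 by lia)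
  have hN : ∀ a ∈ maximalIdeal A ^ (n + 1), ∀ y : LinearMap.ker τ, a • y = 0 := fun a ha ⟨w, hw⟩ => Subtype.ext (by
    obtain ⟨c, rfl⟩ := Submodule.Quotient.mk_surjective _ w
    exact (Submodule.Quotient.mk_eq_zero _).2 (Ideal.mul_mem_right _ _ ha))
  refine SES.exact_mid ⟨Submodule.subtype_injective _, LinearMap.exact_subtype_ker_map τ, tr_surjective _⟩ x
    (eq_zero_of_span hω hn hN _ fun y => ?_)
  obtain ⟨a, ha⟩ := Submodule.Quotient.mk_surjective _ (y : Q A (n + 1))
  have ham : a ∈ maximalIdeal A := by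
    have h1 : τ (y : Q A (n + 1)) = 0 := y.2
    rw [← ha] at h1
    simpa using (Submodule.Quotient.mk_eq_zero _).1 h1
  have hcomp : (LinearMap.ker τ).subtype.comp (span hN y) = a • LinearMap.id := by
    refine Submodule.linearMap_qext _ (LinearMap.ext_ring ?_)
    show (((1 : A) • y : LinearMap.ker τ) : Q A (n + 1)) = a • Submodule.Quotient.mk 1
    rw [one_smul, ← ha, ← Submodule.Quotient.mk_smul, smul_eq_mul, mul_one]
  rw [← pre_comp, hcomp, pre_smul_id, hx a ham]

variable {E : Type u} [AddCommGroup E] [Module A E] {f : (A ⧸ maximalIdeal A) →ₗ[A] E} (hf : InjHull.IsInjectiveHull f)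
include hf

theorem exists_family :
    ∃ φ : (n : ℕ) → T ω (Q A (n + 1)) 0 →ₗ[A] E,
      (∀ n, Function.Injective (φ n)) ∧ ∀ n x, φ (n + 1) (pre ω 0 (tr (Nat.le_succ (n + 1))) x) = φ n x := by
  have hE : Module.Baer A E := Module.Baer.of_injective hf.isInjective
  obtain ⟨e₀⟩ := nonempty_residue_iso hω hn
  let e₁ : Q A (0 + 1) ≃ₗ[A] (A ⧸ maximalIdeal A) := Submodule.quotEquivOfEq _ _ (by rw [zero_add, pow_one])
  have step : ∀ (n : ℕ) (ψ : {ψ : T ω (Q A (n + 1)) 0 →ₗ[A] E // Function.Injective ψ}),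
      ∃ χ : {χ : T ω (Q A (n + 1 + 1)) 0 →ₗ[A] E // Function.Injective χ},
        ∀ x, χ.1 (pre ω 0 (tr (Nat.le_succ (n + 1))) x) = ψ.1 x := by
    intro n ψ
    have hinj : Function.Injective (pre ω 0 (tr (A := A) (Nat.le_succ (n + 1)))) :=
      pre_injective_of_surjective hω hn (tr_surjective _) (finite_Q _)
    obtain ⟨χ, hχ⟩ := hE.extension_property _ hinj ψ.1
    have hχ' : ∀ x, χ (pre ω 0 (tr (Nat.le_succ (n + 1))) x) = ψ.1 x := fun x => LinearMap.congr_fun hχ x
    refine ⟨⟨χ, (injective_iff_map_eq_zero χ).2 fun x hx => ?_⟩, hχ'⟩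
    -- a nonzero element has a nonzero socle multiple
    have key : ∀ (k : ℕ) (x : T ω (Q A (n + 1 + 1)) 0), (∀ a ∈ maximalIdeal A ^ k, a • x = 0) → χ x = 0 → x = 0 := by
      intro k
      induction k with
      | zero => intro x hk _; simpa using hk 1 (by simp)
      | succ k ih =>
        intro x hk hx
        have h1 : ∀ a ∈ maximalIdeal A, a • x = 0 := fun a ha => ih (a • x)
          (fun b hb => by rw [smul_smul]; exact hk _ (by rw [pow_succ]; exact Ideal.mul_mem_mul hb ha))
          (by rw [map_smul, hx, smul_zero])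
        obtain ⟨y, rfl⟩ := socle_le hω hn x h1
        have h2 : tr (A := A) (show 1 ≤ n + 1 + 1 by lia) =
            (tr (A := A) (show 1 ≤ n + 1 by lia)).comp (tr (Nat.le_succ (n + 1))) :=
          Submodule.linearMap_qext _ (LinearMap.ext fun c => by simp [tr])
        rw [h2, pre_comp] at hx ⊢
        rw [hχ'] at hx
        rw [(injective_iff_map_eq_zero ψ.1).1 ψ.2 _ hx, map_zero]
    refine key (n + 1 + 1) x (fun a ha => ?_) hx
    exact smul_eq_zero_of_killed (fun w => by
      obtain ⟨c, rfl⟩ := Submodule.Quotient.mk_surjective _ w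
      exact (Submodule.Quotient.mk_eq_zero _).2 (Ideal.mul_mem_right _ _ ha)) x
  choose χ hχ using step
  let φ₀ : {ψ : T ω (Q A (0 + 1)) 0 →ₗ[A] E // Function.Injective ψ} :=
    ⟨f.comp ((congr ω 0 e₁).symm.trans e₀).toLinearMap, hf.injective.comp (LinearEquiv.injective _)⟩
  let φ : (n : ℕ) → {ψ : T ω (Q A (n + 1)) 0 →ₗ[A] E // Function.Injective ψ} := fun n => Nat.rec φ₀ χ n
  exact ⟨fun n => (φ n).1, fun n => (φ n).2, fun n x => hχ n (φ n) x⟩

omit hω hn hf in
theorem isPowerTorsion_of_finiteLength {N : Type u} [AddCommGroup N] [Module A N] (hN : IsFiniteLength A N) :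
    LocCoh.IsPowerTorsion (maximalIdeal A) N := by
  obtain ⟨_, _⟩ := isFiniteLength_iff_isNoetherian_isArtinian.1 hN
  intro y
  obtain ⟨k, hk⟩ := Ideal.exists_pow_le_of_le_radical_of_fg
    (show maximalIdeal A ≤ (Module.annihilator A N).radical from by
      rw [Ideal.radical_eq_sInf]
      refine le_sInf fun J hJ => ?_
      have := support_finiteLength hN ⟨J, hJ.2⟩ (Module.mem_support_iff_of_finite.2 hJ.1)
      exact (congrArg PrimeSpectrum.asIdeal this).ge)
    (IsNoetherian.noetherian _)
  exact ⟨k, fun a ha => Module.mem_annihilator.1 (hk ha) y⟩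

omit hω hn hf in
/-- Evaluation pairing through a map `T(A/𝔪ⁿ) → E`. -/
def evalMap {N : Type u} [AddCommGroup N] [Module A N] {n : ℕ} (hN : ∀ a ∈ maximalIdeal A ^ n, ∀ y : N, a • y = 0)
    (ψ : T ω (Q A n) 0 →ₗ[A] E) : T ω N 0 →ₗ[A] (N →ₗ[A] E) :=
  LinearMap.flip
    { toFun := fun y => ψ.comp (pre ω 0 (span hN y))
      map_add' := fun y z => by
        refine LinearMap.ext fun x => ?_
        have : span hN (y + z) = span hN y + span hN z := Submodule.linearMap_qext _ (LinearMap.ext_ring (by
          show (1 : A) • (y + z) = (1 : A) • y + (1 : A) • z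
          rw [smul_add]))
        simp [this, pre_add]
      map_smul' := fun c y => by
        refine LinearMap.ext fun x => ?_
        have : span hN (c • y) = c • span hN y := Submodule.linearMap_qext _ (LinearMap.ext_ring (by
          show (1 : A) • (c • y) = c • ((1 : A) • y)
          rw [one_smul, one_smul]))
        simp [this, pre_smul] }

omit hω hn hf in
theorem evalMap_apply {N : Type u} [AddCommGroup N] [Module A N] {n : ℕ} (hN : ∀ a ∈ maximalIdeal A ^ n, ∀ y : N, a • y = 0)
    (ψ : T ω (Q A n) 0 →ₗ[A] E) (x : T ω N 0) (y : N) : evalMap hN ψ x y = ψ (pre ω 0 (span hN y) x) := rfl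

theorem evalMap_bijective {N : Type u} [AddCommGroup N] [Module A N] (hN : IsFiniteLength A N) {n : ℕ}
    (hk : ∀ a ∈ maximalIdeal A ^ n, ∀ y : N, a • y = 0) (ψ : T ω (Q A n) 0 →ₗ[A] E) (hψ : Function.Injective ψ) :
    Function.Bijective (evalMap hk ψ) := by
  obtain ⟨_, _⟩ := isFiniteLength_iff_isNoetherian_isArtinian.1 hN
  have hinj : Function.Injective (evalMap hk ψ) := (injective_iff_map_eq_zero _).2 fun x hx =>
    eq_zero_of_span hω hn hk x fun y => (injective_iff_map_eq_zero ψ).1 hψ _ (LinearMap.congr_fun hx y)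
  refine ⟨hinj, LinearMap.range_eq_top.1 ?_⟩
  by_contra hne
  have hl : Module.length A (N →ₗ[A] E) = Module.length A N :=
    InjHull.length_dual hf hN (isPowerTorsion_of_finiteLength hN)
  obtain ⟨_, _⟩ := isFiniteLength_iff_isNoetherian_isArtinian.1
    (Module.length_ne_top_iff.1 (show Module.length A (N →ₗ[A] E) ≠ ⊤ by rw [hl]; exact Module.length_ne_top))
  have h1 := Submodule.length_lt hne
  rw [← (LinearEquiv.ofInjective _ hinj).length_eq, length_T hω hn hN, hl] at h1
  exact lt_irrefl _ h1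

theorem exists_iso {N : Type u} [AddCommGroup N] [Module A N] (hN : IsFiniteLength A N) :
    Nonempty (T ω N 0 ≃ₗ[A] (N →ₗ[A] E)) := by
  obtain ⟨φ, hφ, -⟩ := exists_family hω hn hf
  obtain ⟨_, _⟩ := isFiniteLength_iff_isNoetherian_isArtinian.1 hN
  obtain ⟨k, hk⟩ := InjHull.exists_pow_smul_eq_zero (isPowerTorsion_of_finiteLength hN)
  exact ⟨LinearEquiv.ofBijective _ (evalMap_bijective hω hn hf hN
    (fun a ha y => hk a (Ideal.pow_le_pow_right (Nat.le_succ k) ha) y) (φ k) (hφ k))⟩

end

end Groth.Agent.DualCx
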