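import Groth.Agent.DualCx.Apps
import Groth.Agent.DualCx.Self
import Groth.Agent.DualCx.Matlis
import Groth.Agent.ExtCompare.Basic
import Groth.Agent.Goren.Basic

/-!
Shifts of dualizing complexes; `A[d]` for Gorenstein local rings.
-/

set_option autoImplicit false
set_option maxHeartbeats 1000000
universe u

namespace Groth.Agent.DualCx

open CategoryTheory Limits DerivedCategory Pretriangulated Abelian IsLocalRing

attribute [local instance] HasDerivedCategory.standard

noncomputable section

variable {A : Type u} [CommRing A]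

/-- Composing shifts on the target. -/
def shiftT (ω : Dual.D A) (X : Dual.D A) (r i j : ℤ) (h : r + i = j) :
    (X ⟶ (ω⟦r⟧)⟦i⟧) ≃ₗ[A] (X ⟶ ω⟦j⟧) :=
  Linear.homCongr A (Iso.refl X) ((shiftFunctorAdd' (Dual.D A) r i j h).app ω).symm

theorem isDualizing_shift {ω : Dual.D A} (hω : Dual.IsDualizing A ω) (r : ℤ) : Dual.IsDualizing A (ω⟦r⟧) where
  isNoetherianRing := hω.isNoetherianRing
  finite_injective_dimension := by
    obtain ⟨a, b, hab⟩ := hω.finite_injective_dimension
    refine ⟨a - r, b - r, fun M _ _ i hi => ?_⟩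
    exact (shiftT ω (Dual.inD A M) r i (r + i) rfl).toEquiv.subsingleton_congr.2 (hab M _ (by lia))
  finite_cohomology i :=
    haveI : Module.Finite A (((DerivedCategory.homologyFunctor (ModuleCat.{u} A) 0).shift (r + i)).obj ω) :=
      hω.finite_cohomology (r + i)
    Module.Finite.equiv
      ((((DerivedCategory.homologyFunctor (ModuleCat.{u} A) 0).shiftIso r i (r + i) rfl).app ω).symm.toLinearEquiv)
  toEnd_bijective := by
    have h : ∀ a : A, (shiftFunctor (Dual.D A) r).map (a • 𝟙 ω) = a • 𝟙 (ω⟦r⟧) := fun a => by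
      rw [Functor.map_smul, CategoryTheory.Functor.map_id]
    refine ⟨fun a b hab => hω.toEnd_bijective.1 ((shiftFunctor (Dual.D A) r).map_injective
      ((h a).trans (hab.trans (h b).symm))), fun f => ?_⟩
    obtain ⟨g, rfl⟩ := (shiftFunctor (Dual.D A) r).map_surjective f
    obtain ⟨a, rfl⟩ := hω.toEnd_bijective.2 g
    exact ⟨a, (h a).symm⟩
  ext_self_subsingleton i hi := by
    haveI := hω.ext_self_subsingleton i hi
    refine subsingleton_of_forall_eq 0 fun f => ?_
    obtain ⟨g, hg⟩ := (shiftFunctor (Dual.D A) r).map_surjective (f ≫ (shiftComm ω r i).hom)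
    rw [Subsingleton.elim g 0, Functor.map_zero] at hg
    exact (cancel_mono (shiftComm ω r i).hom).1 (hg.symm.trans zero_comp.symm)

variable [IsLocalRing A] [IsNoetherianRing A]

theorem self_degree (h : Dual.IsDualizing A (Dual.inD A A)) {r : ℕ} (hr : ringKrullDim A = r) :
    Dual.IsNormalized A ((Dual.inD A A)⟦(r : ℤ)⟧) := by
  have hq : closedPoint A ∈ Module.support A A := by
    rw [Module.support_eq_zeroLocus, Module.annihilator_eq_bot.2 inferInstance]
    exact fun x hx => by rw [(Submodule.mem_bot A).1 hx]; exact Ideal.zero_mem _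
  obtain ⟨d, hd, hv, -⟩ := exists_max h hq
  rw [supportDim_eq_localized, Module.supportDim_self_eq_ringKrullDim, hr] at hd
  obtain rfl : r = d := by exact_mod_cast hd
  have h0 : -del h (closedPoint A) - (r : ℤ) = 0 := by
    by_contra hne
    haveI := subsingleton_T_self hne
    exact hv (van_of_subsingleton (closedPoint A).isPrime.ne_top inferInstance)
  intro i hi
  refine (shiftT (Dual.inD A A) _ r i (r + i) rfl).toEquiv.subsingleton_congr.2 ?_
  obtain ⟨R⟩ := nonempty_rep h
  obtain ⟨n, hn, -⟩ := residue_spec h (maximalIdeal A) R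
  have : n = r := by
    by_contra hne
    exact not_van_del h (closedPoint A) (van_of_subsingleton (closedPoint A).isPrime.ne_top (hn _ (by lia)))
  exact hn _ (by lia)
where
  subsingleton_T_self {j : ℤ} (hj : j ≠ 0) : Subsingleton (T (Dual.inD A A) A j) :=
    (homEquiv (Dual.inD A A) j).toEquiv.subsingleton_congr.2 (subsingleton_hd_inD A hj)

theorem gorenstein_normalized [LocCoh.IsGorensteinLocalRing A] {r : ℕ} (hr : ringKrullDim A = r) :
    Dual.IsDualizing A ((Dual.inD A A)⟦(r : ℤ)⟧) ∧ Dual.IsNormalized A ((Dual.inD A A)⟦(r : ℤ)⟧) := by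
  obtain ⟨n, hn⟩ := LocCoh.IsGorensteinLocalRing.exists_hasInjectiveDimensionLT (A := A)
  exact ⟨isDualizing_shift (isDualizing_self n) _, self_degree (isDualizing_self n) hr⟩

/-- `Hom_D(M, A[r][a]) ≅ Ext^n(M, A)`. -/
def extEquivT (M : Type u) [AddCommGroup M] [Module A M] (r : ℕ) (a : ℤ) (n : ℕ) (h : (r : ℤ) + a = n) :
    T ((Dual.inD A A)⟦(r : ℤ)⟧) M a ≃ₗ[A] Abelian.Ext (ModuleCat.of A M) (ModuleCat.of A A) n :=
  (shiftT (Dual.inD A A) (Dual.inD A M) r a n h).trans (Abelian.Ext.homLinearEquiv (R := A)).symm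

end

end Groth.Agent.DualCx
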