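import Groth.Agent.DualCx.Apps
import Groth.Agent.DualCx.Duality
import Groth.Agent.DualCx.Regular
import Groth.Agent.DualCx.Self
import Groth.Agent.DualCx.LocalizeDual
import Groth.Agent.LocH.TopSocle
import Groth.Agent.Goren.Basic
import Groth.Agent.InjHull.Basic

/-!
A local ring with a dualizing complex is Gorenstein iff it is Cohen–Macaulay and the dualizing module is cyclic.
-/

set_option autoImplicit false
set_option linter.style.haveILetI false
set_option maxHeartbeats 1000000
universe u v w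

namespace Groth.Agent.DualCx

open CategoryTheory Limits DerivedCategory IsLocalRing

attribute [local instance] HasDerivedCategory.standard

noncomputable section

variable {A : Type u} [CommRing A]

/-- A module is cyclic. -/
def Cyc (A : Type u) [CommRing A] (M : Type v) [AddCommGroup M] [Module A M] : Prop :=
  ∃ w : M, Submodule.span A {w} = ⊤

theorem Cyc.congr {M : Type v} {N : Type w} [AddCommGroup M] [Module A M] [AddCommGroup N] [Module A N] (h : Cyc A M)
    (e : M ≃ₗ[A] N) : Cyc A N := by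
  obtain ⟨w, hw⟩ := h
  refine ⟨e w, ?_⟩
  have := congrArg (Submodule.map e.toLinearMap) hw
  rwa [Submodule.map_span, Set.image_singleton, Submodule.map_top, LinearEquiv.range] at this

theorem cyc_of_subsingleton {M : Type v} [AddCommGroup M] [Module A M] [Subsingleton M] : Cyc A M :=
  ⟨0, Subsingleton.elim _ _⟩

/-- Cohomology of a shift. -/
theorem nonempty_hd_shift (ω : Dual.D A) (n i : ℤ) :
    Nonempty (Dual.HD A (ω⟦n⟧) i ≃ₗ[A] Dual.HD A ω (n + i)) :=
  ⟨(((DerivedCategory.homologyFunctor (ModuleCat.{u} A) 0).shiftIso n i (n + i) rfl).app ω).toLinearEquiv⟩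

variable [IsNoetherianRing A] [IsLocalRing A] {ω : Dual.D A}

theorem exists_normalized_shift (hω : Dual.IsDualizing A ω) : ∃ n : ℤ, Dual.IsNormalized A (ω⟦n⟧) := by
  obtain ⟨R⟩ := nonempty_rep hω
  obtain ⟨n, hn, -⟩ := residue_spec hω (maximalIdeal A) R
  refine ⟨n, fun i hi => ?_⟩
  exact @Equiv.subsingleton _ _ (Iso.homCongr (Iso.refl _) ((shiftFunctorAdd' (Dual.D A) n i (n + i) rfl).app ω)).symm
    (hn (n + i) (by lia))

theorem cyc_top_of_gorenstein [LocCoh.IsGorensteinLocalRing A] (hω : Dual.IsDualizing A ω)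
    (hn : Dual.IsNormalized A ω) (i : ℤ) : Cyc A (Dual.HD A ω i) := by
  refine Cyc.congr ?_ (homEquiv ω i)
  obtain ⟨d, hd, htop⟩ := exists_top hω hn (M := A)
  have hdim : ringKrullDim A = d := (Module.supportDim_self_eq_ringKrullDim (R := A)).symm.trans hd
  have hCM : LocCoh.IsCohenMacaulayLocalRing A := Goren.isCohenMacaulay A
  by_cases hi : i = -(d : ℤ)
  swap
  · have hM : LocCoh.IsCohenMacaulayModule A A := hCM.supportDim_eq_depth
    haveI := (isCohenMacaulay_iff_local hω hn d hd).1 hM (-i) (by lia)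
    rw [show i = -(-i) by lia]
    exact cyc_of_subsingleton
  subst hi
  obtain ⟨g, hg⟩ := LocH.WeakDuality.isInjectiveHull_top hdim
  obtain ⟨e⟩ := localDuality hω hn hg A d
  haveI := finite_T hω A (-(d : ℤ))
  let W := T ω A (-(d : ℤ))
  let u : W →ₗ[A] LocH.WeakDuality.Top A d := e (g (Submodule.Quotient.mk 1))
  have hsoc : ∀ h : W →ₗ[A] LocH.WeakDuality.Top A d, (∀ a ∈ maximalIdeal A, a • h = 0) → ∃ c : A, c • u = h := by
    intro h hh
    by_cases h0 : h = 0
    · exact ⟨0, by rw [h0, zero_smul]⟩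
    obtain ⟨r, y, hy, hy0⟩ := InjHull.exists_smul_eq_of_isEssentialInj hg.toIsEssentialInj
      (x := e.symm h) (fun hz => h0 (e.symm.injective (hz.trans (map_zero _).symm)))
    have hr : r ∉ maximalIdeal A := fun hr => hy0 (hg.injective (by
      rw [hy, map_zero, ← map_smul, hh r hr, map_zero]))
    obtain ⟨r', hr'⟩ := (IsLocalRing.notMem_maximalIdeal.1 hr).exists_left_inv
    obtain ⟨c, rfl⟩ := Submodule.Quotient.mk_surjective _ y
    refine ⟨r' * c, ?_⟩
    have h2 : c • u = r • h := by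
      show c • e _ = _
      rw [← map_smul, ← map_smul, ← Submodule.Quotient.mk_smul, smul_eq_mul, mul_one, hy, map_smul,
        LinearEquiv.apply_symm_apply]
    rw [mul_smul, h2, smul_smul, hr', one_smul]
  by_contra hc
  have htop' : Nontrivial W := htop
  obtain ⟨w, hw⟩ : ∃ w : W, w ∉ maximalIdeal A • (⊤ : Submodule A W) := by
    by_contra hall
    push Not at hall
    have h0 : (⊤ : Submodule A W) = ⊥ := Submodule.eq_bot_of_le_smul_of_le_jacobson_bot (maximalIdeal A) _
      Module.Finite.fg_top (fun x _ => hall x) (maximalIdeal_le_jacobson _)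
    exact not_subsingleton W ((Submodule.subsingleton_iff A).1 (subsingleton_of_bot_eq_top h0.symm))
  apply hc
  refine ⟨w, eq_top_iff.2 (Submodule.le_of_le_smul_of_le_jacobson_bot Module.Finite.fg_top
    (maximalIdeal_le_jacobson _) ?_)⟩
  intro x _
  letI : Field (A ⧸ maximalIdeal A) := Ideal.Quotient.field _
  let V := W ⧸ (maximalIdeal A • (⊤ : Submodule A W))
  by_contra hx
  have hker : ∀ ψ : Module.Dual (A ⧸ maximalIdeal A) V, ∀ a ∈ maximalIdeal A,
      a • (g ∘ₗ ((ψ.restrictScalars A) ∘ₗ (maximalIdeal A • (⊤ : Submodule A W)).mkQ) : W →ₗ[A] LocH.WeakDuality.Top A d) = 0 := by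
    intro ψ a ha
    refine LinearMap.ext fun v => ?_
    simp only [LinearMap.smul_apply, LinearMap.comp_apply, LinearMap.zero_apply]
    rw [← map_smul]
    refine (congrArg g ?_).trans (map_zero g)
    rw [← map_smul, ← map_smul, show (maximalIdeal A • (⊤ : Submodule A W)).mkQ (a • v) = 0 from
      (Submodule.Quotient.mk_eq_zero _).2 (Submodule.smul_mem_smul ha Submodule.mem_top), map_zero]
  have hw0 : (Submodule.Quotient.mk w : V) ≠ 0 := fun h => hw ((Submodule.Quotient.mk_eq_zero _).1 h)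
  obtain ⟨ψ₀, hψ₀⟩ := Module.Projective.exists_dual_ne_zero (A ⧸ maximalIdeal A) hw0
  have hmem : (Submodule.Quotient.mk x : V) ∉
      Submodule.span (A ⧸ maximalIdeal A) {(Submodule.Quotient.mk w : V)} := by
    intro h
    obtain ⟨c, hcx⟩ := Submodule.mem_span_singleton.1 h
    obtain ⟨c, rfl⟩ := Ideal.Quotient.mk_surjective c
    apply hx
    have h1 : x - c • w ∈ maximalIdeal A • (⊤ : Submodule A W) := by
      rw [← Submodule.Quotient.eq]
      exact hcx.symm
    exact Submodule.mem_sup.2 ⟨c • w, Submodule.smul_mem _ _ (Submodule.mem_span_singleton_self w), x - c • w, h1,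
      add_sub_cancel _ _⟩
  obtain ⟨ψ, hψ, hψw⟩ := Submodule.exists_dual_map_eq_bot_of_notMem hmem inferInstance
  have hψ0 : ψ (Submodule.Quotient.mk w : V) = 0 := by
    have : ψ (Submodule.Quotient.mk w : V) ∈
        Submodule.map ψ (Submodule.span (A ⧸ maximalIdeal A) {(Submodule.Quotient.mk w : V)}) :=
      Submodule.mem_map_of_mem (Submodule.mem_span_singleton_self _)
    rwa [hψw, Submodule.mem_bot] at this
  obtain ⟨a, ha⟩ := hsoc _ (hker ψ₀)
  obtain ⟨b, hb⟩ := hsoc _ (hker ψ)
  have ha' : a ∉ maximalIdeal A := fun h => hψ₀ (hg.injective (by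
    have := LinearMap.congr_fun ha w
    simp only [LinearMap.comp_apply] at this
    rw [map_zero]
    refine this.symm.trans ?_
    have h1 : (a • g (Submodule.Quotient.mk 1) : LocH.WeakDuality.Top A d) = 0 := by
      rw [← map_smul, ← Submodule.Quotient.mk_smul, smul_eq_mul, mul_one,
        (Submodule.Quotient.mk_eq_zero _).2 h, map_zero]
    show a • u w = 0
    rw [← LinearMap.smul_apply, show a • u = e (a • g (Submodule.Quotient.mk 1)) from (map_smul e a _).symm, h1,
      map_zero, LinearMap.zero_apply]))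
  obtain ⟨a', ha''⟩ := (IsLocalRing.notMem_maximalIdeal.1 ha').exists_left_inv
  apply hψ
  have hrel : ∀ v : W, ψ (Submodule.Quotient.mk v) = (b * a') • ψ₀ (Submodule.Quotient.mk v) := fun v => hg.injective (by
    have h1 := LinearMap.congr_fun ha v
    have h2 := LinearMap.congr_fun hb v
    simp only [LinearMap.comp_apply, LinearMap.smul_apply] at h1 h2
    rw [map_smul]
    refine h2.symm.trans ?_
    refine Eq.trans ?_ (congrArg ((b * a') • ·) h1)
    rw [smul_smul, mul_assoc, ha'', mul_one])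
  obtain ⟨c, hc'⟩ : ∃ c : A ⧸ maximalIdeal A, c = Ideal.Quotient.mk _ (b * a') := ⟨_, rfl⟩
  have h3 : c * ψ₀ (Submodule.Quotient.mk w) = 0 := by
    have h := hrel w
    rw [hψ0] at h
    rw [hc', ← Ideal.Quotient.algebraMap_eq, ← Algebra.smul_def]
    exact h.symm
  have hc0 : c = 0 := (mul_eq_zero.1 h3).resolve_right hψ₀
  rw [hrel x, Algebra.smul_def, Ideal.Quotient.algebraMap_eq, ← hc', hc0, zero_mul]

theorem gorenstein_of_cyc (hω : Dual.IsDualizing A ω) (hn : Dual.IsNormalized A ω)
    (hCM : LocCoh.IsCohenMacaulayLocalRing A) (h : ∀ i, Cyc A (Dual.HD A ω i)) :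
    LocCoh.IsGorensteinLocalRing A := by
  obtain ⟨d, hd, htop⟩ := exists_top hω hn (M := A)
  have hM : LocCoh.IsCohenMacaulayModule A A := hCM.supportDim_eq_depth
  have hz : ∀ i : ℤ, i ≠ -(d : ℤ) → IsZero ((DerivedCategory.homologyFunctor (ModuleCat.{u} A) i).obj ω) := by
    intro i hi
    haveI := (isCohenMacaulay_iff_local hω hn d hd).1 hM (-i) (by lia)
    haveI : Subsingleton (T ω A i) := by rwa [show i = -(-i) by lia]
    haveI : Subsingleton ((DerivedCategory.homologyFunctor (ModuleCat.{u} A) i).obj ω) :=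
      (homEquiv ω i).symm.toEquiv.subsingleton
    exact ModuleCat.isZero_of_subsingleton _
  haveI : ω.IsLE (-(d : ℤ)) := (DerivedCategory.isLE_iff _ _).2 fun i hi => hz i (by lia)
  haveI : ω.IsGE (-(d : ℤ)) := (DerivedCategory.isGE_iff _ _).2 fun i hi => hz i (by lia)
  obtain ⟨W, ⟨eω⟩⟩ := DerivedCategory.exists_iso_singleFunctor_obj_of_isGE_of_isLE ω (-(d : ℤ))
  have hW : Cyc A W := (h (-(d : ℤ))).congr
    (((DerivedCategory.homologyFunctor (ModuleCat.{u} A) (-(d : ℤ))).mapIso eω ≪≫
      (DerivedCategory.singleFunctorCompHomologyFunctorIso (ModuleCat.{u} A) (-(d : ℤ))).app W).toLinearEquiv)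
  obtain ⟨w, hw⟩ := hW
  let π : A →ₗ[A] W := LinearMap.toSpanSingleton A W w
  have hπs : Function.Surjective π := LinearMap.range_eq_top.1 (by rw [LinearMap.range_toSpanSingleton]; exact hw)
  have hπi : Function.Injective π := (injective_iff_map_eq_zero π).2 fun a ha => by
    refine hω.toEnd_bijective.1 ?_
    show a • 𝟙 ω = (0 : A) • 𝟙 ω
    rw [zero_smul]
    have h1 : a • 𝟙 W = 0 := ModuleCat.hom_ext (LinearMap.ext fun v => by
      obtain ⟨c, rfl⟩ := hπs v
      show a • π c = 0
      rw [← map_smul, smul_eq_mul, mul_comm, ← smul_eq_mul, map_smul, ha, smul_zero])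
    have h2 := congrArg ((DerivedCategory.singleFunctor (ModuleCat.{u} A) (-(d : ℤ))).map) h1
    rw [Functor.map_smul, Functor.map_zero, CategoryTheory.Functor.map_id] at h2
    calc a • 𝟙 ω = eω.hom ≫ (a • 𝟙 _) ≫ eω.inv := by simp
      _ = 0 := by rw [h2]; simp
  let eA : ω ≅ (Dual.inD A A)⟦(d : ℤ)⟧ :=
    eω ≪≫ (DerivedCategory.singleFunctor (ModuleCat.{u} A) (-(d : ℤ))).mapIso
      (LinearEquiv.ofBijective π ⟨hπi, hπs⟩).toModuleIso.symm ≪≫
      (DRingKP.singleShiftIso (ModuleCat.of A A) (-(d : ℤ))).symm ≪≫ eqToIso (by rw [neg_neg])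
  have hd' : Dual.IsDualizing A (Dual.inD A A) :=
    Loc.isDualizing_of_iso ((shiftFunctorCompIsoId (Dual.D A) (d : ℤ) (-(d : ℤ)) (by lia)).app (Dual.inD A A))
      (isDualizing_shift (Loc.isDualizing_of_iso eA hω) (-(d : ℤ)))
  exact { exists_hasInjectiveDimensionLT := exists_hasInjectiveDimensionLT hd' }

/-- The criterion. -/
theorem gorenstein_iff (hω : Dual.IsDualizing A ω) :
    LocCoh.IsGorensteinLocalRing A ↔
      LocCoh.IsCohenMacaulayLocalRing A ∧ ∀ i, Cyc A (Dual.HD A ω i) := by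
  obtain ⟨n, hn⟩ := exists_normalized_shift hω
  have hω' := isDualizing_shift hω n
  constructor
  · intro hG
    refine ⟨Goren.isCohenMacaulay A, fun i => ?_⟩
    obtain ⟨e⟩ := nonempty_hd_shift ω n (i - n)
    have := (cyc_top_of_gorenstein hω' hn (i - n)).congr e
    rwa [show n + (i - n) = i by lia] at this
  · rintro ⟨hCM, hc⟩
    refine gorenstein_of_cyc hω' hn hCM fun i => ?_
    obtain ⟨e⟩ := nonempty_hd_shift ω n i
    exact (hc (n + i)).congr e.symm

end

end Groth.Agent.DualCx
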