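import Groth.Agent.DualCx.Duality
import Groth.Agent.InjHull.Duality
import Groth.Agent.LocH.DepthMisc
import Mathlib.RingTheory.AdicCompletion.AsTensorProduct
import Mathlib.RingTheory.AdicCompletion.Functoriality

/-!
Double Matlis duals of finite modules.
-/

set_option autoImplicit false
set_option maxHeartbeats 1000000
universe u v

namespace Groth.Agent.DualCx

open IsLocalRing TensorProduct

noncomputable section

variable {A : Type u} [CommRing A] {E : Type u} [AddCommGroup E] [Module A E]

/-- `End(E) ⊗ T → Hom(Hom(T,E),E)`. -/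
def endEval (T : Type u) [AddCommGroup T] [Module A T] : Module.End A E ⊗[A] T →ₗ[A] ((T →ₗ[A] E) →ₗ[A] E) :=
  TensorProduct.lift
    { toFun := fun φ =>
        { toFun := fun t => φ.comp (LinearMap.applyₗ t)
          map_add' := fun t t' => LinearMap.ext fun h => by simp
          map_smul' := fun c t => LinearMap.ext fun h => by simp }
      map_add' := fun φ ψ => LinearMap.ext fun t => LinearMap.ext fun h => by simp
      map_smul' := fun c φ => LinearMap.ext fun t => LinearMap.ext fun h => by simp }

@[simp]
theorem endEval_tmul {T : Type u} [AddCommGroup T] [Module A T] (φ : Module.End A E) (t : T) (h : T →ₗ[A] E) :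
    endEval T (φ ⊗ₜ t) h = φ (h t) := rfl

theorem endEval_natural {S T : Type u} [AddCommGroup S] [Module A S] [AddCommGroup T] [Module A T] (g : S →ₗ[A] T)
    (z : Module.End A E ⊗[A] S) :
    endEval T (g.lTensor _ z) = (endEval S z).comp (LinearMap.lcomp A E g) := by
  induction z with
  | zero => simp
  | tmul φ s => exact LinearMap.ext fun h => rfl
  | add a b ha hb => rw [map_add, map_add, ha, hb, map_add, LinearMap.add_comp]

theorem endEval_bijective_free (r : ℕ) : Function.Bijective (endEval (A := A) (E := E) (Fin r → A)) := by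
  classical
  have hs : ∀ h : (Fin r → A) →ₗ[A] E, ∀ t : Fin r → A, h t = ∑ i, t i • h (Pi.single i 1) := fun h t => by
    conv_lhs => rw [pi_eq_sum_univ' t, map_sum]
    exact Finset.sum_congr rfl fun i _ => map_smul h _ _
  let e : Fin r → E →ₗ[A] ((Fin r → A) →ₗ[A] E) := fun i =>
    { toFun := fun y => (LinearMap.toSpanSingleton A E y).comp (LinearMap.proj i)
      map_add' := fun y z => LinearMap.ext fun t => by simp
      map_smul' := fun c y => LinearMap.ext fun t => smul_comm (t i) c y }
  have he : ∀ h : (Fin r → A) →ₗ[A] E, ∑ i, e i (h (Pi.single i 1)) = h := fun h => LinearMap.ext fun t => by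
    rw [LinearMap.sum_apply, hs h t]
    exact Finset.sum_congr rfl fun i _ => rfl
  refine Function.bijective_iff_has_inverse.2 ⟨fun lam => ∑ i, (lam.comp (e i)) ⊗ₜ[A] Pi.single i (1 : A), fun z => ?_,
    fun lam => LinearMap.ext fun h => ?_⟩
  · induction z with
    | zero => simp
    | tmul φ t =>
      have h1 : ∀ i, (endEval (Fin r → A) (φ ⊗ₜ t)).comp (e i) = t i • φ := fun i => LinearMap.ext fun y => by
        show φ ((t i) • y) = t i • φ y
        rw [map_smul]
      simp only [h1, TensorProduct.smul_tmul, ← TensorProduct.tmul_sum]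
      rw [← pi_eq_sum_univ' t]
    | add a b ha hb => simp only [map_add, LinearMap.add_comp, add_tmul, Finset.sum_add_distrib] at *; rw [ha, hb]
  · simp only [map_sum, LinearMap.sum_apply, endEval_tmul, LinearMap.comp_apply]
    rw [← map_sum, he h]

theorem endEval_surjective (hE : Module.Injective A E) (T : Type u) [AddCommGroup T] [Module A T] [Module.Finite A T] :
    Function.Surjective (endEval (A := A) (E := E) T) := by
  obtain ⟨r, π, hπ⟩ := Module.Finite.exists_fin' A T
  intro lam
  have hinj : Function.Injective (LinearMap.lcomp A E π) := fun a b h => LinearMap.ext fun t => by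
    obtain ⟨s, rfl⟩ := hπ t
    exact LinearMap.congr_fun h s
  obtain ⟨lam', hlam⟩ := (Module.Baer.of_injective hE).extension_property _ hinj lam
  obtain ⟨z, rfl⟩ := (endEval_bijective_free r).2 lam'
  exact ⟨π.lTensor _ z, (endEval_natural π z).trans hlam⟩

theorem endEval_bijective [IsNoetherianRing A] (hE : Module.Injective A E) (T : Type u) [AddCommGroup T] [Module A T]
    [Module.Finite A T] : Function.Bijective (endEval (A := A) (E := E) T) := by
  refine ⟨(injective_iff_map_eq_zero _).2 fun z hz => ?_, endEval_surjective hE T⟩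
  obtain ⟨r, π, hπ⟩ := Module.Finite.exists_fin' A T
  obtain ⟨w, rfl⟩ := LinearMap.lTensor_surjective _ hπ z
  let K := LinearMap.ker π
  have hker : LinearMap.ker (LinearMap.lcomp A E K.subtype) ≤ LinearMap.ker (endEval (Fin r → A) w) := by
    intro h hh
    obtain ⟨h', hh'⟩ : ∃ h' : T →ₗ[A] E, h'.comp π = h :=
      ⟨(K.liftQ h fun x hx => LinearMap.congr_fun hh ⟨x, hx⟩).comp (π.quotKerEquivOfSurjective hπ).symm.toLinearMap,
        LinearMap.ext fun x => by
          simp only [LinearMap.comp_apply, LinearEquiv.coe_coe]
          rw [show (π.quotKerEquivOfSurjective hπ).symm (π x) = Submodule.Quotient.mk x from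
            (π.quotKerEquivOfSurjective hπ).symm_apply_eq.2 rfl]
          rfl⟩
    rw [LinearMap.mem_ker, ← hh']
    exact LinearMap.congr_fun ((endEval_natural π w).symm.trans hz) h'
  obtain ⟨μ, hμ⟩ : ∃ μ : (K →ₗ[A] E) →ₗ[A] E, μ.comp (LinearMap.lcomp A E K.subtype) = endEval (Fin r → A) w := by
    let p' := (LinearMap.ker (LinearMap.lcomp A E K.subtype)).liftQ (LinearMap.lcomp A E K.subtype) le_rfl
    obtain ⟨l', hl⟩ := (Module.Baer.of_injective hE).extension_property p'
      (LinearMap.ker_eq_bot.1 (Submodule.ker_liftQ_eq_bot _ _ _ le_rfl)) (Submodule.liftQ _ _ hker)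
    exact ⟨l', LinearMap.ext fun x => LinearMap.congr_fun hl (Submodule.Quotient.mk x)⟩
  obtain ⟨v, rfl⟩ := endEval_surjective hE K μ
  have : w = K.subtype.lTensor _ v := (endEval_bijective_free r).1 (hμ.symm.trans (endEval_natural _ v).symm)
  rw [this, ← LinearMap.lTensor_comp_apply, show π.comp K.subtype = 0 from LinearMap.ext fun x => x.2,
    LinearMap.lTensor_zero, LinearMap.zero_apply]

variable [IsLocalRing A] [IsNoetherianRing A] {f : (A ⧸ maximalIdeal A) →ₗ[A] E}

/-- The double Matlis dual of a finite module is its completion. -/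
theorem nonempty_completion_equiv (hf : InjHull.IsInjectiveHull f) (T : Type v) [AddCommGroup T] [Module A T]
    [Module.Finite A T] :
    Nonempty (AdicCompletion (maximalIdeal A) T ≃ₗ[A] ((T →ₗ[A] E) →ₗ[A] E)) := by
  obtain ⟨N, _, _, _, ⟨e⟩⟩ := LocH.exists_small_copy A T
  obtain ⟨ee⟩ := InjHull.end_equiv_adicCompletion (m := maximalIdeal A) hf
  exact ⟨((AdicCompletion.congr (maximalIdeal A) e).restrictScalars A).trans <|
    ((AdicCompletion.ofTensorProductEquivOfFiniteNoetherian (maximalIdeal A) N).restrictScalars A).symm.trans <|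
    (TensorProduct.congr ee.toLinearEquiv.symm (LinearEquiv.refl A N)).trans <|
    (LinearEquiv.ofBijective _ (endEval_bijective hf.isInjective N)).trans <|
    LinearEquiv.congrLeft E A (LinearEquiv.congrLeft E A e.symm)⟩

/-- Finite modules and their Matlis duals have the same annihilator. -/
theorem annihilator_dual (hf : InjHull.IsInjectiveHull f) (T : Type v) [AddCommGroup T] [Module A T]
    [Module.Finite A T] : Module.annihilator A (T →ₗ[A] E) = Module.annihilator A T := by
  obtain ⟨N, _, _, _, ⟨e⟩⟩ := LocH.exists_small_copy A T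
  rw [(LinearEquiv.congrLeft E A e).annihilator_eq, e.annihilator_eq]
  refine le_antisymm (fun a ha => Module.mem_annihilator.2 fun t => InjHull.apply_injective_local hf ?_)
    (fun a ha => Module.mem_annihilator.2 fun h => LinearMap.ext fun t => ?_)
  · refine LinearMap.ext fun h => ?_
    simpa using LinearMap.congr_fun (Module.mem_annihilator.1 ha h) t
  · show a • h t = 0
    rw [← map_smul, Module.mem_annihilator.1 ha t, map_zero]

end

end Groth.Agent.DualCx
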