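import Groth.Agent.DualCx.LocalizeGlobal

/-!
Gluing dualizing complexes over a finite cover by basic opens.
-/

set_option autoImplicit false
set_option linter.style.haveILetI false
set_option backward.isDefEq.respectTransparency false
set_option maxHeartbeats 1000000
universe u

namespace Groth.Agent.DualCx.Loc

open CategoryTheory Limits DerivedCategory HomologicalComplex DRingKP
open scoped TensorProduct

attribute [local instance] HasDerivedCategory.standard

noncomputable section

variable {A : Type u} [CommRing A]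

theorem subsingleton_hd_of_injdim {ω : Dual.D A} (hω : Dual.IsDualizing A ω) :
    ∃ a b : ℤ, ∀ i, i < a ∨ b < i → Subsingleton (Dual.HD A ω i) := by
  obtain ⟨R⟩ := nonempty_rep hω
  exact ⟨R.a, R.b, fun i hi => ModuleCat.subsingleton_of_isZero (((HomologicalComplex.exactAt_iff_isZero_homology _ _).1
    (ShortComplex.exact_of_isZero_X₂ _ (R.zero i hi))).of_iso
      (((DerivedCategory.homologyFunctor (ModuleCat.{u} A) i).mapIso R.iso).symm ≪≫
        (DerivedCategory.homologyFunctorFactors (ModuleCat.{u} A) i).app R.J))⟩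

/-- Cohomology of a flat base change. -/
theorem nonempty_hd_lBaseChange {B : Type u} [CommRing B] [Algebra A B] [Module.Flat A B]
    [DRing.HasLBaseChange (algebraMap A B)] (K : Dual.D A) (n : ℤ) :
    Nonempty (Dual.HD B ((DRing.LBaseChange (algebraMap A B)).obj K) n ≃ₗ[B] B ⊗[A] Dual.HD A K n) := by
  obtain ⟨P, π, hP, hπ⟩ := exists_kProj_resolution (DerivedCategory.Q.objPreimage K)
  haveI := hP
  haveI := hπ
  let e : DRing.toD P ≅ K := asIso (DerivedCategory.Q.map π) ≪≫ DerivedCategory.Q.objObjPreimageIso K
  let e1 := (DerivedCategory.homologyFunctor (ModuleCat.{u} B) n).mapIso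
    (((DRing.LBaseChange (algebraMap A B)).mapIso e).symm ≪≫ lBaseChangeIso (algebraMap A B) P) ≪≫
      bcHHIso (B := fun _ : Unit => B) () P n
  let e2 : P.homology n ≅ (DerivedCategory.homologyFunctor (ModuleCat.{u} A) n).obj K :=
    ((homologyFunctorFactors (ModuleCat.{u} A) n).app P).symm ≪≫
      (DerivedCategory.homologyFunctor (ModuleCat.{u} A) n).mapIso e
  exact ⟨e1.toLinearEquiv.trans (e2.toLinearEquiv.baseChange A B _ _)⟩

theorem isDualizing_of_away [IsNoetherianRing A] {n : ℕ} (f : Fin n → A) (hf : Ideal.span (Set.range f) = ⊤)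
    (ω : Dual.D A) (h : ∀ i : Fin n, ∃ _ : DRing.HasLBaseChange (algebraMap A (Localization.Away (f i))),
      Dual.IsDualizing (Localization.Away (f i)) ((DRing.LBaseChange (algebraMap A (Localization.Away (f i)))).obj ω)) :
    Dual.IsDualizing A ω := by
  haveI : ∀ i, Module.Flat A (Localization.Away (f i)) := fun i =>
    IsLocalization.flat (Localization.Away (f i)) (Submonoid.powers (f i))
  choose hB hd using h
  have eH := fun i j => (nonempty_hd_lBaseChange (B := Localization.Away (f i)) ω j).some
  have hfin : ∀ j, Module.Finite A (Dual.HD A ω j) := fun j =>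
    finite_of_detects _ (detects_away f hf) (Dual.HD A ω j) fun i =>
      haveI := (hd i).finite_cohomology j
      Module.Finite.equiv (eH i j)
  choose a b hab using fun i => subsingleton_hd_of_injdim (hd i)
  choose a' b' hab' using fun i => (hd i).finite_injective_dimension
  obtain ⟨lo, hlo⟩ : ∃ lo : ℤ, ∀ i, lo ≤ a i ∧ lo ≤ a' i := by
    obtain ⟨m, hm⟩ := Finite.exists_le (fun i => -(min (a i) (a' i)))
    exact ⟨-m, fun i => by have := hm i; constructor <;> lia⟩
  obtain ⟨hi, hhi⟩ : ∃ hi : ℤ, ∀ i, b i ≤ hi ∧ b' i ≤ hi := by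
    obtain ⟨m, hm⟩ := Finite.exists_le (fun i => max (b i) (b' i))
    exact ⟨m, fun i => by have := hm i; constructor <;> lia⟩
  have hz : ∀ j, j < lo ∨ hi < j → Subsingleton (Dual.HD A ω j) := fun j hj =>
    detects_away f hf (Dual.HD A ω j) fun i => by
      haveI := hab i j (by have := hlo i; have := hhi i; lia)
      exact (eH i j).symm.toEquiv.subsingleton
  obtain ⟨C, hC⟩ : ∃ C : DRing.Cx A, Nonempty (DRing.toD C ≅ ω) :=
    ⟨DerivedCategory.Q.objPreimage ω, ⟨DerivedCategory.Q.objObjPreimageIso ω⟩⟩
  obtain ⟨eC⟩ := hC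
  haveI : C.IsGE lo := (CochainComplex.isGE_iff C lo).2 fun j hj => by
    haveI := hz j (Or.inl hj)
    exact (HomologicalComplex.exactAt_iff_isZero_homology _ _).2
      ((ModuleCat.isZero_of_subsingleton ((DerivedCategory.homologyFunctor (ModuleCat.{u} A) j).obj ω)).of_iso
        (((DerivedCategory.homologyFunctorFactors (ModuleCat.{u} A) j).app C).symm ≪≫
          (DerivedCategory.homologyFunctor (ModuleCat.{u} A) j).mapIso eC))
  haveI : QuasiIso (C.πTruncGE lo) := (CochainComplex.quasiIso_πTruncGE_iff C lo).2 inferInstance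
  obtain ⟨L, q, hq, hL, hLa⟩ := CochainComplex.Plus.modelCategoryQuillen.exists_quasiIso_injective (C.truncGE lo) lo
  haveI := hLa
  haveI := hq
  haveI := hL
  haveI := CochainComplex.isKInjective_of_injective L lo
  let eL : DRing.toD L ≅ ω :=
    (asIso (DerivedCategory.Q.map q)).symm ≪≫ (asIso (DerivedCategory.Q.map (C.πTruncGE lo))).symm ≪≫ eC
  have hLz : ∀ j : ℤ, j < lo → IsZero (L.X j) := fun j hj => (CochainComplex.isStrictlyGE_iff L lo).1 hLa j hj
  have hpc : DRing.IsPseudoCoherent' A ω :=
    isPseudoCoherent'_of_bounded (b := hi) (fun j hj => hz j (Or.inr hj)) hfin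
  have hamp : DRing.HasInjAmplitudeIn A lo hi ω := by
    refine (injAmp_iff ω lo hi).2 fun I j hj => ?_
    obtain ⟨E, c, hEb, hEf, ⟨e⟩⟩ : DRing.IsPseudoCoherent' A (Dual.inD A (A ⧸ I)) :=
      isPseudoCoherent'_of_bounded (b := 0) (fun k hk => ModuleCat.subsingleton_of_isZero
        ((DerivedCategory.isLE_iff _ 0).1 inferInstance k hk)) fun k => by
          by_cases hk : k = 0
          · subst hk
            haveI : Module.Finite A ((𝟭 (ModuleCat.{u} A)).obj (ModuleCat.of A (A ⧸ I))) :=
              (inferInstance : Module.Finite A (A ⧸ I))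
            exact Module.Finite.equiv
              ((DerivedCategory.singleFunctorCompHomologyFunctorIso (ModuleCat.{u} A) 0).app
                (ModuleCat.of A (A ⧸ I))).symm.toLinearEquiv
          · haveI : Subsingleton (Dual.HD A (Dual.inD A (A ⧸ I)) k) := ModuleCat.subsingleton_of_isZero (by
              rcases lt_or_gt_of_ne hk with h | h
              · exact (DerivedCategory.isGE_iff _ 0).1 inferInstance k h
              · exact (DerivedCategory.isLE_iff _ 0).1 inferInstance k h)
            infer_instance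
    have hP := finitePresentation_X hEf
    let Ln := (shiftFunctor (DRing.Cx A) j).obj L
    haveI : ∀ k, Injective (Ln.X k) := fun k => inferInstanceAs (Injective (L.X (k + j)))
    have ha' : ∀ k : ℤ, k < lo - j → IsZero (Ln.X k) := fun k hk => hLz (k + j) (by lia)
    haveI : Ln.IsStrictlyGE (lo - j) := (CochainComplex.isStrictlyGE_iff Ln _).2 ha'
    haveI := CochainComplex.isKInjective_of_injective Ln (lo - j)
    suffices Subsingleton (DRing.toD E ⟶ DRing.toD Ln) from @Equiv.subsingleton _ _
      (Iso.homCongr e ((DerivedCategory.Q.commShiftIso j).app L ≪≫ (shiftFunctor (Dual.D A) j).mapIso eL)).symm this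
    refine subsingleton_of_forall_eq 0 fun φ => ?_
    obtain ⟨g, rfl⟩ := exists_lift_inj φ
    have htop := eq_top_of_forall (fun i => Submonoid.powers (f i)) (fun I hI => by
        by_contra hcon
        push Not at hcon
        refine hI.ne_top (top_le_iff.1 (hf ▸ Ideal.span_le.2 ?_))
        rintro _ ⟨i, rfl⟩
        obtain ⟨s, ⟨k, rfl⟩, hs⟩ := hcon i
        exact hI.isPrime.mem_of_pow_mem k hs)
      (LinearMap.ker (LinearMap.toSpanSingleton A _ (DerivedCategory.Q.map g))) fun i => by
      haveI := hB i
      obtain ⟨e₁⟩ := lbIso (B := Localization.Away (f i)) (Submonoid.powers (f i)) eL hpc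
      let e₂ := bcSingleIso (B := Localization.Away (f i)) (A ⧸ I) e
      haveI := hab' i ((Localization.Away (f i)) ⊗[A] (A ⧸ I)) j (by have := hlo i; have := hhi i; lia)
      haveI : Subsingleton (DRing.toD ((bc (algebraMap A (Localization.Away (f i)))).obj E) ⟶
          DRing.toD ((bc (algebraMap A (Localization.Away (f i)))).obj Ln)) :=
        @Equiv.subsingleton _ _ (Iso.homCongr e₂
          (DerivedCategory.Q.mapIso (((bc (algebraMap A (Localization.Away (f i)))).commShiftIso j).app L) ≪≫
            (DerivedCategory.Q.commShiftIso j).app _ ≪≫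
              (shiftFunctor (Dual.D (Localization.Away (f i))) j).mapIso e₁)) inferInstance
      obtain ⟨t, ht⟩ := hom_kill (B := Localization.Away (f i)) (Submonoid.powers (f i)) hP hEb ha'
        (fun k => inferInstance) g (Subsingleton.elim _ _)
      exact ⟨t, t.2, ht⟩
    have h4 : (1 : A) ∈ LinearMap.ker (LinearMap.toSpanSingleton A _ (DerivedCategory.Q.map g)) :=
      htop ▸ Submodule.mem_top
    simpa using h4
  exact isDualizing_of_injAmp_of_cover hamp hfin (fun i => Localization.Away (f i))
    (fun i => Submonoid.powers (f i)) (fun I hI => by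
      by_contra hcon
      push Not at hcon
      refine hI.ne_top (top_le_iff.1 (hf ▸ Ideal.span_le.2 ?_))
      rintro _ ⟨i, rfl⟩
      obtain ⟨s, ⟨k, rfl⟩, hs⟩ := hcon i
      exact hI.isPrime.mem_of_pow_mem k hs) fun i => ⟨hB i, hd i⟩

end

end Groth.Agent.DualCx.Loc
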