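import Groth.Agent.DualCx.GorCriterion
import Groth.Agent.DualCx.LocalizeAway

/-!
The Gorenstein locus of a ring with a dualizing complex is open.
-/

set_option autoImplicit false
set_option linter.style.haveILetI false
universe u

namespace Groth.Agent.DualCx

open CategoryTheory IsLocalRing
open scoped TensorProduct

attribute [local instance] HasDerivedCategory.standard

noncomputable section

variable {A : Type u} [CommRing A]

theorem cyc_localized_iff (q : PrimeSpectrum A) (M : Type u) [AddCommGroup M] [Module A M] :
    Cyc (Localization.AtPrime q.asIdeal) (LocalizedModule q.asIdeal.primeCompl M) ↔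
      ∃ w : M, q ∉ Module.support A (M ⧸ Submodule.span A {w}) := by
  constructor
  · rintro ⟨z, hz⟩
    induction z using LocalizedModule.induction_on with
    | h w s =>
      refine ⟨w, ?_⟩
      rw [Module.notMem_support_iff']
      intro y
      obtain ⟨v, rfl⟩ := Submodule.Quotient.mk_surjective _ y
      obtain ⟨c, hc⟩ := Submodule.mem_span_singleton.1
        (hz ▸ Submodule.mem_top : LocalizedModule.mk v 1 ∈
          Submodule.span (Localization.AtPrime q.asIdeal) {LocalizedModule.mk w s})
      induction c using Localization.induction_on with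
      | H x =>
        obtain ⟨r, t⟩ := x
        rw [LocalizedModule.mk_smul_mk, LocalizedModule.mk_eq] at hc
        obtain ⟨u, hu⟩ := hc
        refine ⟨(u * (t * s) : q.asIdeal.primeCompl), (u * (t * s)).2, ?_⟩
        rw [← Submodule.Quotient.mk_smul, Submodule.Quotient.mk_eq_zero]
        simp only [Submonoid.smul_def, OneMemClass.coe_one, one_smul] at hu
        rw [Submonoid.coe_mul, mul_smul, ← hu]
        exact Submodule.smul_mem _ _ (Submodule.smul_mem _ _ (Submodule.mem_span_singleton_self w))
  · rintro ⟨w, hw⟩
    refine ⟨LocalizedModule.mk w 1, eq_top_iff.2 fun z _ => ?_⟩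
    induction z using LocalizedModule.induction_on with
    | h v s =>
      rw [Module.notMem_support_iff'] at hw
      obtain ⟨t, ht, hv⟩ := hw (Submodule.Quotient.mk v)
      rw [← Submodule.Quotient.mk_smul, Submodule.Quotient.mk_eq_zero, Submodule.mem_span_singleton] at hv
      obtain ⟨a, ha⟩ := hv
      refine Submodule.mem_span_singleton.2 ⟨Localization.mk a (⟨t, ht⟩ * s), ?_⟩
      rw [LocalizedModule.mk_smul_mk, mul_one, ha]
      exact LocalizedModule.mk_cancel_common_left ⟨t, ht⟩ s v

theorem isOpen_cyc [IsNoetherianRing A] (M : Type u) [AddCommGroup M] [Module A M] [Module.Finite A M] :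
    IsOpen {q : PrimeSpectrum A | Cyc (Localization.AtPrime q.asIdeal) (LocalizedModule q.asIdeal.primeCompl M)} := by
  simp only [cyc_localized_iff]
  have h : {q : PrimeSpectrum A | ∃ w : M, q ∉ Module.support A (M ⧸ Submodule.span A {w})} =
      ⋃ w : M, (Module.support A (M ⧸ Submodule.span A {w}))ᶜ := by
    ext q; simp
  rw [h]
  refine isOpen_iUnion fun w => ?_
  rw [isOpen_compl_iff, Module.support_eq_zeroLocus]
  exact PrimeSpectrum.isClosed_zeroLocus _

theorem gorenstein_atPrime_iff [IsNoetherianRing A] {ω : Dual.D A} (hω : Dual.IsDualizing A ω) (q : PrimeSpectrum A) :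
    LocCoh.IsGorensteinLocalRing (Localization.AtPrime q.asIdeal) ↔
      LocCoh.IsCohenMacaulayLocalRing (Localization.AtPrime q.asIdeal) ∧
        ∀ i, Cyc (Localization.AtPrime q.asIdeal) (LocalizedModule q.asIdeal.primeCompl (Dual.HD A ω i)) := by
  let B := Localization.AtPrime q.asIdeal
  haveI : DRing.HasLBaseChange (algebraMap A B) := DRingKP.hasLBaseChange _
  haveI : Module.Flat A B := IsLocalization.flat B q.asIdeal.primeCompl
  have e : ∀ i, (Dual.HD B ((DRing.LBaseChange (algebraMap A B)).obj ω) i ≃ₗ[B]
      LocalizedModule q.asIdeal.primeCompl (Dual.HD A ω i)) := fun i =>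
    (Loc.nonempty_hd_lBaseChange (B := B) ω i).some.trans
      (LocalizedModule.equivTensorProduct q.asIdeal.primeCompl (Dual.HD A ω i)).symm
  rw [gorenstein_iff (Loc.isDualizing_lBaseChange q.asIdeal.primeCompl hω)]
  exact and_congr_right fun _ => forall_congr' fun i => ⟨fun h => h.congr (e i), fun h => h.congr (e i).symm⟩

theorem isOpen_gorenstein [IsNoetherianRing A] {ω : Dual.D A} (hω : Dual.IsDualizing A ω) :
    IsOpen {q : PrimeSpectrum A | LocCoh.IsGorensteinLocalRing (Localization.AtPrime q.asIdeal)} := by
  obtain ⟨a, b, hab⟩ := Loc.subsingleton_hd_of_injdim hω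
  have heq : {q : PrimeSpectrum A | LocCoh.IsGorensteinLocalRing (Localization.AtPrime q.asIdeal)} =
      {q : PrimeSpectrum A | ∀ i i' : ℤ, ¬ Van ω q.asIdeal A i → ¬ Van ω q.asIdeal A i' → i = i'} ∩
        ⋂ i ∈ Finset.Icc a b, {q : PrimeSpectrum A |
          Cyc (Localization.AtPrime q.asIdeal) (LocalizedModule q.asIdeal.primeCompl (Dual.HD A ω i))} := by
    ext q
    simp only [Set.mem_inter_iff, Set.mem_ofPred_eq, Set.mem_iInter]
    rw [gorenstein_atPrime_iff hω q, isCohenMacaulayLocalRing_iff hω]
    refine and_congr_right fun _ => ⟨fun h i _ => h i, fun h i => ?_⟩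
    by_cases hi : i ∈ Finset.Icc a b
    · exact h i hi
    · haveI := hab i (by rw [Finset.mem_Icc] at hi; lia)
      exact cyc_of_subsingleton
  rw [heq]
  exact (isOpen_cm hω A).inter (isOpen_biInter_finset fun i _ =>
    haveI := hω.finite_cohomology i; isOpen_cyc _)

end

end Groth.Agent.DualCx
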