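import Groth.Agent.DualCx.LocalizeAway
import Groth.Agent.DualCx.Local
import Groth.Agent.DualCx.Apps

/-!
A complex all of whose localizations are dualizing, over a ring of finite dimension, is dualizing.
-/

set_option autoImplicit false
set_option linter.style.haveILetI false
set_option backward.isDefEq.respectTransparency false
set_option maxHeartbeats 1000000
universe u

namespace Groth.Agent.DualCx.Loc

open CategoryTheory Limits DerivedCategory HomologicalComplex DRingKP IsLocalRing
open scoped TensorProduct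

attribute [local instance] HasDerivedCategory.standard

noncomputable section

variable {A : Type u} [CommRing A] [IsNoetherianRing A]

/-- Injective amplitude can be checked after localization. -/
theorem injAmp_of_cover {K : Dual.D A} {lo hi : ℤ} (hz : ∀ j, j < lo ∨ hi < j → Subsingleton (Dual.HD A K j))
    (hfin : ∀ j, Module.Finite A (Dual.HD A K j))
    {ι : Type*} (B : ι → Type u) [∀ i, CommRing (B i)] [∀ i, Algebra A (B i)] (S : ι → Submonoid A)
    [∀ i, IsLocalization (S i) (B i)] [∀ i, DRing.HasLBaseChange (algebraMap A (B i))]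
    (hS : ∀ I : Ideal A, I.IsMaximal → ∃ i, ∀ s ∈ S i, s ∉ I)
    (hv : ∀ (i : ι) (I : Ideal A) (j : ℤ), (j < lo ∨ hi < j) →
      Subsingleton (Dual.inD (B i) (B i ⊗[A] (A ⧸ I)) ⟶ ((DRing.LBaseChange (algebraMap A (B i))).obj K)⟦j⟧)) :
    DRing.HasInjAmplitudeIn A lo hi K := by
  haveI : ∀ i, Module.Flat A (B i) := fun i => IsLocalization.flat (B i) (S i)
  obtain ⟨C, hC⟩ : ∃ C : DRing.Cx A, Nonempty (DRing.toD C ≅ K) :=
    ⟨DerivedCategory.Q.objPreimage K, ⟨DerivedCategory.Q.objObjPreimageIso K⟩⟩
  obtain ⟨eC⟩ := hC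
  haveI : C.IsGE lo := (CochainComplex.isGE_iff C lo).2 fun j hj => by
    haveI := hz j (Or.inl hj)
    exact (HomologicalComplex.exactAt_iff_isZero_homology _ _).2
      ((ModuleCat.isZero_of_subsingleton ((DerivedCategory.homologyFunctor (ModuleCat.{u} A) j).obj K)).of_iso
        (((DerivedCategory.homologyFunctorFactors (ModuleCat.{u} A) j).app C).symm ≪≫
          (DerivedCategory.homologyFunctor (ModuleCat.{u} A) j).mapIso eC))
  haveI : QuasiIso (C.πTruncGE lo) := (CochainComplex.quasiIso_πTruncGE_iff C lo).2 inferInstance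
  obtain ⟨L, q, hq, hL, hLa⟩ := CochainComplex.Plus.modelCategoryQuillen.exists_quasiIso_injective (C.truncGE lo) lo
  haveI := hLa
  haveI := hq
  haveI := hL
  haveI := CochainComplex.isKInjective_of_injective L lo
  let eL : DRing.toD L ≅ K :=
    (asIso (DerivedCategory.Q.map q)).symm ≪≫ (asIso (DerivedCategory.Q.map (C.πTruncGE lo))).symm ≪≫ eC
  have hLz : ∀ j : ℤ, j < lo → IsZero (L.X j) := fun j hj => (CochainComplex.isStrictlyGE_iff L lo).1 hLa j hj
  have hpc : DRing.IsPseudoCoherent' A K :=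
    isPseudoCoherent'_of_bounded (b := hi) (fun j hj => hz j (Or.inr hj)) hfin
  refine (injAmp_iff K lo hi).2 fun I j hj => ?_
  obtain ⟨E, c, hEb, hEf, ⟨e⟩⟩ : DRing.IsPseudoCoherent' A (Dual.inD A (A ⧸ I)) :=
    isPseudoCoherent'_of_bounded (b := 0) (fun k hk => ModuleCat.subsingleton_of_isZero
      ((DerivedCategory.isLE_iff _ 0).1 inferInstance k hk)) fun k => by
        by_cases hk : k = 0
        · subst hk
          haveI : Module.Finite A ((𝟭 (ModuleCat.{u} A)).obj (ModuleCat.of A (A ⧸ I))) :=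
            (inferInstance : Module.Finite A (A ⧸ I))
          exact Module.Finite.equiv
            ((DerivedCategory.singleFunctorCompHomologyFunctorIso (ModuleCat.{u} A) 0).app
              (ModuleCat.of A (A ⧸ I))).symm.toLinearEquiv
        · haveI : Subsingleton (Dual.HD A (Dual.inD A (A ⧸ I)) k) := ModuleCat.subsingleton_of_isZero (by
            rcases lt_or_gt_of_ne hk with h | h
            · exact (DerivedCategory.isGE_iff _ 0).1 inferInstance k h
            · exact (DerivedCategory.isLE_iff _ 0).1 inferInstance k h)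
          infer_instance
  have hP := finitePresentation_X hEf
  let Ln := (shiftFunctor (DRing.Cx A) j).obj L
  haveI : ∀ k, Injective (Ln.X k) := fun k => inferInstanceAs (Injective (L.X (k + j)))
  have ha' : ∀ k : ℤ, k < lo - j → IsZero (Ln.X k) := fun k hk => hLz (k + j) (by lia)
  haveI : Ln.IsStrictlyGE (lo - j) := (CochainComplex.isStrictlyGE_iff Ln _).2 ha'
  haveI := CochainComplex.isKInjective_of_injective Ln (lo - j)
  suffices Subsingleton (DRing.toD E ⟶ DRing.toD Ln) from @Equiv.subsingleton _ _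
    (Iso.homCongr e ((DerivedCategory.Q.commShiftIso j).app L ≪≫ (shiftFunctor (Dual.D A) j).mapIso eL)).symm this
  refine subsingleton_of_forall_eq 0 fun φ => ?_
  obtain ⟨g, rfl⟩ := exists_lift_inj φ
  have htop := eq_top_of_forall S hS
    (LinearMap.ker (LinearMap.toSpanSingleton A _ (DerivedCategory.Q.map g))) fun i => by
    obtain ⟨e₁⟩ := lbIso (B := B i) (S i) eL hpc
    let e₂ := bcSingleIso (B := B i) (A ⧸ I) e
    haveI := hv i I j hj
    haveI : Subsingleton (DRing.toD ((bc (algebraMap A (B i))).obj E) ⟶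
        DRing.toD ((bc (algebraMap A (B i))).obj Ln)) :=
      @Equiv.subsingleton _ _ (Iso.homCongr e₂
        (DerivedCategory.Q.mapIso (((bc (algebraMap A (B i))).commShiftIso j).app L) ≪≫
          (DerivedCategory.Q.commShiftIso j).app _ ≪≫
            (shiftFunctor (Dual.D (B i)) j).mapIso e₁)) inferInstance
    obtain ⟨t, ht⟩ := hom_kill (B := B i) (S i) hP hEb ha' (fun k => inferInstance) g (Subsingleton.elim _ _)
    exact ⟨t, t.2, ht⟩
  have h4 : (1 : A) ∈ LinearMap.ker (LinearMap.toSpanSingleton A _ (DerivedCategory.Q.map g)) :=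
    htop ▸ Submodule.mem_top
  simpa using h4

theorem exists_range {p : PrimeSpectrum A} {K : Dual.D A} [DRing.HasLBaseChange (algebraMap A (Localization.AtPrime p.asIdeal))]
    (hB : Dual.IsDualizing (Localization.AtPrime p.asIdeal)
      ((DRing.LBaseChange (algebraMap A (Localization.AtPrime p.asIdeal))).obj K)) (D : ℕ) (hD : ringKrullDim A ≤ D) :
    ∃ (q : PrimeSpectrum A) (n : ℤ), q.asIdeal ∈ minimalPrimes A ∧
      (∃ m : Dual.HD A K n, ∀ u ∉ q.asIdeal, u • m ≠ 0) ∧
      ∀ (M : Type u) [AddCommGroup M] [Module (Localization.AtPrime p.asIdeal) M]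
        [Module.Finite (Localization.AtPrime p.asIdeal) M] (j : ℤ),
        j < n ∨ n + D < j →
          Subsingleton (T ((DRing.LBaseChange (algebraMap A (Localization.AtPrime p.asIdeal))).obj K) M j) := by
  let B := Localization.AtPrime p.asIdeal
  haveI : Module.Flat A B := IsLocalization.flat B p.asIdeal.primeCompl
  let ω := (DRing.LBaseChange (algebraMap A B)).obj K
  have hBdim : ringKrullDim B ≤ (D : WithBot ℕ∞) :=
    le_trans (Order.krullDim_le_of_strictMono (PrimeSpectrum.comap (algebraMap A B))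
      ((show Monotone (PrimeSpectrum.comap (algebraMap A B)) from fun _ _ h => Ideal.comap_mono h).strictMono_of_injective
        (PrimeSpectrum.localization_comap_injective B p.asIdeal.primeCompl))) hD
  obtain ⟨r₀, hr₀⟩ : ∃ r₀ : PrimeSpectrum B, r₀.asIdeal ∈ minimalPrimes B ∧
      ∀ r : PrimeSpectrum B, r.asIdeal ∈ minimalPrimes B → del hB r ≤ del hB r₀ := by
    haveI : Finite (minimalPrimes B) := (minimalPrimes.finite_of_isNoetherianRing B).to_subtype
    obtain ⟨q, hq, -⟩ := Ideal.exists_minimalPrimes_le (show (⊥ : Ideal B) ≤ maximalIdeal B from bot_le)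
    haveI : Nonempty (minimalPrimes B) := ⟨⟨q, hq⟩⟩
    obtain ⟨r, hr⟩ := Finite.exists_max (fun r : minimalPrimes B => del hB ⟨r.1, r.2.1.1⟩)
    exact ⟨⟨r.1, r.2.1.1⟩, r.2, fun s hs => hr ⟨s.asIdeal, hs⟩⟩
  obtain ⟨hmin, hmax⟩ := hr₀
  have hq : r₀.asIdeal.comap (algebraMap A B) ∈ minimalPrimes A := by
    haveI := r₀.isPrime
    refine ⟨⟨inferInstance, bot_le⟩, fun q' ⟨hq', _⟩ hle => ?_⟩
    have hd : Disjoint (p.asIdeal.primeCompl : Set A) q' := Set.disjoint_left.2 fun x hx hxq =>
      Set.disjoint_left.1 ((IsLocalization.isPrime_iff_isPrime_disjoint p.asIdeal.primeCompl B _).1 r₀.isPrime).2 hx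
        (hle hxq)
    have hp' := IsLocalization.isPrime_of_isPrime_disjoint p.asIdeal.primeCompl B q' hq' hd
    have h1 : q'.map (algebraMap A B) ≤ r₀.asIdeal := Ideal.map_le_iff_le_comap.2 hle
    have h2 := hmin.2 ⟨hp', bot_le⟩ h1
    exact (Ideal.comap_mono h2).trans (IsLocalization.comap_map_of_isPrime_disjoint p.asIdeal.primeCompl B hq' hd).le
  haveI : r₀.asIdeal.IsPrime := r₀.isPrime
  refine ⟨⟨r₀.asIdeal.comap (algebraMap A B), inferInstance⟩, -del hB r₀, hq, ?_, fun M _ _ _ j hj => ?_⟩
  · by_contra hc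
    push Not at hc
    have hnt := (nontrivial_hd_minimal_iff hB r₀.asIdeal hmin (-del hB r₀)).2 rfl
    refine not_subsingleton_iff_nontrivial.2 hnt ?_
    obtain ⟨e⟩ := nonempty_hd_lBaseChange (B := B) K (-del hB r₀)
    rw [LocalizedModule.subsingleton_iff]
    intro x
    obtain ⟨y, rfl⟩ := e.symm.surjective x
    obtain ⟨⟨m, s⟩, hms⟩ := IsLocalizedModule.surj p.asIdeal.primeCompl
      (TensorProduct.mk A B (Dual.HD A K (-del hB r₀)) 1) y
    obtain ⟨u, hu, hum⟩ := hc m
    refine ⟨algebraMap A B (u * s), fun h => ?_, e.injective ?_⟩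
    · rcases r₀.isPrime.mem_or_mem (map_mul (algebraMap A B) u s ▸ h) with h | h
      · exact hu h
      · exact r₀.isPrime.ne_top (Ideal.eq_top_of_isUnit_mem _ h (IsLocalization.map_units B s))
    · rw [map_smul, LinearEquiv.apply_symm_apply, map_zero, map_mul, mul_smul, algebraMap_smul, algebraMap_smul]
      have : (s : A) • y = TensorProduct.mk A B _ 1 m := hms
      rw [this, ← map_smul, hum, map_zero]
  · by_contra hns
    have hnv := (nontrivial_iff_not_van (ω := ω) (M := M) j).1 (not_subsingleton_iff_nontrivial.1 hns)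
    obtain ⟨r, -, -, h1, h2⟩ := exists_of_not_van (q := closedPoint B) hB hnv
    obtain ⟨r', hr', hr'r⟩ := Ideal.exists_minimalPrimes_le (show (⊥ : Ideal B) ≤ r.asIdeal from bot_le)
    have h3 := hmax ⟨r', hr'.1.1⟩ hr'
    have h4 : del hB r ≤ del hB ⟨r', hr'.1.1⟩ := del_le hB hr'r
    have h5 := del_le hB (show r₀ ≤ closedPoint B from le_maximalIdeal r₀.isPrime.ne_top)
    have h6 : del hB r₀ - del hB (closedPoint B) ≤ D := by
      obtain ⟨k, hk⟩ : ∃ k : ℕ, (k : ℤ) = del hB r₀ - del hB (closedPoint B) := ⟨_, Int.toNat_of_nonneg (by lia)⟩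
      have h7 := le_supportDim_localized hB (q := closedPoint B) (p := r₀) (M := B)
        (Module.mem_support_iff_of_finite.2 (by
          rw [show Module.annihilator B B = ⊥ from Module.annihilator_eq_bot.2 inferInstance]; exact bot_le))
        (show r₀ ≤ closedPoint B from le_maximalIdeal r₀.isPrime.ne_top) k (by lia)
      rw [supportDim_eq_localized, Module.supportDim_self_eq_ringKrullDim] at h7
      have := le_trans h7 hBdim
      have h8 : k ≤ D := by exact_mod_cast this
      lia
    lia

theorem isDualizing_of_forall_prime (hdim : ringKrullDim A < ⊤) (K : Dual.D A)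
    (hfin : ∀ i : ℤ, Module.Finite A (Dual.HD A K i))
    (h : ∀ p : PrimeSpectrum A, ∃ _ : DRing.HasLBaseChange (algebraMap A (Localization.AtPrime p.asIdeal)),
      Dual.IsDualizing (Localization.AtPrime p.asIdeal)
        ((DRing.LBaseChange (algebraMap A (Localization.AtPrime p.asIdeal))).obj K)) :
    Dual.IsDualizing A K := by
  obtain ⟨D, hD⟩ : ∃ D : ℕ, ringKrullDim A ≤ (D : WithBot ℕ∞) := by
    cases hd : ringKrullDim A with
    | bot => exact ⟨0, bot_le⟩
    | coe d =>
      rw [hd] at hdim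
      lift d to ℕ using (fun h => by subst h; exact lt_irrefl _ hdim)
      exact ⟨d, le_rfl⟩
  choose hH hd using h
  haveI : ∀ p : PrimeSpectrum A, Module.Flat A (Localization.AtPrime p.asIdeal) := fun p =>
    IsLocalization.flat _ p.asIdeal.primeCompl
  have hS : ∀ I : Ideal A, I.IsMaximal → ∃ p : PrimeSpectrum A, ∀ s ∈ p.asIdeal.primeCompl, s ∉ I :=
    fun I hI => ⟨⟨I, hI.isPrime⟩, fun s hs => hs⟩
  choose qm nm hqm hnm hvm using fun p => exists_range (hd p) D hD
  haveI : Finite (minimalPrimes A) := (minimalPrimes.finite_of_isNoetherianRing A).to_subtype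
  choose am bm hab using fun q : minimalPrimes A =>
    subsingleton_hd_of_injdim (hd ⟨q.1, q.2.1.1⟩)
  obtain ⟨m, hm⟩ := Finite.exists_le (fun q => max (-(am q)) (bm q))
  have hn : ∀ p, -m ≤ nm p ∧ nm p ≤ m := by
    intro p
    by_contra hc
    let q : minimalPrimes A := ⟨(qm p).asIdeal, hqm p⟩
    have := hm q
    haveI := hab q (nm p) (by simp only [max_le_iff] at this; lia)
    obtain ⟨x, hx⟩ := hnm p
    obtain ⟨e⟩ := nonempty_hd_lBaseChange (B := Localization.AtPrime q.1) K (nm p)
    haveI : Subsingleton (Localization.AtPrime q.1 ⊗[A] Dual.HD A K (nm p)) := e.symm.toEquiv.subsingleton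
    obtain ⟨⟨u, hu⟩, h0⟩ := (IsLocalizedModule.eq_zero_iff q.1.primeCompl
      (TensorProduct.mk A (Localization.AtPrime q.1) (Dual.HD A K (nm p)) 1) (m := x)).1 (Subsingleton.elim _ _)
    exact hx u hu h0
  have hz : ∀ j, j < -m ∨ m + D < j → Subsingleton (Dual.HD A K j) := fun j hj => by
    refine subsingleton_of_forall_eq 0 fun x => ?_
    have htop := eq_top_of_forall (fun p : PrimeSpectrum A => p.asIdeal.primeCompl) hS
      (LinearMap.ker (LinearMap.toSpanSingleton A (Dual.HD A K j) x)) fun p => by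
      haveI := hvm p (Localization.AtPrime p.asIdeal) j (by have := hn p; lia)
      haveI : Subsingleton (Dual.HD (Localization.AtPrime p.asIdeal) _ j) :=
        (homEquiv ((DRing.LBaseChange (algebraMap A (Localization.AtPrime p.asIdeal))).obj K) j).symm.toEquiv.subsingleton
      obtain ⟨e⟩ := nonempty_hd_lBaseChange (B := Localization.AtPrime p.asIdeal) K j
      haveI : Subsingleton (Localization.AtPrime p.asIdeal ⊗[A] Dual.HD A K j) := e.symm.toEquiv.subsingleton
      obtain ⟨⟨u, hu⟩, h0⟩ := (IsLocalizedModule.eq_zero_iff p.asIdeal.primeCompl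
        (TensorProduct.mk A (Localization.AtPrime p.asIdeal) (Dual.HD A K j) 1) (m := x)).1 (Subsingleton.elim _ _)
      exact ⟨u, hu, h0⟩
    have h4 : (1 : A) ∈ LinearMap.ker (LinearMap.toSpanSingleton A (Dual.HD A K j) x) := htop ▸ Submodule.mem_top
    simpa using h4
  have hamp := injAmp_of_cover (lo := -m) (hi := m + D) hz hfin (fun p : PrimeSpectrum A => Localization.AtPrime p.asIdeal)
    (fun p => p.asIdeal.primeCompl) hS fun p I j hj => hvm p _ j (by have := hn p; lia)
  exact isDualizing_of_injAmp_of_cover hamp hfin _ (fun p => p.asIdeal.primeCompl) hS fun p => ⟨hH p, hd p⟩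

end

end Groth.Agent.DualCx.Loc
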