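import Groth.Agent.DualCx.Criterion
import Groth.Agent.DualCx.Regular

/-!
Uniqueness of dualizing complexes over a local ring.
-/

set_option autoImplicit false
set_option maxHeartbeats 1000000
universe u

namespace Groth.Agent.DualCx

open CategoryTheory Limits DerivedCategory Pretriangulated Opposite

attribute [local instance] HasDerivedCategory.standard

noncomputable section

variable {A : Type u} [CommRing A] {ω : Dual.D A}

/-- The shift by zero on the target. -/
def shiftZero (K X : Dual.D A) : (K ⟶ X) ≃ₗ[A] (K ⟶ X⟦(0 : ℤ)⟧) :=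
  Linear.homCongr A (Iso.refl K) ((shiftFunctorZero (Dual.D A) ℤ).app X).symm

variable (R : Rep ω) (ν : Dual.D A) {L M N : Type u} [AddCommGroup L] [Module A L] [AddCommGroup M] [Module A M]
  [AddCommGroup N] [Module A N] {i j : ℤ}

theorem Rep.h_right {f : L →ₗ[A] M} {g : M →ₗ[A] N} (h : SES f g) (h₂ : Subsingleton (R.H ν L j))
    (hij : i + 1 = j) (x : R.H ν N i) : ∃ y, R.hmap ν i g y = x := by
  have hT := inv_rot_of_distTriang _ (triangleOfSES_distinguished (R.dsc_shortExact h))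
  have h0 : Subsingleton ((DerivedCategory.Q.obj (R.D L))⟦(-1 : ℤ)⟧ ⟶ ν⟦i⟧) := by
    refine subsingleton_of_forall_eq 0 fun v => (shiftFunctor (Dual.D A) (1 : ℤ)).map_injective ?_
    rw [Functor.map_zero]
    let e := (shiftFunctorCompIsoId (Dual.D A) (-1) 1 (by lia)).app (DerivedCategory.Q.obj (R.D L))
    let c := (shiftFunctorAdd' (Dual.D A) i 1 j hij).app ν
    have h1 : e.inv ≫ v⟦(1 : ℤ)⟧' ≫ c.inv = 0 := @Subsingleton.elim _ h₂ _ _
    exact (cancel_epi e.inv).1 ((cancel_mono c.inv).1 (by rw [Category.assoc, h1, comp_zero, zero_comp]))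
  obtain ⟨y, hy⟩ := Triangle.yoneda_exact₂ _ hT x (@Subsingleton.elim _ h0 _ _)
  exact ⟨y, hy.symm⟩

variable [IsLocalRing A] [IsNoetherianRing A]

omit [IsLocalRing A] [IsNoetherianRing A] in
theorem exists_low (hω : Dual.IsDualizing A ω) : ∃ a : ℤ, ∀ i : ℤ, i < a → Subsingleton (Dual.HD A ω i) := by
  obtain ⟨a, b, hab⟩ := hω.finite_injective_dimension
  exact ⟨a, fun i hi => (homEquiv ω i).toEquiv.subsingleton_congr.1 (hab A i (Or.inl hi))⟩

theorem nonempty_iso_of_degree {ν : Dual.D A} (hω : Dual.IsDualizing A ω) (hν : Dual.IsDualizing A ν) {d : ℤ}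
    (hvan : ∀ i : ℤ, i ≠ d → Subsingleton (T ω (A ⧸ IsLocalRing.maximalIdeal A) i))
    (e : T ω (A ⧸ IsLocalRing.maximalIdeal A) d ≃ₗ[A] A ⧸ IsLocalRing.maximalIdeal A)
    (hvan' : ∀ i : ℤ, i ≠ d → Subsingleton (T ν (A ⧸ IsLocalRing.maximalIdeal A) i))
    (e' : T ν (A ⧸ IsLocalRing.maximalIdeal A) d ≃ₗ[A] A ⧸ IsLocalRing.maximalIdeal A) :
    Nonempty (ω ≅ ν) := by
  let m := IsLocalRing.maximalIdeal A
  obtain ⟨R⟩ := nonempty_rep hω
  obtain ⟨a, ha⟩ := exists_low hν
  obtain ⟨eS⟩ := R.exists_single_iso hvan e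
  let K := DerivedCategory.Q.obj (R.D (A ⧸ m))
  let eK : ∀ (X : Dual.D A) (i : ℤ), (K ⟶ X⟦i⟧) ≃ₗ[A] T X (A ⧸ m) (i + d) := fun X i =>
    (Linear.homCongr A eS (Iso.refl (X⟦i⟧))).trans (singleEquiv X _ d i)
  have hKω : ∀ i : ℤ, i ≠ 0 → Subsingleton (K ⟶ ω⟦i⟧) := fun i hi =>
    (eK ω i).toEquiv.subsingleton_congr.2 (hvan (i + d) (by lia))
  have hKν : ∀ i : ℤ, i ≠ 0 → Subsingleton (K ⟶ ν⟦i⟧) := fun i hi =>
    (eK ν i).toEquiv.subsingleton_congr.2 (hvan' (i + d) (by lia))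
  let k₁ : (K ⟶ ω) ≃ₗ[A] A ⧸ m := (shiftZero K ω).trans ((eK ω 0).trans ((zero_add d).symm ▸ e))
  let k₂ : (K ⟶ ν) ≃ₗ[A] A ⧸ m := (shiftZero K ν).trans ((eK ν 0).trans ((zero_add d).symm ▸ e'))
  -- lift a nonzero map to `ω`
  haveI := R.isIso_ev_one
  have hm1 : Subsingleton (R.H ν m 1) :=
    R.h_subsingleton_of_residue ν (fun M _ _ _ j => finite_T hω M j) hν.finite_cohomology ha (hKν 1 one_ne_zero) m
  obtain ⟨η0, hη0⟩ := R.h_right ν (ses_quot (m : Submodule A A)) hm1 (zero_add 1)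
    ((shiftZero K ν) (k₂.symm (Ideal.Quotient.mk m 1)))
  let η : ω ⟶ ν := R.iso.inv ≫ inv (DerivedCategory.Q.map (R.ev (1 : A))) ≫ η0 ≫
    ((shiftFunctorZero (Dual.D A) ℤ).app ν).hom
  let w : K ⟶ ω := DerivedCategory.Q.map (R.dmap (m : Submodule A A).mkQ) ≫
    DerivedCategory.Q.map (R.ev (1 : A)) ≫ R.iso.hom
  have hw : w ≫ η = k₂.symm (Ideal.Quotient.mk m 1) := by
    have h1 : w ≫ η = R.hmap ν 0 (m : Submodule A A).mkQ η0 ≫ ((shiftFunctorZero (Dual.D A) ℤ).app ν).hom := by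
      show _ = (DerivedCategory.Q.map (R.dmap (m : Submodule A A).mkQ) ≫ η0) ≫ _
      simp [w, η]
    rw [h1, hη0]
    simp [shiftZero, Linear.homCongr_apply]
  let Φ : (A ⧸ m) →ₗ[A] A ⧸ m :=
    k₂.toLinearMap.comp ((Linear.rightComp A K η).comp k₁.symm.toLinearMap)
  have hΦ : Function.Bijective Φ := by
    refine bijective_of_ne_zero Φ fun h0 => ?_
    obtain ⟨c, hc⟩ := Submodule.Quotient.mk_surjective _ (k₁ w)
    have h2 : Φ (k₁ w) = Ideal.Quotient.mk m 1 := by
      show k₂ ((k₁.symm (k₁ w)) ≫ η) = _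
      rw [LinearEquiv.symm_apply_apply, hw, LinearEquiv.apply_symm_apply]
    have h3 : Φ (k₁ w) = 0 := by
      rw [← hc, show (Submodule.Quotient.mk c : A ⧸ m) = c • Ideal.Quotient.mk m 1 by
        rw [show Ideal.Quotient.mk m 1 = (Submodule.Quotient.mk 1 : A ⧸ m) from rfl, ← Submodule.Quotient.mk_smul,
          smul_eq_mul, mul_one], map_smul, h0, smul_zero]
    exact (Ideal.ne_top_iff_one m).1 (IsLocalRing.maximalIdeal.isMaximal A).ne_top
      (Ideal.Quotient.eq_zero_iff_mem.1 (h2.symm.trans h3))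
  have hinj : ∀ f : K ⟶ ω, f ≫ η = 0 → f = 0 := fun f hf => by
    have h1 : Φ (k₁ f) = 0 := by
      show k₂ ((k₁.symm (k₁ f)) ≫ η) = 0
      rw [LinearEquiv.symm_apply_apply, hf, map_zero]
    exact k₁.injective (((injective_iff_map_eq_zero Φ).1 hΦ.1 _ h1).trans (map_zero k₁).symm)
  have hsurj : ∀ g : K ⟶ ν, ∃ f : K ⟶ ω, f ≫ η = g := fun g => by
    obtain ⟨x, hx⟩ := hΦ.2 (k₂ g)
    exact ⟨k₁.symm x, k₂.injective hx⟩
  -- the cone of `η`
  obtain ⟨C, α, β, hT⟩ := distinguished_cocone_triangle η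
  let T0 := Triangle.mk η α β
  have hKC : ∀ i : ℤ, Subsingleton (K ⟶ C⟦i⟧) := by
    intro i
    by_cases hi : i = 0
    · subst hi
      refine (shiftZero K C).toEquiv.subsingleton_congr.1 (subsingleton_of_forall_eq 0 fun f => ?_)
      obtain ⟨g, hg⟩ := Triangle.coyoneda_exact₃ T0 hT f (@Subsingleton.elim _ (hKω 1 one_ne_zero) _ _)
      obtain ⟨v, rfl⟩ := hsurj g
      rw [hg]
      exact ((Category.assoc v η α).trans (congrArg (v ≫ ·) (comp_distTriang_mor_zero₁₂ T0 hT : η ≫ α = 0))).trans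
        comp_zero
    by_cases hi' : i = -1
    · subst hi'
      refine subsingleton_of_forall_eq 0 fun f => ?_
      have hT1 := inv_rot_of_distTriang _ hT
      have h0 : f ≫ T0.invRotate.mor₁ = 0 := by
        refine hinj _ ?_
        refine (Category.assoc f T0.invRotate.mor₁ T0.invRotate.mor₂).trans ?_
        exact (congrArg (f ≫ ·) (comp_distTriang_mor_zero₁₂ _ hT1)).trans comp_zero
      obtain ⟨g, hg⟩ := Triangle.coyoneda_exact₂ _ (inv_rot_of_distTriang _ hT1) f h0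
      rw [hg, show g = 0 from @Subsingleton.elim _ (hKν (-1) (by lia)) _ _]
      exact zero_comp
    · refine subsingleton_of_forall_eq 0 fun f => ?_
      have h1 : Subsingleton (K ⟶ (ω⟦i⟧)⟦(1 : ℤ)⟧) :=
        (shiftT ω K i 1 (i + 1) rfl).toEquiv.subsingleton_congr.2 (hKω (i + 1) (by lia))
      obtain ⟨g, hg⟩ := Triangle.coyoneda_exact₃ _ (Triangle.shift_distinguished T0 hT i) f
        (@Subsingleton.elim _ h1 _ _)
      rw [hg, show g = 0 from @Subsingleton.elim _ (hKν i hi) _ _]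
      exact zero_comp
  -- the cone is coherent and bounded below
  obtain ⟨a', ha'⟩ := exists_low hω
  have hC : ∀ i : ℤ, Module.Finite A (T C A i) := fun i => by
    let S := (shiftFunctor (Triangle (Dual.D A)) i).obj T0
    have hS : S ∈ distTriang (Dual.D A) := Triangle.shift_distinguished T0 hT i
    haveI : Module.Finite A (Dual.inD A A ⟶ S.obj₂) := (finite_T hν A i : Module.Finite A (T ν A i))
    haveI : Module.Finite A (Dual.inD A A ⟶ S.obj₁⟦(1 : ℤ)⟧) := by
      haveI := finite_T hω A (i + 1)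
      exact Module.Finite.equiv (shiftT ω (Dual.inD A A) i 1 (i + 1) rfl).symm
    have := finite_of_exact (Linear.rightComp A (Dual.inD A A) S.mor₂) (Linear.rightComp A (Dual.inD A A) S.mor₃)
      (fun x => by
        show (x ≫ S.mor₂) ≫ S.mor₃ = 0
        rw [Category.assoc, comp_distTriang_mor_zero₂₃ S hS, comp_zero])
      (fun y hy => by
        obtain ⟨g, hg⟩ := Triangle.coyoneda_exact₃ S hS y hy
        exact ⟨g, hg.symm⟩)
    exact this
  have hC' : ∀ i : ℤ, i < min a a' - 1 → Subsingleton (Dual.HD A C i) := fun i hi => by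
    refine (homEquiv C i).toEquiv.subsingleton_congr.1 (subsingleton_of_forall_eq 0 fun f => ?_)
    have h1 : Subsingleton (Dual.inD A A ⟶ (ω⟦i⟧)⟦(1 : ℤ)⟧) :=
      (shiftT ω (Dual.inD A A) i 1 (i + 1) rfl).toEquiv.subsingleton_congr.2
        (subsingleton_T_low ha' A (i := i + 1) (by lia))
    obtain ⟨g, hg⟩ := Triangle.coyoneda_exact₃ _ (Triangle.shift_distinguished T0 hT i) f
      (@Subsingleton.elim _ h1 _ _)
    rw [hg, show g = 0 from @Subsingleton.elim _ (subsingleton_T_low ha A (i := i) (by lia)) _ _]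
    exact zero_comp
  have hCfin : ∀ i : ℤ, Module.Finite A (Dual.HD A C i) := fun i =>
    haveI := hC i
    Module.Finite.equiv (homEquiv C i)
  have hzero : ∀ i : ℤ, IsZero ((DerivedCategory.homologyFunctor (ModuleCat.{u} A) i).obj C) := fun i => by
    haveI : Subsingleton ((DerivedCategory.homologyFunctor (ModuleCat.{u} A) i).obj C) :=
      (homEquiv C i).toEquiv.subsingleton_congr.1
        (subsingleton_T_of_residue (fun M _ _ _ j => finite_T_coh hCfin hC' M j) (d := i - 1)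
          (fun j _ => by
            have h1 := (eK C (j - d)).toEquiv.subsingleton_congr.1 (hKC (j - d))
            rwa [sub_add_cancel] at h1) A (by lia))
    exact ModuleCat.isZero_of_subsingleton _
  haveI : C.IsLE (-1) := (DerivedCategory.isLE_iff C (-1)).2 fun i _ => hzero i
  haveI : C.IsGE 0 := (DerivedCategory.isGE_iff C 0).2 fun i _ => hzero i
  haveI : IsIso η := (Triangle.isZero₃_iff_isIso₁ T0 hT).1 (DerivedCategory.TStructure.t.isZero C (-1) 0 (by lia))
  exact ⟨asIso η⟩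

/-- Dualizing complexes over a local ring agree up to shift. -/
theorem exists_shift_iso {ω' : Dual.D A} (hω : Dual.IsDualizing A ω) (hω' : Dual.IsDualizing A ω') :
    ∃ n : ℤ, Nonempty (ω' ≅ ω⟦n⟧) := by
  obtain ⟨R⟩ := nonempty_rep hω
  obtain ⟨R'⟩ := nonempty_rep hω'
  obtain ⟨d, hd, ⟨e⟩⟩ := residue_spec hω (IsLocalRing.maximalIdeal A) R
  obtain ⟨d', hd', ⟨e'⟩⟩ := residue_spec hω' (IsLocalRing.maximalIdeal A) R'
  let K := Dual.inD A (A ⧸ IsLocalRing.maximalIdeal A)
  exact ⟨d - d', nonempty_iso_of_degree hω' (isDualizing_shift hω (d - d')) hd' e'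
    (fun i hi => (shiftT ω K (d - d') i (d - d' + i) rfl).toEquiv.subsingleton_congr.2 (hd _ (by lia)))
    ((shiftT ω K (d - d') d' d (by lia)).trans e)⟩

end

end Groth.Agent.DualCx
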