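import Groth.Agent.DualCx.Coherent
import Groth.Agent.DualCx.Van

/-!
Dualizing complexes over a local ring are detected at the residue field.
-/

set_option autoImplicit false
set_option maxHeartbeats 1000000
universe u

namespace Groth.Agent.DualCx

open CategoryTheory Limits DerivedCategory Pretriangulated Opposite

attribute [local instance] HasDerivedCategory.standard

noncomputable section

variable {A : Type u} [CommRing A] {ω : Dual.D A}

theorem bijective_of_ne_zero {m : Ideal A} [m.IsMaximal] (f : (A ⧸ m) →ₗ[A] A ⧸ m)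
    (h : f (Ideal.Quotient.mk m 1) ≠ 0) : Function.Bijective f := by
  letI : Field (A ⧸ m) := Ideal.Quotient.field m
  have hf : ∀ x, f x = x * f (Ideal.Quotient.mk m 1) := fun x => by
    obtain ⟨c, rfl⟩ := Ideal.Quotient.mk_surjective x
    have h1 : Ideal.Quotient.mk m c = c • Ideal.Quotient.mk m 1 := by
      rw [Algebra.smul_def, Ideal.Quotient.algebraMap_eq, ← map_mul, mul_one]
    conv_lhs => rw [h1, map_smul, Algebra.smul_def, Ideal.Quotient.algebraMap_eq]
  refine ⟨fun x y hxy => ?_, fun y => ⟨y / f (Ideal.Quotient.mk m 1), ?_⟩⟩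
  · rw [hf x, hf y] at hxy
    exact mul_right_cancel₀ h hxy
  · rw [hf, div_mul_cancel₀ _ h]

/-- A nonzero quotient of a submodule of a copy of `A/m` is a copy of `A/m`. -/
theorem nonempty_equiv_of_quot {m : Ideal A} [m.IsMaximal] {X H : Type*} [AddCommGroup X] [Module A X]
    [AddCommGroup H] [Module A H] (e : X ≃ₗ[A] A ⧸ m) (S : Submodule A X) (g : S →ₗ[A] H)
    (hg : Function.Surjective g) [Nontrivial H] : Nonempty (H ≃ₗ[A] A ⧸ m) := by
  letI : Field (A ⧸ m) := Ideal.Quotient.field m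
  obtain ⟨y, hy⟩ := exists_ne (0 : H)
  obtain ⟨s, rfl⟩ := hg y
  have hs : e s.1 ≠ 0 := fun h => hy (by rw [show s = 0 from Subtype.ext (e.injective (h.trans (map_zero e).symm)), map_zero])
  have hgen : ∀ t : S, ∃ c : A, t = c • s := fun t => by
    obtain ⟨c, hc⟩ := Ideal.Quotient.mk_surjective (e t.1 / e s.1)
    refine ⟨c, Subtype.ext (e.injective ?_)⟩
    rw [Submodule.coe_smul, map_smul, Algebra.smul_def, Ideal.Quotient.algebraMap_eq, hc, div_mul_cancel₀ _ hs]
  have hm : m ≤ LinearMap.ker (LinearMap.toSpanSingleton A H (g s)) := fun c hc => by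
    show c • g s = 0
    rw [← map_smul, show c • s = 0 from Subtype.ext (e.injective (by
      rw [Submodule.coe_smul, map_smul, Algebra.smul_def, Ideal.Quotient.algebraMap_eq,
        Ideal.Quotient.eq_zero_iff_mem.2 hc, zero_mul, Submodule.coe_zero, map_zero])), map_zero]
  refine ⟨(LinearEquiv.ofBijective (m.liftQ _ hm) ⟨(injective_iff_map_eq_zero _).2 fun x hx => ?_, fun z => ?_⟩).symm⟩
  · obtain ⟨c, rfl⟩ := Submodule.Quotient.mk_surjective _ x
    rw [Submodule.liftQ_apply, LinearMap.toSpanSingleton_apply] at hx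
    by_contra hc
    obtain ⟨b, hb⟩ := Ideal.Quotient.mk_surjective (Ideal.Quotient.mk m c)⁻¹
    refine hy ?_
    have h1 : (b * c) • s = s := Subtype.ext (e.injective (by
      rw [Submodule.coe_smul, map_smul, Algebra.smul_def, Ideal.Quotient.algebraMap_eq, map_mul, hb,
        inv_mul_cancel₀ (show Ideal.Quotient.mk m c ≠ 0 from hc), one_mul]))
    rw [← h1, map_smul, mul_smul, hx, smul_zero]
  · obtain ⟨t, rfl⟩ := hg z
    obtain ⟨c, rfl⟩ := hgen t
    exact ⟨Submodule.Quotient.mk c, by rw [Submodule.liftQ_apply, LinearMap.toSpanSingleton_apply, map_smul]⟩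

/-- Dévissage over a local ring. -/
theorem local_induction [IsLocalRing A] [IsNoetherianRing A]
    {P : ∀ (M : Type u) [AddCommGroup M] [Module A M], Prop}
    (h0 : ∀ (M : Type u) [AddCommGroup M] [Module A M], Subsingleton M → P M)
    (hcongr : ∀ (M N : Type u) [AddCommGroup M] [Module A M] [AddCommGroup N] [Module A N],
      (M ≃ₗ[A] N) → P M → P N)
    (hmid : ∀ (L M N : Type u) [AddCommGroup L] [Module A L] [AddCommGroup M] [Module A M]
      [AddCommGroup N] [Module A N] [Module.Finite A L] [Module.Finite A M] [Module.Finite A N]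
      (f : L →ₗ[A] M) (g : M →ₗ[A] N), SES f g → P L → P N → P M)
    (hres : P (A ⧸ IsLocalRing.maximalIdeal A))
    (hreg : ∀ (M : Type u) [AddCommGroup M] [Module A M] [Module.Finite A M] (c : A),
      c ∈ IsLocalRing.maximalIdeal A → (∀ x : M, c • x = 0 → x = 0) →
      P (M ⧸ LinearMap.range (c • (LinearMap.id : M →ₗ[A] M))) → P M)
    (M : Type u) [AddCommGroup M] [Module A M] [Module.Finite A M] : P M := by
  suffices H : ∀ q : Ideal A, q.IsPrime → P (A ⧸ q) by
    refine IsNoetherianRing.induction_on_isQuotientEquivQuotientPrime (M := M)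
      (motive := fun N _ _ _ => P N) A inferInstance ?_ ?_ ?_
    · intro N _ _ _ hN
      exact h0 N hN
    · intro N _ _ _ q e
      exact hcongr _ _ e.symm (H q.asIdeal q.isPrime)
    · intro N₁ _ _ _ N₂ _ _ _ N₃ _ _ _ f g hf hg hfg h₁ h₃
      exact hmid _ _ _ f g ⟨hf, hfg, hg⟩ h₁ h₃
  intro q
  induction q using WellFoundedGT.induction with
  | ind q ih =>
    intro hq
    by_cases hqm : q = IsLocalRing.maximalIdeal A
    · subst hqm
      exact hres
    obtain ⟨c, hcm, hcq⟩ := SetLike.exists_of_lt (lt_of_le_of_ne (IsLocalRing.le_maximalIdeal hq.ne_top) hqm)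
    refine hreg (A ⧸ q) c hcm (fun x hx => ?_) ?_
    · obtain ⟨a, rfl⟩ := Submodule.Quotient.mk_surjective _ x
      rw [← Submodule.Quotient.mk_smul, Submodule.Quotient.mk_eq_zero] at hx
      exact (Submodule.Quotient.mk_eq_zero _).2 ((hq.mem_or_mem hx).resolve_left hcq)
    -- the quotient only involves larger primes
    refine (IsNoetherianRing.induction_on_isQuotientEquivQuotientPrime
      (M := (A ⧸ q) ⧸ LinearMap.range (c • (LinearMap.id : (A ⧸ q) →ₗ[A] A ⧸ q)))
      (motive := fun N _ _ _ => (∀ a ∈ q ⊔ Ideal.span {c}, ∀ w : N, a • w = 0) → P N) A inferInstance ?_ ?_ ?_) ?_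
    · intro N _ _ _ hN _
      exact h0 N hN
    · intro N _ _ _ p e hN
      refine hcongr _ _ e.symm (ih p.asIdeal ?_ p.isPrime)
      have hle : q ⊔ Ideal.span {c} ≤ p.asIdeal := fun a ha => by
        have h1 := congrArg e (hN a ha (e.symm (Submodule.Quotient.mk 1)))
        rw [map_smul, map_zero, LinearEquiv.apply_symm_apply, ← Submodule.Quotient.mk_smul,
          Submodule.Quotient.mk_eq_zero, smul_eq_mul, mul_one] at h1
        exact h1
      exact lt_of_le_of_ne (le_sup_left.trans hle) fun h => hcq (h.symm ▸ hle (Ideal.mem_sup_right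
        (Ideal.mem_span_singleton_self c)))
    · intro N₁ _ _ _ N₂ _ _ _ N₃ _ _ _ f g hf hg hfg h₁ h₃ hN
      exact hmid _ _ _ f g ⟨hf, hfg, hg⟩ (h₁ fun a ha w => hf (by rw [map_smul, hN a ha, map_zero]))
        (h₃ fun a ha w => by
          obtain ⟨v, rfl⟩ := hg w
          rw [← map_smul, hN a ha, map_zero])
    · intro a ha w
      obtain ⟨b, hb, t, ht, rfl⟩ := Submodule.mem_sup.1 ha
      obtain ⟨r, rfl⟩ := Ideal.mem_span_singleton'.1 ht
      obtain ⟨v, rfl⟩ := Submodule.Quotient.mk_surjective _ w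
      obtain ⟨v, rfl⟩ := Submodule.Quotient.mk_surjective _ v
      rw [← Submodule.Quotient.mk_smul, Submodule.Quotient.mk_eq_zero]
      refine ⟨r • Submodule.Quotient.mk v, ?_⟩
      rw [LinearMap.smul_apply, LinearMap.id_apply, smul_smul, add_smul,
        show b • (Submodule.Quotient.mk v : A ⧸ q) = 0 from
          (Submodule.Quotient.mk_eq_zero _).2 (q.mul_mem_right v hb), zero_add, mul_comm c r]

theorem ses_smul {M : Type u} [AddCommGroup M] [Module A M] (c : A) (h : ∀ x : M, c • x = 0 → x = 0) :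
    SES (c • (LinearMap.id : M →ₗ[A] M)) (LinearMap.range (c • (LinearMap.id : M →ₗ[A] M))).mkQ :=
  ses_range ((injective_iff_map_eq_zero _).2 h)

theorem subsingleton_of_local_van [IsLocalRing A] {M : Type u} [AddCommGroup M] [Module A M] {i : ℤ}
    (h : Van ω (IsLocalRing.maximalIdeal A) M i) : Subsingleton (T ω M i) :=
  subsingleton_of_forall_eq 0 fun x => by
    obtain ⟨v, hv, hvx⟩ := h x
    exact (IsLocalRing.notMem_maximalIdeal.1 hv).smul_left_cancel.1 (hvx.trans (smul_zero v).symm)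

/-- Vanishing of all higher degrees propagates from the residue field. -/
theorem subsingleton_T_of_residue [IsLocalRing A] [IsNoetherianRing A]
    (hfin : ∀ (M : Type u) [AddCommGroup M] [Module A M] [Module.Finite A M] (i : ℤ), Module.Finite A (T ω M i))
    {d : ℤ} (h : ∀ i : ℤ, d < i → Subsingleton (T ω (A ⧸ IsLocalRing.maximalIdeal A) i))
    (M : Type u) [AddCommGroup M] [Module A M] [Module.Finite A M] {i : ℤ} (hi : d < i) :
    Subsingleton (T ω M i) := by
  have H : ∀ (M : Type u) [AddCommGroup M] [Module A M] [Module.Finite A M] (i : ℤ), d < i →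
      Subsingleton (T ω M i) := by
    intro M _ _ _
    refine local_induction (P := fun M _ _ => ∀ i : ℤ, d < i → Subsingleton (T ω M i))
      (fun M _ _ hM i _ => subsingleton_of_subsingleton)
      (fun M N _ _ _ _ e hM i hi => (subsingleton_congr e).1 (hM i hi))
      (fun L M N _ _ _ _ _ _ _ _ _ f g hfg hL hN i hi => hfg.subsingleton_mid (hL i hi) (hN i hi))
      h (fun M _ _ _ c hc hreg hN i hi => ?_) M
    haveI := hfin M i
    exact subsingleton_of_local_van (van_of_quot hc (ses_smul c hreg) rfl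
      (van_of_subsingleton (IsLocalRing.maximalIdeal.isMaximal A).ne_top (hN (i + 1) (by lia))))
  exact H M i hi

variable (R : Rep ω) (ν : Dual.D A) {L M N : Type u} [AddCommGroup L] [Module A L] [AddCommGroup M] [Module A M]
  [AddCommGroup N] [Module A N] {i : ℤ}

/-- `Hom_D(Hom(M, J), ν[i])`. -/
abbrev Rep.H (M : Type u) [AddCommGroup M] [Module A M] (i : ℤ) : Type _ :=
  DerivedCategory.Q.obj (R.D M) ⟶ ν⟦i⟧

/-- Covariant functoriality. -/
def Rep.hmap (i : ℤ) (f : M →ₗ[A] N) : R.H ν M i →ₗ[A] R.H ν N i :=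
  Linear.leftComp A (ν⟦i⟧) (DerivedCategory.Q.map (R.dmap f))

theorem Rep.dmap_smul_id (c : A) : R.dmap (c • (LinearMap.id : M →ₗ[A] M)) = c • 𝟙 (R.D M) :=
  HomologicalComplex.hom_ext _ _ fun n => ModuleCat.hom_ext (LinearMap.ext fun (φ : ModuleCat.of A M ⟶ R.J.X n) => by
    show ModuleCat.ofHom (c • (LinearMap.id : M →ₗ[A] M)) ≫ φ = c • φ
    exact ModuleCat.hom_ext (LinearMap.ext fun (x : M) => φ.hom.map_smul c x))

theorem Rep.hmap_smul_id (c : A) (x : R.H ν M i) : R.hmap ν i (c • LinearMap.id) x = c • x := by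
  show DerivedCategory.Q.map (R.dmap (c • LinearMap.id)) ≫ x = c • x
  rw [R.dmap_smul_id, Functor.map_smul, CategoryTheory.Functor.map_id, Linear.smul_comp, Category.id_comp]

theorem Rep.h_exact_mid {f : L →ₗ[A] M} {g : M →ₗ[A] N} (h : SES f g) (x : R.H ν M i)
    (hx : R.hmap ν i g x = 0) : ∃ y, R.hmap ν i f y = x := by
  obtain ⟨y, hy⟩ := Triangle.yoneda_exact₂ _ (triangleOfSES_distinguished (R.dsc_shortExact h)) x hx
  exact ⟨y, hy.symm⟩

theorem Rep.h_subsingleton_congr (e : M ≃ₗ[A] N) (h : Subsingleton (R.H ν M i)) : Subsingleton (R.H ν N i) := by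
  refine subsingleton_of_forall_eq 0 fun x => ?_
  have h1 : R.dmap (e.toLinearMap.comp e.symm.toLinearMap) = 𝟙 _ := HomologicalComplex.hom_ext _ _ fun n =>
    ModuleCat.hom_ext (LinearMap.ext fun (φ : ModuleCat.of A N ⟶ R.J.X n) =>
      ModuleCat.hom_ext (LinearMap.ext fun (y : N) => congrArg φ.hom (e.apply_symm_apply y)))
  have h2 : DerivedCategory.Q.map (R.dmap (e.toLinearMap.comp e.symm.toLinearMap)) ≫ x = x := by
    rw [h1, CategoryTheory.Functor.map_id, Category.id_comp]
  rw [← h2, R.dmap_comp, Functor.map_comp, Category.assoc,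
    show DerivedCategory.Q.map (R.dmap e.symm.toLinearMap) ≫ x = 0 from @Subsingleton.elim _ h _ _, comp_zero]

theorem Rep.h_subsingleton_zero (hM : Subsingleton M) : Subsingleton (R.H ν M i) := by
  refine subsingleton_of_forall_eq 0 fun x => ?_
  rw [← one_smul A x, ← R.hmap_smul_id, show ((1 : A) • LinearMap.id : M →ₗ[A] M) = (0 : A) • LinearMap.id from
    LinearMap.ext fun y => @Subsingleton.elim _ hM _ _, R.hmap_smul_id, zero_smul]

/-- `ev 1` is nonzero in `D(A)`. -/
theorem Rep.ev_one_ne_zero (m : Ideal A) [m.IsMaximal] {d : ℤ} (h : Nontrivial (T ω (A ⧸ m) d)) :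
    DerivedCategory.Q.map (R.ev (Submodule.Quotient.mk (1 : A) : A ⧸ m)) ≠ 0 := by
  intro h0
  haveI := R.isKInjective
  obtain ⟨x, hx⟩ := exists_ne (0 : T ω (A ⧸ m) d)
  obtain ⟨z, hz, hne⟩ := R.exists_not_exact x hx
  obtain ⟨ho⟩ := DRingKP.exists_homotopy_inj _ h0
  let hh : (R.D (A ⧸ m)).X d ⟶ R.J.X (d - 1) := ho.hom d (d - 1)
  let y : R.J.X (d - 1) := hh.hom z
  have hy : m ≤ LinearMap.ker (LinearMap.toSpanSingleton A (R.J.X (d - 1)) y) := fun c hc => by
    show c • hh.hom z = 0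
    rw [← map_smul]
    refine (congrArg hh.hom (?_ : c • (z : (R.D (A ⧸ m)).X d) = 0)).trans (map_zero hh.hom)
    refine ModuleCat.hom_ext (LinearMap.ext fun (w : A ⧸ m) => ?_)
    show c • z.hom w = 0
    obtain ⟨a, rfl⟩ := Submodule.Quotient.mk_surjective _ w
    rw [← map_smul, show c • (Submodule.Quotient.mk a : A ⧸ m) = 0 from
      (Submodule.Quotient.mk_eq_zero m).2 (m.mul_mem_right a hc), map_zero]
  refine hne (ModuleCat.ofHom (m.liftQ _ hy)) (ModuleCat.hom_ext (Submodule.linearMap_qext _ (LinearMap.ext_ring ?_)))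
  show (R.J.d (d - 1) d).hom ((1 : A) • y) = z.hom (Submodule.Quotient.mk 1)
  rw [one_smul]
  have hc := ho.comm d
  rw [dNext_eq _ (show (ComplexShape.up ℤ).Rel d (d + 1) from rfl),
    prevD_eq _ (show (ComplexShape.up ℤ).Rel (d - 1) d by simp)] at hc
  have h1 : z.hom (Submodule.Quotient.mk 1) =
      (ho.hom (d + 1) d).hom (((R.D (A ⧸ m)).d d (d + 1)).hom z) + (R.J.d (d - 1) d).hom y + 0 :=
    LinearMap.congr_fun (congrArg ModuleCat.Hom.hom hc) z
  have h2 : ((R.D (A ⧸ m)).d d (d + 1)).hom z = 0 := hz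
  rw [h2, add_zero] at h1
  rw [h1]
  exact (zero_add _).symm.trans (congrArg (· + (R.J.d (d - 1) d).hom y) (map_zero (ho.hom (d + 1) d).hom).symm)

variable [IsLocalRing A] [IsNoetherianRing A]

/-- The dual of the residue field. -/
theorem Rep.exists_single_iso {d : ℤ}
    (hvan : ∀ i : ℤ, i ≠ d → Subsingleton (T ω (A ⧸ IsLocalRing.maximalIdeal A) i))
    (e : T ω (A ⧸ IsLocalRing.maximalIdeal A) d ≃ₗ[A] A ⧸ IsLocalRing.maximalIdeal A) :
    Nonempty (DerivedCategory.Q.obj (R.D (A ⧸ IsLocalRing.maximalIdeal A)) ≅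
      (DerivedCategory.singleFunctor (ModuleCat.{u} A) d).obj (ModuleCat.of A (A ⧸ IsLocalRing.maximalIdeal A))) := by
  let m := IsLocalRing.maximalIdeal A
  let X := DerivedCategory.Q.obj (R.D (A ⧸ m))
  have hz : ∀ i : ℤ, i ≠ d → IsZero ((DerivedCategory.homologyFunctor (ModuleCat.{u} A) i).obj X) := fun i hi => by
    haveI := R.subsingleton_homology (A ⧸ m) i (hvan i hi)
    exact (ModuleCat.isZero_of_subsingleton _).of_iso (R.homologyIso (A ⧸ m) i)
  haveI : X.IsGE d := (DerivedCategory.isGE_iff X d).2 fun i hi => hz i hi.ne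
  haveI : X.IsLE d := (DerivedCategory.isLE_iff X d).2 fun i hi => hz i hi.ne'
  obtain ⟨H, ⟨eX⟩⟩ := DerivedCategory.exists_iso_singleFunctor_obj_of_isGE_of_isLE X d
  let eH : (R.D (A ⧸ m)).homology d ≃ₗ[A] H :=
    ((R.homologyIso (A ⧸ m) d).symm ≪≫ (DerivedCategory.homologyFunctor (ModuleCat.{u} A) d).mapIso eX ≪≫
      (DerivedCategory.singleFunctorCompHomologyFunctorIso (ModuleCat.{u} A) d).app H).toLinearEquiv
  haveI : Nontrivial ((R.D (A ⧸ m)).homology d) := by
    rw [← not_subsingleton_iff_nontrivial]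
    intro hs
    have hs' : Subsingleton H := eH.symm.toEquiv.subsingleton
    have hX : IsZero X := (Functor.map_isZero _ (ModuleCat.isZero_of_subsingleton H)).of_iso eX
    exact R.ev_one_ne_zero m (e.toEquiv.nontrivial) (hX.eq_of_src _ _)
  obtain ⟨S, g, hg⟩ := R.exists_homology_quot (A ⧸ m) d
  obtain ⟨e'⟩ := nonempty_equiv_of_quot e S g hg
  let e'' : H ≅ ModuleCat.of A (A ⧸ m) := (eH.symm.trans e').toModuleIso
  exact ⟨eX ≪≫ (DerivedCategory.singleFunctor (ModuleCat.{u} A) d).mapIso e''⟩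

theorem Rep.h_subsingleton_of_residue
    (hfin : ∀ (M : Type u) [AddCommGroup M] [Module A M] [Module.Finite A M] (j : ℤ), Module.Finite A (T ω M j))
    (hν : ∀ i : ℤ, Module.Finite A (Dual.HD A ν i)) {a : ℤ}
    (hlow : ∀ i : ℤ, i < a → Subsingleton (Dual.HD A ν i))
    (h : Subsingleton (R.H ν (A ⧸ IsLocalRing.maximalIdeal A) i))
    (M : Type u) [AddCommGroup M] [Module A M] [Module.Finite A M] : Subsingleton (R.H ν M i) := by
  refine local_induction (P := fun M _ _ => Subsingleton (R.H ν M i))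
    (fun M _ _ hM => R.h_subsingleton_zero ν hM)
    (fun M N _ _ _ _ e hM => R.h_subsingleton_congr ν e hM)
    (fun L M N _ _ _ _ _ _ _ _ _ f g hfg hL hN => subsingleton_of_forall_eq 0 fun x => by
      obtain ⟨y, rfl⟩ := R.h_exact_mid ν hfg x (@Subsingleton.elim _ hN _ _)
      rw [@Subsingleton.elim _ hL y 0, map_zero])
    h (fun M _ _ _ c hc hreg hN => ?_) M
  haveI := R.finite_hom hfin hν hlow M i
  have htop : (⊤ : Submodule A (R.H ν M i)) = ⊥ :=
    Submodule.eq_bot_of_le_smul_of_le_jacobson_bot (IsLocalRing.maximalIdeal A) _ Module.Finite.fg_top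
      (fun z _ => by
        obtain ⟨w, rfl⟩ := R.h_exact_mid ν (ses_smul c hreg) z (@Subsingleton.elim _ hN _ _)
        rw [R.hmap_smul_id]
        exact Submodule.smul_mem_smul hc Submodule.mem_top)
      (IsLocalRing.maximalIdeal_le_jacobson _)
  exact subsingleton_of_forall_eq 0 fun z => (Submodule.mem_bot A).1 (htop ▸ Submodule.mem_top)

theorem Rep.eta_bijective_of_residue
    (hfin : ∀ (M : Type u) [AddCommGroup M] [Module A M] [Module.Finite A M] (j : ℤ), Module.Finite A (T ω M j))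
    (hH : ∀ i : ℤ, Module.Finite A (Dual.HD A ω i)) {a : ℤ}
    (hlow : ∀ i : ℤ, i < a → Subsingleton (Dual.HD A ω i))
    (hneg : ∀ (M : Type u) [AddCommGroup M] [Module A M] [Module.Finite A M], Subsingleton (R.G M (-1)))
    (h : Function.Bijective (R.eta (A ⧸ IsLocalRing.maximalIdeal A)))
    (M : Type u) [AddCommGroup M] [Module A M] [Module.Finite A M] : Function.Bijective (R.eta M) := by
  refine local_induction (A := A) (P := fun M _ _ => Function.Bijective (R.eta M)) ?_ ?_ ?_ h ?_ M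
  · intro M _ _ hM
    exact ⟨Function.injective_of_subsingleton _,
      fun x => ⟨0, @Subsingleton.elim _ (R.h_subsingleton_zero ω hM) _ _⟩⟩
  · intro M N _ _ _ _ e hM
    refine ⟨(injective_iff_map_eq_zero _).2 fun n hn => ?_, fun x => ?_⟩
    · have h1 : R.eta M (e.symm n) = 0 :=
        (R.gmap_eta e.symm.toLinearMap n).symm.trans ((congrArg _ hn).trans (map_zero _))
      exact e.symm.injective (((injective_iff_map_eq_zero _).1 hM.1 _ h1).trans (map_zero _).symm)
    · obtain ⟨y, hy⟩ := hM.2 (R.gmap 0 e.symm.toLinearMap x)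
      refine ⟨e y, ?_⟩
      have h1 := R.gmap_eta e.toLinearMap y
      rw [hy, ← R.gmap_comp] at h1
      have h2 : e.toLinearMap.comp e.symm.toLinearMap = LinearMap.id := LinearMap.ext e.apply_symm_apply
      have h3 : R.dmap (LinearMap.id : N →ₗ[A] N) = 𝟙 _ :=
        HomologicalComplex.hom_ext _ _ fun n => ModuleCat.hom_ext (LinearMap.ext fun φ => rfl)
      rw [h2] at h1
      refine h1.symm.trans ?_
      show DerivedCategory.Q.map (R.dmap _) ≫ x = x
      rw [h3, CategoryTheory.Functor.map_id, Category.id_comp]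
  · intro L M N _ _ _ _ _ _ _ _ _ f g hfg hL hN
    refine ⟨(injective_iff_map_eq_zero _).2 fun m hm => ?_, fun x => ?_⟩
    · have hg0 : g m = 0 := (injective_iff_map_eq_zero _).1 hN.1 _ (by rw [← R.gmap_eta, hm, map_zero])
      obtain ⟨l, rfl⟩ := (hfg.exact m).1 hg0
      rw [← R.gmap_eta] at hm
      rw [(injective_iff_map_eq_zero _).1 hL.1 l (R.g_left hfg (hneg N) (show (-1 : ℤ) + 1 = 0 by lia) _ hm),
        map_zero]
    · obtain ⟨n, hn⟩ := hN.2 (R.gmap 0 g x)
      obtain ⟨m, rfl⟩ := hfg.surj n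
      obtain ⟨y, hy⟩ := R.g_exact_mid hfg (x - R.eta _ m) (by rw [map_sub, R.gmap_eta, hn, sub_self])
      obtain ⟨l, rfl⟩ := hL.2 y
      exact ⟨m + f l, by rw [map_add, ← R.gmap_eta, hy, add_sub_cancel]⟩
  · intro M _ _ _ c hc hreg hN
    let hs := ses_smul c hreg
    refine ⟨?_, ?_⟩
    · rw [← LinearMap.ker_eq_bot]
      refine Submodule.eq_bot_of_le_smul_of_le_jacobson_bot (IsLocalRing.maximalIdeal A) _
        (IsNoetherian.noetherian _) (fun m hm => ?_) (IsLocalRing.maximalIdeal_le_jacobson _)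
      have hm' : R.eta M m = 0 := hm
      have h1 : (LinearMap.range (c • (LinearMap.id : M →ₗ[A] M))).mkQ m = 0 :=
        (injective_iff_map_eq_zero _).1 hN.1 _ (by rw [← R.gmap_eta, hm', map_zero])
      obtain ⟨m', rfl⟩ := (hs.exact m).1 h1
      rw [← R.gmap_eta] at hm'
      exact Submodule.smul_mem_smul hc (R.g_left hs (hneg (M ⧸ LinearMap.range (c • (LinearMap.id : M →ₗ[A] M))))
        (show (-1 : ℤ) + 1 = 0 by lia) _ hm' : m' ∈ LinearMap.ker (R.eta M))
    · haveI : Module.Finite A (R.G M 0) := R.finite_hom hfin hH hlow M 0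
      rw [← LinearMap.range_eq_top]
      refine top_le_iff.1 (Submodule.le_of_le_smul_of_le_jacobson_bot (N := LinearMap.range (R.eta M))
        (I := IsLocalRing.maximalIdeal A) Module.Finite.fg_top (IsLocalRing.maximalIdeal_le_jacobson _) fun x _ => ?_)
      obtain ⟨n, hn⟩ := hN.2 (R.gmap 0 (LinearMap.range (c • (LinearMap.id : M →ₗ[A] M))).mkQ x)
      obtain ⟨m, rfl⟩ := hs.surj n
      obtain ⟨y, hy⟩ := R.g_exact_mid hs (x - R.eta _ m) (by rw [map_sub, R.gmap_eta, hn, sub_self])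
      rw [show x = R.eta M m + R.gmap 0 (c • LinearMap.id) y by rw [hy, add_sub_cancel],
        show R.gmap 0 (c • LinearMap.id) y = c • y from R.hmap_smul_id ω c y]
      exact add_mem (Submodule.mem_sup_left ⟨m, rfl⟩)
        (Submodule.mem_sup_right (Submodule.smul_mem_smul hc Submodule.mem_top))

/-- The criterion. -/
theorem isDualizing_of_residue (hfin : ∀ i : ℤ, Module.Finite A (Dual.HD A ω i)) {a : ℤ}
    (hlow : ∀ i : ℤ, i < a → Subsingleton (Dual.HD A ω i)) {d : ℤ}
    (hvan : ∀ i : ℤ, i ≠ d → Subsingleton (T ω (A ⧸ IsLocalRing.maximalIdeal A) i))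
    (e : T ω (A ⧸ IsLocalRing.maximalIdeal A) d ≃ₗ[A] A ⧸ IsLocalRing.maximalIdeal A) :
    Dual.IsDualizing A ω := by
  let m := IsLocalRing.maximalIdeal A
  have hT := fun (M : Type u) [AddCommGroup M] [Module A M] [Module.Finite A M] (i : ℤ) =>
    finite_T_coh hfin hlow M i
  have hamp : DRing.HasInjAmplitudeIn A a d ω := (DRingKP.injAmp_iff ω a d).2 fun I i hi => by
    rcases hi with hi | hi
    · exact subsingleton_T_low hlow (A ⧸ I) hi
    · exact subsingleton_T_of_residue hT (fun j hj => hvan j hj.ne') (A ⧸ I) hi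
  obtain ⟨J, hJ, hJi, ⟨eJ⟩⟩ := id hamp
  let R : Rep ω := ⟨J, a, d, hJ, fun i => (Module.injective_iff_injective_object A (J.X i)).1 (hJi i), eJ⟩
  obtain ⟨eS⟩ := R.exists_single_iso hvan e
  let eG : ∀ i : ℤ, R.G (A ⧸ m) i ≃ₗ[A] T ω (A ⧸ m) (i + d) := fun i =>
    (Linear.homCongr A eS (Iso.refl (ω⟦i⟧))).trans (singleEquiv ω _ d i)
  have hG : ∀ i : ℤ, i ≠ 0 → ∀ (M : Type u) [AddCommGroup M] [Module A M] [Module.Finite A M],
      Subsingleton (R.G M i) := fun i hi M _ _ _ =>
    R.h_subsingleton_of_residue ω hT hfin hlow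
      ((eG i).toEquiv.subsingleton_congr.2 (hvan (i + d) (by lia))) M
  have hk : Function.Bijective (R.eta (A ⧸ m)) := by
    let e0 : R.G (A ⧸ m) 0 ≃ₗ[A] A ⧸ m :=
      (eG 0).trans ((zero_add d).symm ▸ e)
    have h1 : R.eta (A ⧸ m) (Submodule.Quotient.mk 1) ≠ 0 := fun h0 => by
      refine R.ev_one_ne_zero m e.toEquiv.nontrivial ?_
      exact (cancel_mono (R.iso.hom ≫ ((shiftFunctorZero (Dual.D A) ℤ).app ω).inv)).1
        ((h0 : DerivedCategory.Q.map (R.ev (Submodule.Quotient.mk 1 : A ⧸ m)) ≫ _ = 0).trans zero_comp.symm)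
    have h2 : Function.Bijective (e0.toLinearMap.comp (R.eta (A ⧸ m))) :=
      bijective_of_ne_zero _ fun h => h1 (e0.injective (h.trans (map_zero e0).symm))
    exact (Function.Bijective.of_comp_iff' e0.bijective _).1 h2
  have hA := R.eta_bijective_of_residue hT hfin hlow (fun M _ _ _ => hG (-1) (by lia) M) hk A
  haveI := R.isIso_ev_one
  refine ⟨inferInstance, ⟨a, d, fun M _ _ i hi => DRingKP.ext_eq_zero_of_amp hamp (ModuleCat.of A M) i hi⟩,
    hfin, ?_, fun i hi => ?_⟩
  · let u : R.G A 0 → (ω ⟶ ω) := fun x => R.iso.inv ≫ inv (DerivedCategory.Q.map (R.ev (1 : A))) ≫ x ≫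
      ((shiftFunctorZero (Dual.D A) ℤ).app ω).hom
    have hu : Function.Bijective u := by
      refine ⟨fun x y hxy => ?_, fun z => ⟨DerivedCategory.Q.map (R.ev (1 : A)) ≫ R.iso.hom ≫ z ≫
        ((shiftFunctorZero (Dual.D A) ℤ).app ω).inv, ?_⟩⟩
      · simpa [u, cancel_epi, cancel_mono] using hxy
      · simp [u]
    have h : u ∘ R.eta A = fun c : A => c • 𝟙 ω := funext fun c => by
      have h1 : R.eta A c = c • R.eta A 1 := by rw [← map_smul, smul_eq_mul, mul_one]
      rw [Function.comp_apply, h1]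
      simp [u, Rep.eta, Linear.smul_comp, Linear.comp_smul]
    exact h ▸ hu.comp hA
  · exact (Iso.homCongr (asIso (DerivedCategory.Q.map (R.ev (1 : A))) ≪≫ R.iso)
      (Iso.refl (ω⟦i⟧))).subsingleton_congr.1 (hG i hi A)

end

end Groth.Agent.DualCx
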