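import Groth.Agent.DualCx.FiniteMap
import Groth.Agent.DualCx.Local
import Groth.Agent.DualCx.Criterion

/-!
Normalization and dimension function under finite maps.
-/

set_option autoImplicit false
set_option maxHeartbeats 1000000
universe u

namespace Groth.Agent.DualCx

open CategoryTheory Limits DerivedCategory Pretriangulated

attribute [local instance] HasDerivedCategory.standard

noncomputable section

variable {A B : Type u} [CommRing A] [CommRing B] [Algebra A B] {W : Dual.D B} {L : Dual.D A} {c : (resD A B).obj W ⟶ L}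

theorem finite_res [Module.Finite A B] (M : Type u) [AddCommGroup M] [Module B M] [Module.Finite B M] :
    Module.Finite A ((res A B).obj (ModuleCat.of B M)) := by
  letI : Module A M := Module.compHom M (algebraMap A B)
  haveI : IsScalarTower A B M := IsScalarTower.of_algebraMap_smul fun _ _ => rfl
  exact (Module.Finite.trans B M : Module.Finite A M)

/-- A finite module over a local ring killed by the maximal ideal has no `Hom` where the residue field has none. -/
theorem subsingleton_T_of_killed [IsLocalRing A] [IsNoetherianRing A] (M : ModuleCat.{u} A) [Module.Finite A M]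
    (hM : ∀ a ∈ IsLocalRing.maximalIdeal A, ∀ x : M, a • x = 0) {i : ℤ}
    (h : Subsingleton (T L (A ⧸ IsLocalRing.maximalIdeal A) i)) : Subsingleton (T L M i) := by
  revert hM
  refine IsNoetherianRing.induction_on_isQuotientEquivQuotientPrime (M := M)
    (motive := fun N _ _ _ => (∀ a ∈ IsLocalRing.maximalIdeal A, ∀ x : N, a • x = 0) → Subsingleton (T L N i))
    A inferInstance ?_ ?_ ?_
  · intro N _ _ _ hN _
    exact subsingleton_of_subsingleton
  · intro N _ _ _ p e hN
    have hle : IsLocalRing.maximalIdeal A ≤ p.asIdeal := fun a ha => by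
      have h1 := congrArg e (hN a ha (e.symm (Submodule.Quotient.mk 1)))
      rw [map_smul, map_zero, LinearEquiv.apply_symm_apply, ← Submodule.Quotient.mk_smul,
        Submodule.Quotient.mk_eq_zero, smul_eq_mul, mul_one] at h1
      exact h1
    have heq : IsLocalRing.maximalIdeal A = p.asIdeal :=
      (IsLocalRing.maximalIdeal.isMaximal A).eq_of_le p.isPrime.ne_top hle
    exact (subsingleton_congr (e.trans (Submodule.quotEquivOfEq _ _ heq.symm))).2 h
  · intro N₁ _ _ _ N₂ _ _ _ N₃ _ _ _ f g hf hg hfg h₁ h₃ hN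
    exact (⟨hf, hfg, hg⟩ : SES f g).subsingleton_mid (h₁ fun a ha w => hf (by rw [map_smul, hN a ha, map_zero]))
      (h₃ fun a ha w => by
        obtain ⟨v, rfl⟩ := hg w
        rw [← map_smul, hN a ha, map_zero])

theorem isNormalized_of_isRA [IsLocalRing A] [IsLocalRing B] [IsNoetherianRing A] [Module.Finite A B]
    [IsLocalHom (algebraMap A B)] (h : IsRA W L c) (hn : Dual.IsNormalized A L) : Dual.IsNormalized B W := by
  intro i hi
  haveI := finite_res (A := A) (B := B) (B ⧸ IsLocalRing.maximalIdeal B)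
  refine h.subsingleton_T (B ⧸ IsLocalRing.maximalIdeal B) i (subsingleton_T_of_killed _ (fun a ha x => ?_) (hn i hi))
  show algebraMap A B a • (x : B ⧸ IsLocalRing.maximalIdeal B) = 0
  obtain ⟨y, hy⟩ := Submodule.Quotient.mk_surjective _ (x : B ⧸ IsLocalRing.maximalIdeal B)
  rw [← hy]
  show (Submodule.Quotient.mk (algebraMap A B a • y) : B ⧸ IsLocalRing.maximalIdeal B) = 0
  exact (Submodule.Quotient.mk_eq_zero _).2
    ((IsLocalRing.maximalIdeal B).mul_mem_right y (map_nonunit (algebraMap A B) a ha))

/-- The quotient of `B` by a prime, over `A`. -/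
def resQuot (hs : Function.Surjective (algebraMap A B)) (J : Ideal B) :
    ModuleCat.of A (A ⧸ J.comap (algebraMap A B)) ≅ (res A B).obj (ModuleCat.of B (B ⧸ J)) :=
  let f : A ⧸ J.comap (algebraMap A B) →+* B ⧸ J := Ideal.quotientMap J (algebraMap A B) le_rfl
  have hf : Function.Bijective f :=
    ⟨Ideal.quotientMap_injective, Ideal.quotientMap_surjective hs⟩
  LinearEquiv.toModuleIso (LinearEquiv.ofBijective
    ({ toFun := fun x => (f x : B ⧸ J)
       map_add' := fun x y => f.map_add x y
       map_smul' := fun a x => by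
        obtain ⟨y, rfl⟩ := Ideal.Quotient.mk_surjective x
        show f (Ideal.Quotient.mk _ (a * y)) = algebraMap A B a • f (Ideal.Quotient.mk _ y)
        rw [Ideal.quotientMap_mk, Ideal.quotientMap_mk, map_mul]
        rfl } : (A ⧸ J.comap (algebraMap A B)) →ₗ[A] (res A B).obj (ModuleCat.of B (B ⧸ J))) hf)

theorem van_iff_of_isRA (h : IsRA W L c) (hs : Function.Surjective (algebraMap A B)) (q : Ideal B) (i : ℤ) :
    Van W q (B ⧸ q) i ↔ Van L (q.comap (algebraMap A B)) (A ⧸ q.comap (algebraMap A B)) i := by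
  let e0 : Dual.inD A (A ⧸ q.comap (algebraMap A B)) ≅ (resD A B).obj (Dual.inD B (B ⧸ q)) :=
    (DerivedCategory.singleFunctor (ModuleCat.{u} A) 0).mapIso (resQuot hs q) ≪≫
      (((res A B).mapDerivedCategorySingleFunctor 0).app (ModuleCat.of B (B ⧸ q))).symm
  let Ψ : T W (B ⧸ q) i → T L (A ⧸ q.comap (algebraMap A B)) i := fun f => e0.hom ≫ raMap c i _ f
  have hΨ : Function.Bijective Ψ :=
    (show Function.Bijective (fun g => e0.hom ≫ g) from
      ⟨fun _ _ h => (cancel_epi e0.hom).1 h, fun g => ⟨e0.inv ≫ g, e0.hom_inv_id_assoc g⟩⟩).comp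
      (h.raMap_bijective i _)
  have hsm : ∀ (a : A) f, Ψ (algebraMap A B a • f) = a • Ψ f := fun a f => by
    show e0.hom ≫ raMap c i _ _ = a • (e0.hom ≫ raMap c i _ f)
    rw [raMap_smul, Linear.comp_smul]
  have h0 : Ψ 0 = 0 := by simp [Ψ, raMap]
  constructor
  · intro hv x
    obtain ⟨f, rfl⟩ := hΨ.2 x
    obtain ⟨u, hu, huf⟩ := hv f
    obtain ⟨a, rfl⟩ := hs u
    exact ⟨a, hu, by rw [← hsm, huf, h0]⟩
  · intro hv f
    obtain ⟨a, ha, haf⟩ := hv (Ψ f)
    exact ⟨algebraMap A B a, ha, hΨ.1 (by rw [hsm, haf, h0])⟩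

end

end Groth.Agent.DualCx
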