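import Groth.Agent.DualCx.Dim
import Groth.Agent.FlatDepth.Basic
import Groth.Agent.QGorD.Skn
import Mathlib.RingTheory.KrullDimension.Module
import Mathlib.RingTheory.Regular.RegularSequence
import Mathlib.Algebra.Module.LocalizedModule.Submodule

/-!
Depth and dimension of localizations, read off from a dualizing complex.
-/

set_option autoImplicit false
set_option maxHeartbeats 1000000
universe u

namespace Groth.Agent.DualCx

open CategoryTheory Limits DerivedCategory Pretriangulated
open scoped Pointwise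

attribute [local instance] HasDerivedCategory.standard

noncomputable section

variable {A : Type u} [CommRing A] [IsNoetherianRing A]

omit [IsNoetherianRing A] in
/-- Reduction modulo an element commutes with localization. -/
theorem nonempty_localized_quot (q : Ideal A) [q.IsPrime] (M : Type u) [AddCommGroup M] [Module A M] (a : A)
    (r : Localization.AtPrime q) (t : q.primeCompl) (ht : r * algebraMap A _ (t : A) = algebraMap A _ a) :
    Nonempty (LocalizedModule q.primeCompl (M ⧸ LinearMap.range (a • (LinearMap.id : M →ₗ[A] M)))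
      ≃ₗ[Localization.AtPrime q] QuotSMulTop r (LocalizedModule q.primeCompl M)) := by
  obtain ⟨c, hc⟩ := (IsLocalization.map_units (Localization.AtPrime q) t).exists_left_inv
  let N := M ⧸ LinearMap.range (a • (LinearMap.id : M →ₗ[A] M))
  let π := LocalizedModule.map q.primeCompl (LinearMap.range (a • (LinearMap.id : M →ₗ[A] M))).mkQ
  have hπ : Function.Surjective π := LocalizedModule.map_surjective _ _ (Submodule.mkQ_surjective _)
  have hex := LocalizedModule.map_exact q.primeCompl (a • (LinearMap.id : M →ₗ[A] M))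
    (LinearMap.range (a • (LinearMap.id : M →ₗ[A] M))).mkQ (LinearMap.exact_map_mkQ_range _)
  have hm : ∀ w : LocalizedModule q.primeCompl M,
      LocalizedModule.map q.primeCompl (a • (LinearMap.id : M →ₗ[A] M)) w = algebraMap A (Localization.AtPrime q) a • w := by
    intro w
    induction w using LocalizedModule.induction_on with
    | h m s => rw [LocalizedModule.map_mk, algebraMap_smul, LocalizedModule.smul'_mk]; rfl
  refine ⟨((π.quotKerEquivOfSurjective hπ).symm.trans (Submodule.quotEquivOfEq _ _ ?_))⟩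
  ext w
  rw [LinearMap.mem_ker, Submodule.mem_smul_pointwise_iff_exists]
  refine (hex w).trans ⟨?_, ?_⟩
  · rintro ⟨v, rfl⟩
    exact ⟨algebraMap A _ (t : A) • v, Submodule.mem_top, (Eq.trans (by rw [smul_smul, ht]) (hm v).symm)⟩
  · rintro ⟨v, -, rfl⟩
    exact ⟨c • v, (hm _).trans (by rw [← ht, smul_smul, mul_assoc, mul_comm _ c, hc, mul_one])⟩

variable {ω : Dual.D A} (hω : Dual.IsDualizing A ω)

theorem van_of_notMem_support {M : Type u} [AddCommGroup M] [Module A M] [Module.Finite A M] {q : PrimeSpectrum A}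
    (h : q ∉ Module.support A M) (i : ℤ) : Van ω q.asIdeal M i := by
  rw [Module.mem_support_iff_of_finite] at h
  obtain ⟨u, h1, hu⟩ := SetLike.not_le_iff_exists.1 h
  exact van_of_killed hu (Module.mem_annihilator.1 h1)

include hω

theorem not_van_socle {M : Type u} [AddCommGroup M] [Module A M] [Module.Finite A M] {q : PrimeSpectrum A}
    (h : ∃ w : LocalizedModule q.asIdeal.primeCompl M, w ≠ 0 ∧ ∀ a ∈ q.asIdeal, a • w = 0) :
    ¬ Van ω q.asIdeal M (-del hω q) := by
  obtain ⟨w, hw, hqw⟩ := h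
  induction w using LocalizedModule.induction_on with
  | h m s =>
    have hm : ∀ v ∉ q.asIdeal, v • m ≠ 0 := by
      intro v hv h0
      refine hw ?_
      rw [← LocalizedModule.zero_mk s, LocalizedModule.mk_eq]
      refine ⟨⟨v, hv⟩, ?_⟩
      simp only [Submonoid.smul_def, smul_zero]
      rw [smul_comm, h0, smul_zero]
    have hk : ∀ c ∈ q.asIdeal, ∃ v ∉ q.asIdeal, v • c • m = 0 := by
      intro c hc
      have h1 := hqw c hc
      rw [LocalizedModule.smul'_mk, ← LocalizedModule.zero_mk s, LocalizedModule.mk_eq] at h1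
      obtain ⟨⟨v, hv⟩, h2⟩ := h1
      simp only [Submonoid.smul_def, smul_zero] at h2
      exact ⟨v * s, fun h => (q.isPrime.mem_or_mem h).elim hv s.2, by rw [mul_smul, h2]⟩
    choose v hv hv0 using hk
    obtain ⟨S, hS⟩ := IsNoetherian.noetherian q.asIdeal
    have hmem : ∀ c : S, (c : A) ∈ q.asIdeal := fun c => hS ▸ Submodule.subset_span c.2
    let V := ∏ c : S, v c (hmem c)
    have hV : V ∉ q.asIdeal := fun h => by
      obtain ⟨c, -, hc⟩ := q.isPrime.prod_mem_iff.1 h
      exact hv _ _ hc
    let f : A →ₗ[A] M := LinearMap.toSpanSingleton A M (V • m)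
    have hker : LinearMap.ker f = q.asIdeal := by
      refine le_antisymm (fun c hc => ?_) ?_
      · by_contra hcq
        exact hm (c * V) (fun h => (q.isPrime.mem_or_mem h).elim hcq hV) (by rw [mul_smul]; exact hc)
      · rw [← hS, Submodule.span_le]
        intro c hc
        show c • V • m = 0
        obtain ⟨d, hd⟩ : v c (hmem ⟨c, hc⟩) ∣ V := Finset.dvd_prod_of_mem (fun c : S => v c (hmem c)) (Finset.mem_univ ⟨c, hc⟩)
        rw [smul_comm, hd, mul_comm, mul_smul, hv0 c (hmem ⟨c, hc⟩), smul_zero]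
    let g : (A ⧸ q.asIdeal) →ₗ[A] M := Submodule.liftQ q.asIdeal f hker.ge
    have hg : Function.Injective g := LinearMap.ker_eq_bot.1 (by
      rw [Submodule.ker_liftQ, hker, Submodule.mkQ_map_self])
    exact fun hv' => not_van_del hω q (van_left (ses_range hg) rfl hv' (van_gt hω (by lia)))

theorem exists_lift {q : Ideal A} [q.IsPrime] {M K R : Type u} [AddCommGroup M] [Module A M] [AddCommGroup K]
    [Module A K] [AddCommGroup R] [Module A R] {k : K →ₗ[A] M} {π : M →ₗ[A] R} (h : SES k π) {i : ℤ}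
    (hK : Van ω q K i) (x : T ω M i) : ∃ u ∉ q, ∃ z, u • x = pre ω i π z := by
  obtain ⟨u, hu, hux⟩ := hK (pre ω i k x)
  obtain ⟨z, hz⟩ := h.exact_mid (u • x) (by rw [map_smul, hux])
  exact ⟨u, hu, z, hz.symm⟩

/-- Effect of a regular element. -/
theorem van_step {M : Type u} [AddCommGroup M] [Module A M] [Module.Finite A M] {q : PrimeSpectrum A} {a : A}
    (ha : a ∈ q.asIdeal) (hreg : q ∉ Module.support A (LinearMap.ker (a • (LinearMap.id : M →ₗ[A] M)))) {i j : ℤ}
    (hij : i + 1 = j) :
    (Van ω q.asIdeal (M ⧸ LinearMap.range (a • (LinearMap.id : M →ₗ[A] M))) j → Van ω q.asIdeal M i) ∧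
    (Van ω q.asIdeal M i → Van ω q.asIdeal M j →
      Van ω q.asIdeal (M ⧸ LinearMap.range (a • (LinearMap.id : M →ₗ[A] M))) j) := by
  let φ := a • (LinearMap.id : M →ₗ[A] M)
  have h1 : SES (LinearMap.ker φ).subtype φ.rangeRestrict :=
    ⟨Submodule.subtype_injective _, by
      rw [LinearMap.exact_iff, LinearMap.ker_rangeRestrict, Submodule.range_subtype], φ.surjective_rangeRestrict⟩
  have h2 : SES (LinearMap.range φ).subtype (LinearMap.range φ).mkQ := ses_quot _
  refine ⟨fun hN => ?_, fun hi hj => ?_⟩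
  · haveI := finite_T hω M i
    refine van_of_div ha fun x => ?_
    obtain ⟨u, hu, z, hz⟩ := exists_lift hω h1 (van_of_notMem_support hreg i) x
    obtain ⟨v, hv, hvz⟩ := hN (h2.delta ω hij z)
    obtain ⟨y, hy⟩ := h2.exact_left hij (v • z) (by rw [map_smul, hvz])
    refine ⟨v * u, fun h => (q.isPrime.mem_or_mem h).elim hv hu, y, ?_⟩
    rw [mul_smul, hz, ← map_smul, ← hy, ← pre_comp, show (LinearMap.range φ).subtype.comp φ.rangeRestrict = φ from rfl]
    exact pre_smul_id a y
  · refine van_right h2 hij ?_ hj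
    exact van_right h1 (i := i - 1) (by lia) (van_of_notMem_support hreg _) hi

theorem van_socSeq : ∀ (n : ℕ) {M : Type u} [AddCommGroup M] [Module A M] [Module.Finite A M] {q : PrimeSpectrum A},
    FlatDepth.SocSeq (Localization.AtPrime q.asIdeal) (LocalizedModule q.asIdeal.primeCompl M) n →
      (∀ j : ℕ, j < n → Van ω q.asIdeal M (-del hω q - j)) ∧ ¬ Van ω q.asIdeal M (-del hω q - n) := by
  intro n
  induction n with
  | zero =>
    intro M _ _ _ q h
    obtain ⟨_ | ⟨r, rs⟩, hl, -, -, x, hx, hax⟩ := h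
    swap
    · simp at hl
    refine ⟨fun j hj => absurd hj (Nat.not_lt_zero j), ?_⟩
    rw [Nat.cast_zero, sub_zero]
    obtain ⟨w, rfl⟩ := Submodule.Quotient.mk_surjective _ x
    refine not_van_socle hω ⟨w, fun h => hx (by rw [h]; rfl), fun a ha => ?_⟩
    have h1 := hax (algebraMap A _ a) ((IsLocalization.AtPrime.to_map_mem_maximal_iff _ q.asIdeal a).2 ha)
    rwa [← Submodule.Quotient.mk_smul, Submodule.Quotient.mk_eq_zero, FlatDepth.ofList_nil_smul, Submodule.mem_bot,
      algebraMap_smul] at h1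
  | succ n ih =>
    intro M _ _ _ q h
    obtain ⟨r, hr, hreg, hq⟩ := FlatDepth.socSeq_uncons h
    obtain ⟨⟨a, t⟩, ht⟩ := IsLocalization.surj q.asIdeal.primeCompl r
    have ha : a ∈ q.asIdeal := (IsLocalization.AtPrime.to_map_mem_maximal_iff (Localization.AtPrime q.asIdeal) q.asIdeal a).1
      (ht ▸ Ideal.mul_mem_right _ _ hr)
    have hK : q ∉ Module.support A (LinearMap.ker (a • (LinearMap.id : M →ₗ[A] M))) := by
      rw [Module.notMem_support_iff, LocalizedModule.subsingleton_iff]
      rintro ⟨m, hm⟩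
      have h1 : r • (algebraMap A (Localization.AtPrime q.asIdeal) (t : A) •
          LocalizedModule.mkLinearMap q.asIdeal.primeCompl M m) = r • 0 := by
        rw [smul_smul, ht, algebraMap_smul, ← map_smul, show a • m = 0 from hm, map_zero, smul_zero]
      have h2 := hreg h1
      rw [algebraMap_smul, ← map_smul, ← map_zero (LocalizedModule.mkLinearMap q.asIdeal.primeCompl M)] at h2
      obtain ⟨v, hv⟩ := IsLocalizedModule.exists_of_eq (S := q.asIdeal.primeCompl) h2
      rw [smul_zero, Submonoid.smul_def, smul_smul] at hv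
      exact ⟨(v : A) * t, (v * t).2, Subtype.ext hv⟩
    obtain ⟨e⟩ := nonempty_localized_quot q.asIdeal M a r t ht
    obtain ⟨hlt, hne⟩ := ih (hq.congr e.symm)
    have key : ∀ j : ℕ, j < n + 1 → Van ω q.asIdeal M (-del hω q - j) := by
      intro j hj
      refine (van_step hω ha hK rfl).1 ?_
      rcases Nat.eq_zero_or_pos j with rfl | hj0
      · exact van_gt hω (by simp)
      · have := hlt (j - 1) (by lia)
        rwa [show (-del hω q - j + 1 : ℤ) = -del hω q - ((j - 1 : ℕ) : ℤ) by lia]
    exact ⟨key, fun h' => hne ((van_step hω ha hK (show (-del hω q - ((n + 1 : ℕ) : ℤ)) + 1 = _ by push_cast; ring)).2 h'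
      (key n (by lia)))⟩

theorem exists_depth {M : Type u} [AddCommGroup M] [Module A M] [Module.Finite A M] {q : PrimeSpectrum A}
    (hq : q ∈ Module.support A M) : ∃ n : ℕ,
      LocCoh.depth (Localization.AtPrime q.asIdeal) (LocalizedModule q.asIdeal.primeCompl M) = n ∧
      (∀ j : ℕ, j < n → Van ω q.asIdeal M (-del hω q - j)) ∧ ¬ Van ω q.asIdeal M (-del hω q - n) := by
  haveI : Nontrivial (LocalizedModule q.asIdeal.primeCompl M) := hq
  obtain ⟨n, hn⟩ := FlatDepth.exists_socSeq (R := Localization.AtPrime q.asIdeal) (LocalizedModule q.asIdeal.primeCompl M)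
  exact ⟨n, hn.depth_eq.1, van_socSeq hω n hn⟩

theorem depth_eq_iff {M : Type u} [AddCommGroup M] [Module A M] [Module.Finite A M] (q : PrimeSpectrum A) (n : ℕ) :
    LocCoh.depth (Localization.AtPrime q.asIdeal) (LocalizedModule q.asIdeal.primeCompl M) = n ↔
      (∀ j : ℕ, j < n → Van ω q.asIdeal M (-del hω q - j)) ∧ ¬ Van ω q.asIdeal M (-del hω q - n) := by
  by_cases hq : q ∈ Module.support A M
  · obtain ⟨m, hm, h1, h2⟩ := exists_depth hω hq
    rw [hm, Nat.cast_inj]
    refine ⟨fun h => h ▸ ⟨h1, h2⟩, fun h => ?_⟩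
    rcases lt_trichotomy m n with hlt | rfl | hlt
    · exact absurd (h.1 m hlt) h2
    · rfl
    · exact absurd (h1 n hlt) h.2
  · haveI : Subsingleton (LocalizedModule q.asIdeal.primeCompl M) := Module.notMem_support_iff.1 hq
    rw [FlatDepth.depth_eq_top]
    exact ⟨fun h => absurd h (ENat.top_ne_coe n), fun h => absurd (van_of_notMem_support hq _) h.2⟩

theorem depth_le_iff {M : Type u} [AddCommGroup M] [Module A M] [Module.Finite A M] (q : PrimeSpectrum A) (i : ℕ) :
    LocCoh.depth (Localization.AtPrime q.asIdeal) (LocalizedModule q.asIdeal.primeCompl M) ≤ i ↔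
      ∃ j : ℕ, j ≤ i ∧ ¬ Van ω q.asIdeal M (-del hω q - j) := by
  by_cases hq : q ∈ Module.support A M
  · obtain ⟨m, hm, h1, h2⟩ := exists_depth hω hq
    rw [hm, Nat.cast_le]
    exact ⟨fun h => ⟨m, h, h2⟩, fun ⟨j, hj, hjv⟩ => le_trans (not_lt.1 fun hlt => hjv (h1 j hlt)) hj⟩
  · haveI : Subsingleton (LocalizedModule q.asIdeal.primeCompl M) := Module.notMem_support_iff.1 hq
    rw [FlatDepth.depth_eq_top]
    exact ⟨fun h => absurd (top_le_iff.1 h) (ENat.coe_ne_top i), fun ⟨j, _, hjv⟩ => absurd (van_of_notMem_support hq _) hjv⟩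

theorem exists_series {S : Set (PrimeSpectrum A)} (hS : ∀ ⦃a b : PrimeSpectrum A⦄, a ≤ b → a ∈ S → b ∈ S)
    {p q : PrimeSpectrum A} (hp : p ∈ S) (hpq : p ≤ q) :
    ∃ s : LTSeries ↥{r : PrimeSpectrum A | r ∈ S ∧ r ≤ q}, (s.head : PrimeSpectrum A) = p ∧
      (s.length : ℤ) = del hω p - del hω q := by
  haveI := wellFoundedGT_spec (A := A)
  revert hp hpq
  induction p using (wellFounded_gt (α := PrimeSpectrum A)).induction with
  | h p ih =>
    intro hp hpq
    rcases hpq.eq_or_lt with rfl | hlt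
    · exact ⟨RelSeries.singleton _ ⟨p, hp, le_rfl⟩, rfl, by simp⟩
    obtain ⟨r, hr, hrq⟩ := exists_covBy_le hlt
    obtain ⟨s, hs, hl⟩ := ih r hr.lt (hS hr.lt.le hp) hrq
    refine ⟨s.cons ⟨p, hp, hpq⟩ (show (⟨p, hp, hpq⟩ : ↥{r : PrimeSpectrum A | r ∈ S ∧ r ≤ q}) < s.head from
      show p < (s.head : PrimeSpectrum A) from hs ▸ hr.lt), by simp, ?_⟩
    have := del_covBy hω hr
    simp only [RelSeries.cons_length, Nat.cast_add, Nat.cast_one]
    lia

theorem series_length_le {S : Set (PrimeSpectrum A)} {q : PrimeSpectrum A}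
    (s : LTSeries ↥{r : PrimeSpectrum A | r ∈ S ∧ r ≤ q}) :
    (s.length : ℤ) ≤ del hω (s.head : PrimeSpectrum A) - del hω q := by
  have hs : ∀ i : Fin (s.length + 1), del hω (s i : PrimeSpectrum A) + (i : ℕ) ≤ del hω (s.head : PrimeSpectrum A) := by
    intro i
    induction i using Fin.induction with
    | zero => simp [RelSeries.head]
    | succ j ihj =>
      have := del_lt hω (show (s j.castSucc : PrimeSpectrum A) < s j.succ from s.step j)
      simp only [Fin.val_succ, Fin.val_castSucc] at ihj ⊢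
      lia
  have h1 := hs (Fin.last _)
  have h2 := del_le hω (s (Fin.last _)).2.2
  simp only [Fin.val_last] at h1
  lia

theorem krullDim_le_iff {S : Set (PrimeSpectrum A)} (hS : ∀ ⦃a b : PrimeSpectrum A⦄, a ≤ b → a ∈ S → b ∈ S)
    (q : PrimeSpectrum A) (n : ℕ) :
    Order.krullDim ↥{r : PrimeSpectrum A | r ∈ S ∧ r ≤ q} ≤ (n : WithBot ℕ∞) ↔
      ∀ p ∈ S, p ≤ q → del hω p - del hω q ≤ n := by
  refine ⟨fun h p hp hpq => ?_, fun h => iSup_le fun s => ?_⟩
  · obtain ⟨s, -, hl⟩ := exists_series hω hS hp hpq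
    have h1 : s.length ≤ n := by exact_mod_cast (Order.LTSeries.length_le_krullDim s).trans h
    lia
  · have h1 := series_length_le hω s
    have h2 := h _ s.head.2.1 s.head.2.2
    exact_mod_cast (show s.length ≤ n by lia)

theorem le_krullDim {S : Set (PrimeSpectrum A)} (hS : ∀ ⦃a b : PrimeSpectrum A⦄, a ≤ b → a ∈ S → b ∈ S)
    {p q : PrimeSpectrum A} (hp : p ∈ S) (hpq : p ≤ q) (n : ℕ) (hn : (n : ℤ) ≤ del hω p - del hω q) :
    (n : WithBot ℕ∞) ≤ Order.krullDim ↥{r : PrimeSpectrum A | r ∈ S ∧ r ≤ q} := by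
  obtain ⟨s, -, hl⟩ := exists_series hω hS hp hpq
  refine le_trans ?_ (Order.LTSeries.length_le_krullDim s)
  exact_mod_cast (show n ≤ s.length by lia)

omit hω [IsNoetherianRing A] in
theorem supportDim_localized_eq (M : Type u) [AddCommGroup M] [Module A M] (q : PrimeSpectrum A) :
    Module.supportDim (Localization.AtPrime q.asIdeal) (LocalizedModule q.asIdeal.primeCompl M) =
      Order.krullDim ↥{r : PrimeSpectrum A | r ∈ Module.support A M ∧ r ≤ q} := by
  let e := IsLocalization.AtPrime.primeSpectrumOrderIso (Localization.AtPrime q.asIdeal) q.asIdeal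
  have hcomap : ∀ w, (e w : PrimeSpectrum A) = PrimeSpectrum.comap (algebraMap A _) w := fun w => rfl
  exact Order.krullDim_eq_of_orderIso
    { toFun := fun w => ⟨e w.1, hcomap w.1 ▸ (QGorD.mem_support_localized_iff q.asIdeal w.1).1 w.2, (e w.1).2⟩
      invFun := fun r => ⟨e.symm ⟨r.1, r.2.2⟩, (QGorD.mem_support_localized_iff q.asIdeal _).2 (by
        rw [← hcomap, OrderIso.apply_symm_apply]; exact r.2.1)⟩
      left_inv := fun w => Subtype.ext (e.symm_apply_apply w.1)
      right_inv := fun r => Subtype.ext (show ((e (e.symm ⟨r.1, r.2.2⟩) : PrimeSpectrum A)) = r.1 by rw [e.apply_symm_apply])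
      map_rel_iff' := fun {a b} => e.le_iff_le }

theorem supportDim_localized_le_iff (M : Type u) [AddCommGroup M] [Module A M] (q : PrimeSpectrum A) (n : ℕ) :
    Module.supportDim (Localization.AtPrime q.asIdeal) (LocalizedModule q.asIdeal.primeCompl M) ≤ (n : WithBot ℕ∞) ↔
      ∀ p ∈ Module.support A M, p ≤ q → del hω p - del hω q ≤ n := by
  rw [supportDim_localized_eq]
  exact krullDim_le_iff hω (fun _ _ h ha => Module.mem_support_mono h ha) q n

theorem le_supportDim_localized {M : Type u} [AddCommGroup M] [Module A M] {p q : PrimeSpectrum A}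
    (hp : p ∈ Module.support A M) (hpq : p ≤ q) (n : ℕ) (hn : (n : ℤ) ≤ del hω p - del hω q) :
    (n : WithBot ℕ∞) ≤ Module.supportDim (Localization.AtPrime q.asIdeal) (LocalizedModule q.asIdeal.primeCompl M) := by
  rw [supportDim_localized_eq]
  exact le_krullDim hω (fun _ _ h ha => Module.mem_support_mono h ha) hp hpq n hn

theorem not_van_minimal {M : Type u} [AddCommGroup M] [Module A M] [Module.Finite A M] {p : PrimeSpectrum A}
    (hp : p ∈ Module.support A M) (hmin : ∀ r ∈ Module.support A M, r ≤ p → r = p) :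
    ¬ Van ω p.asIdeal M (-del hω p) := by
  obtain ⟨n, -, -, h⟩ := exists_depth hω hp
  obtain ⟨r, hr, hrp, h1, -⟩ := exists_of_not_van hω h
  rw [hmin r hr hrp] at h1
  rwa [show n = 0 by lia, Nat.cast_zero, sub_zero] at h

/-- The top nonvanishing degree below a point of the support. -/
theorem exists_max {M : Type u} [AddCommGroup M] [Module A M] [Module.Finite A M] {q : PrimeSpectrum A}
    (hq : q ∈ Module.support A M) : ∃ d : ℕ,
      Module.supportDim (Localization.AtPrime q.asIdeal) (LocalizedModule q.asIdeal.primeCompl M) = (d : WithBot ℕ∞) ∧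
      ¬ Van ω q.asIdeal M (-del hω q - d) ∧
      ∀ i : ℤ, i < -del hω q - d → Van ω q.asIdeal M i := by
  obtain ⟨a, b, hab⟩ := exists_del_bound hω
  obtain ⟨d, ⟨p, hp, hpq, hpd⟩, hmax⟩ := Int.exists_greatest_of_bdd
    (P := fun d => ∃ p ∈ Module.support A M, p ≤ q ∧ del hω p - del hω q = d)
    ⟨b - a, fun z ⟨p, _, _, hz⟩ => by have := hab p; have := hab q; lia⟩ ⟨0, q, hq, le_rfl, sub_self _⟩
  have hd : 0 ≤ d := hpd ▸ sub_nonneg.2 (del_le hω hpq)
  lift d to ℕ using hd
  refine ⟨d, le_antisymm ((supportDim_localized_le_iff hω M q d).2 fun r hr hrq => hmax _ ⟨r, hr, hrq, rfl⟩)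
    (le_supportDim_localized hω hp hpq d (by lia)), ?_, fun i hi => van_range hω fun r hr hrq => ?_⟩
  · rw [show -del hω q - (d : ℤ) = -del hω p by lia]
    refine fun h => not_van_minimal hω hp (fun r hr hrp => ?_) (van_mono hpq h)
    rcases hrp.eq_or_lt with h1 | h1
    · exact h1
    · have := del_lt hω h1
      have := hmax _ ⟨r, hr, hrp.trans hpq, rfl⟩
      lia
  · exact Or.inl (by have := hmax _ ⟨r, hr, hrq, rfl⟩; lia)

theorem isCohenMacaulay_iff {M : Type u} [AddCommGroup M] [Module A M] [Module.Finite A M] (q : PrimeSpectrum A) :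
    (Subsingleton (LocalizedModule q.asIdeal.primeCompl M) ∨
      LocCoh.IsCohenMacaulayModule (Localization.AtPrime q.asIdeal) (LocalizedModule q.asIdeal.primeCompl M)) ↔
    ∀ i i' : ℤ, ¬ Van ω q.asIdeal M i → ¬ Van ω q.asIdeal M i' → i = i' := by
  by_cases hq : q ∈ Module.support A M
  · have hnt : ¬ Subsingleton (LocalizedModule q.asIdeal.primeCompl M) := not_subsingleton_iff_nontrivial.2 hq
    obtain ⟨n, hn, hlt, hne⟩ := exists_depth hω hq
    obtain ⟨d, hd, hdv, hbelow⟩ := exists_max hω hq
    rw [LocCoh.IsCohenMacaulayModule, hn, hd, or_iff_right hnt]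
    constructor
    · intro h
      have hdn : d = n := by exact_mod_cast h
      have : ∀ i, ¬ Van ω q.asIdeal M i → i = -del hω q - n := fun i hi => by
        rcases lt_trichotomy i (-del hω q - n) with h1 | h1 | h1
        · exact absurd (hbelow i (hdn ▸ h1)) hi
        · exact h1
        · by_cases h2 : i ≤ -del hω q
          · have := hlt (-del hω q - i).toNat (by lia)
            rw [show -del hω q - ((-del hω q - i).toNat : ℤ) = i by lia] at this
            exact absurd this hi
          · exact absurd (van_gt hω (by lia)) hi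
      intro i i' hi hi'
      rw [this i hi, this i' hi']
    · intro h
      have := h _ _ hdv hne
      exact_mod_cast (show d = n by lia)
  · exact iff_of_true (Or.inl (Module.notMem_support_iff.1 hq))
      fun i _ hi => absurd (van_of_notMem_support hq i) hi

end

end Groth.Agent.DualCx
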