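import Groth.Agent.KInj.Ops
import Groth.Agent.DRingKP.InjAmp
import Mathlib.CategoryTheory.Adjunction.Additive

/-!
A K-injective complex computes the right adjoint of an exact functor on derived categories.
-/

set_option autoImplicit false
set_option maxHeartbeats 1000000
universe w w' v v' u u'

namespace Groth.Agent.DualCx

open CategoryTheory Limits DerivedCategory

noncomputable section

variable {A : Type u} [Category.{v} A] [Abelian A] [HasDerivedCategory.{w} A]
  {B : Type u'} [Category.{v'} B] [Abelian B] [HasDerivedCategory.{w'} B]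
  {F : B ⥤ A} {G : A ⥤ B} (adj : F ⊣ G) [F.Additive] [G.Additive]
  [PreservesFiniteLimits F] [PreservesFiniteColimits F]

/-- The evaluation `F(G I) ⟶ I` in the derived category. -/
def raCounit (I : CochainComplex A ℤ) :
    F.mapDerivedCategory.obj (Q.obj ((G.mapHomologicalComplex (ComplexShape.up ℤ)).obj I)) ⟶ Q.obj I :=
  F.mapDerivedCategoryFactors.hom.app _ ≫
    Q.map ((KInj.mapHomologicalComplexAdj adj (ComplexShape.up ℤ)).counit.app I)

theorem raCounit_natural (I : CochainComplex A ℤ) {P : CochainComplex B ℤ}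
    (w : P ⟶ (G.mapHomologicalComplex (ComplexShape.up ℤ)).obj I) :
    F.mapDerivedCategory.map (Q.map w) ≫ raCounit adj I =
      F.mapDerivedCategoryFactors.hom.app P ≫
        Q.map (((KInj.mapHomologicalComplexAdj adj (ComplexShape.up ℤ)).homEquiv P I).symm w) := by
  rw [Adjunction.homEquiv_counit, Functor.map_comp, raCounit,
    Functor.mapDerivedCategoryFactors_hom_naturality_assoc]

/-- The universal property. -/
theorem raCounit_bijective (I : CochainComplex A ℤ) [hI : I.IsKInjective] (X : DerivedCategory B) :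
    Function.Bijective (fun v : X ⟶ Q.obj ((G.mapHomologicalComplex (ComplexShape.up ℤ)).obj I) =>
      F.mapDerivedCategory.map v ≫ raCounit adj I) := by
  haveI := KInj.isKInjective_rightAdjoint adj I hI
  let a := KInj.mapHomologicalComplexAdj adj (ComplexShape.up ℤ)
  let e := (Q : CochainComplex B ℤ ⥤ _).objObjPreimageIso X
  let P := (Q : CochainComplex B ℤ ⥤ _).objPreimage X
  refine ⟨fun v v' hvv' => ?_, fun u => ?_⟩
  · obtain ⟨w, hw⟩ := KInj.Q_map_surjective (e.hom ≫ v)
    obtain ⟨w', hw'⟩ := KInj.Q_map_surjective (e.hom ≫ v')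
    have h1 : Q.map ((a.homEquiv P I).symm w) = Q.map ((a.homEquiv P I).symm w') := by
      have h2 := congrArg (F.mapDerivedCategory.map e.hom ≫ ·) hvv'
      simp only [← Functor.map_comp_assoc, ← hw, ← hw', raCounit_natural] at h2
      exact (cancel_epi (F.mapDerivedCategoryFactors.hom.app P)).1 h2
    obtain ⟨ho⟩ := KInj.nonempty_homotopy_of_Q_map_eq h1
    have h2 : Q.map w = Q.map w' := KInj.Q_map_eq_of_homotopy
      ((Homotopy.ofEq (show w - w' = a.unit.app P ≫ (G.mapHomologicalComplex (ComplexShape.up ℤ)).map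
          ((a.homEquiv P I).symm w - (a.homEquiv P I).symm w') by
        rw [Functor.map_sub, Preadditive.comp_sub]
        exact congrArg₂ (· - ·) ((((a.homEquiv P I).apply_symm_apply w).symm).trans (a.homEquiv_unit P I _))
          ((((a.homEquiv P I).apply_symm_apply w').symm).trans (a.homEquiv_unit P I _)))).trans
        (((G.mapHomotopy ho).compLeft (a.unit.app P)).trans (Homotopy.ofEq (by simp))))
    rw [hw, hw'] at h2
    exact (cancel_epi e.hom).1 h2
  · obtain ⟨w, hw⟩ := KInj.Q_map_surjective
      (F.mapDerivedCategoryFactors.inv.app P ≫ F.mapDerivedCategory.map e.hom ≫ u)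
    refine ⟨e.inv ≫ Q.map (a.homEquiv P I w), ?_⟩
    show F.mapDerivedCategory.map _ ≫ _ = u
    rw [Functor.map_comp, Category.assoc, raCounit_natural, Equiv.symm_apply_apply, hw]
    erw [Iso.hom_inv_id_app_assoc]
    rw [← Functor.map_comp_assoc, e.inv_hom_id, CategoryTheory.Functor.map_id, Category.id_comp]

/-- An object with the same universal property is isomorphic. -/
theorem nonempty_iso_of_adj {R : DerivedCategory A ⥤ DerivedCategory B} (adjD : F.mapDerivedCategory ⊣ R)
    {W : DerivedCategory B} {L : DerivedCategory A} (c : F.mapDerivedCategory.obj W ⟶ L)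
    (hc : ∀ X, Function.Bijective (fun v : X ⟶ W => F.mapDerivedCategory.map v ≫ c)) :
    Nonempty (W ≅ R.obj L) := by
  let θ := adjD.homEquiv W L c
  have hθ : ∀ X, Function.Bijective (fun v : X ⟶ W => v ≫ θ) := fun X => by
    have h : (fun v : X ⟶ W => v ≫ θ) = adjD.homEquiv X L ∘ fun v => F.mapDerivedCategory.map v ≫ c :=
      funext fun v => (adjD.homEquiv_naturality_left v c).symm
    rw [h]
    exact (adjD.homEquiv X L).bijective.comp (hc X)
  obtain ⟨s, hs⟩ := (hθ (R.obj L)).2 (𝟙 _)
  have hs' : s ≫ θ = 𝟙 _ := hs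
  refine ⟨⟨θ, s, (hθ W).1 ?_, hs'⟩⟩
  show (θ ≫ s) ≫ θ = 𝟙 W ≫ θ
  rw [Category.assoc, hs', Category.comp_id, Category.id_comp]

end

end Groth.Agent.DualCx
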