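import Groth.Agent.DualCx.Apps

/-!
The canonical module of a local ring with a dualizing complex satisfies `(S₂)`.
-/

set_option autoImplicit false
set_option maxHeartbeats 1000000
universe u v

namespace Groth.Agent.DualCx

open CategoryTheory Limits DerivedCategory Pretriangulated IsLocalRing
open scoped Pointwise

attribute [local instance] HasDerivedCategory.standard

noncomputable section

variable {A : Type u} [CommRing A] [IsNoetherianRing A]

theorem regular_localized {W : Type v} [AddCommGroup W] [Module A W] (q : Ideal A) [q.IsPrime] {x : A}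
    (h : ∀ w : W, (∃ u ∉ q, u • x • w = 0) → ∃ u ∉ q, u • w = 0) :
    IsSMulRegular (LocalizedModule q.primeCompl W) (algebraMap A (Localization.AtPrime q) x) := by
  refine isSMulRegular_iff_right_eq_zero_of_smul.2 fun z hz => ?_
  induction z using LocalizedModule.induction_on with
  | h w s =>
    rw [algebraMap_smul, LocalizedModule.smul'_mk, ← LocalizedModule.zero_mk s, LocalizedModule.mk_eq] at hz
    obtain ⟨v, hv⟩ := hz
    simp only [Submonoid.smul_def, smul_zero] at hv
    obtain ⟨u, hu, hu'⟩ := h w ⟨(v : A) * s, (v * s).2, by rw [mul_smul]; exact hv⟩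
    rw [← LocalizedModule.zero_mk s, LocalizedModule.mk_eq]
    refine ⟨⟨u, hu⟩, ?_⟩
    simp only [Submonoid.smul_def, smul_zero]
    rw [smul_comm, hu', smul_zero]

variable {ω : Dual.D A} (hω : Dual.IsDualizing A ω)
include hω

theorem exists_avoid {M : Type u} [AddCommGroup M] [Module A M] [Module.Finite A M] {q : PrimeSpectrum A} {e : ℤ}
    (hM : ∀ r ∈ Module.support A M, r ≤ q → del hω r ≤ e) (hq : del hω q < e) :
    ∃ y ∈ q.asIdeal, ∀ r ∈ Module.support A M, r ≤ q → y ∈ r.asIdeal → del hω r < e := by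
  classical
  have hfin := Ideal.finite_minimalPrimes_of_isNoetherianRing A (Module.annihilator A M)
  let S := hfin.toFinset.filter fun r => ¬ q.asIdeal ≤ r
  obtain ⟨y, hy, hy'⟩ : ∃ y ∈ q.asIdeal, ∀ r ∈ S, y ∉ r := by
    by_contra! hall
    have hsub : (q.asIdeal : Set A) ⊆ ⋃ r ∈ (S : Set (Ideal A)), (r : Set A) := fun a ha => by
      obtain ⟨r, hr, har⟩ := hall a ha
      exact Set.mem_biUnion hr har
    obtain ⟨r, hr, hle⟩ := (Ideal.subset_union_prime ⊥ ⊥ fun r hr _ _ =>
      (hfin.mem_toFinset.1 (Finset.mem_filter.1 hr).1).1.1).1 hsub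
    exact (Finset.mem_filter.1 hr).2 hle
  refine ⟨y, hy, fun r hr hrq hyr => (hM r hr hrq).lt_of_ne fun he => ?_⟩
  haveI := r.isPrime
  obtain ⟨p, hp, hpr⟩ := Ideal.exists_minimalPrimes_le (Module.mem_support_iff_of_finite.1 hr)
  let p' : PrimeSpectrum A := ⟨p, hp.1.1⟩
  have hp' : p' ∈ Module.support A M := Module.mem_support_iff_of_finite.2 hp.1.2
  rcases eq_or_lt_of_le (show p' ≤ r from hpr) with h | h
  · refine hy' p (Finset.mem_filter.2 ⟨hfin.mem_toFinset.2 hp, fun hle => ?_⟩) ?_
    · have := del_le hω (show q ≤ r from h ▸ (show q ≤ p' from hle))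
      lia
    · rw [← h] at hyr; exact hyr
  · have := del_lt hω h
    have := hM p' hp' (h.le.trans hrq)
    lia

theorem regular_top {M : Type u} [AddCommGroup M] [Module A M] [Module.Finite A M] {q : PrimeSpectrum A} {e : ℤ}
    (hM : ∀ r ∈ Module.support A M, r ≤ q → del hω r ≤ e) {y : A}
    (hy : ∀ r ∈ Module.support A M, r ≤ q → y ∈ r.asIdeal → del hω r < e) (x : T ω M (-e))
    (hx : ∃ u ∉ q.asIdeal, u • y • x = 0) : ∃ u ∉ q.asIdeal, u • x = 0 := by
  obtain ⟨u, hu, hux⟩ := hx
  let φ := y • (LinearMap.id : M →ₗ[A] M)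
  have h1 : SES (LinearMap.ker φ).subtype φ.rangeRestrict :=
    ⟨Submodule.subtype_injective _, by
      rw [LinearMap.exact_iff, LinearMap.ker_rangeRestrict, Submodule.range_subtype], φ.surjective_rangeRestrict⟩
  have h2 : SES (LinearMap.range φ).subtype (LinearMap.range φ).mkQ := ses_quot _
  have hK : Van ω q.asIdeal (LinearMap.ker φ) (-e - 1) := van_range hω fun r hr hrq => Or.inl (by
    have := hM r (Module.support_subset_of_injective _ (Submodule.subtype_injective _) hr) hrq; lia)
  have hN : Van ω q.asIdeal (M ⧸ LinearMap.range φ) (-e) := van_range hω fun r hr hrq => Or.inl (by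
    have hyr : y ∈ r.asIdeal := Module.annihilator_le_of_mem_support hr (Module.mem_annihilator.2 fun w => by
      obtain ⟨w, rfl⟩ := Submodule.Quotient.mk_surjective _ w
      rw [← Submodule.Quotient.mk_smul]
      exact (Submodule.Quotient.mk_eq_zero _).2 ⟨w, rfl⟩)
    have := hy r (Module.support_subset_of_surjective _ (Submodule.mkQ_surjective _) hr) hrq hyr; lia)
  have h3 : pre ω (-e) φ.rangeRestrict (pre ω (-e) (LinearMap.range φ).subtype (u • x)) = 0 := by
    rw [← pre_comp, show (LinearMap.range φ).subtype.comp φ.rangeRestrict = φ from rfl, pre_smul_id, smul_comm, hux]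
  obtain ⟨k, hk⟩ := h1.exact_right (show -e - 1 + 1 = -e by lia) _ h3
  obtain ⟨v, hv, hvk⟩ := hK k
  obtain ⟨z, hz⟩ := h2.exact_mid (v • u • x) (by rw [map_smul, ← hk, ← map_smul, hvk, map_zero])
  obtain ⟨w, hw, hwz⟩ := hN z
  refine ⟨w * (v * u), fun h => ?_, by rw [mul_smul, mul_smul, ← hz, ← map_smul, hwz, map_zero]⟩
  rcases q.isPrime.mem_or_mem h with h | h
  · exact hw h
  · exact (q.isPrime.mem_or_mem h).elim hv hu

theorem regular_pair {q : PrimeSpectrum A} {d : ℤ} (hA : ∀ r : PrimeSpectrum A, r ≤ q → del hω r ≤ d) {x y : A}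
    (hx : ∀ r : PrimeSpectrum A, r ≤ q → x ∈ r.asIdeal → del hω r < d)
    (hy : ∀ r ∈ Module.support A (A ⧸ LinearMap.range (x • (LinearMap.id : A →ₗ[A] A))), r ≤ q → y ∈ r.asIdeal →
      del hω r < d - 1)
    (t : T ω A (-d)) (ht : ∃ u ∉ q.asIdeal, ∃ v, u • y • t = x • v) :
    ∃ u ∉ q.asIdeal, ∃ v, u • t = x • v := by
  obtain ⟨u, hu, v, huv⟩ := ht
  let φ := x • (LinearMap.id : A →ₗ[A] A)
  have h1 : SES (LinearMap.ker φ).subtype φ.rangeRestrict :=
    ⟨Submodule.subtype_injective _, by
      rw [LinearMap.exact_iff, LinearMap.ker_rangeRestrict, Submodule.range_subtype], φ.surjective_rangeRestrict⟩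
  have h2 : SES (LinearMap.range φ).subtype (LinearMap.range φ).mkQ := ses_quot _
  have hN : ∀ r ∈ Module.support A (A ⧸ LinearMap.range φ), r ≤ q → del hω r ≤ d - 1 := fun r hr hrq => by
    have hxr : x ∈ r.asIdeal := Module.annihilator_le_of_mem_support hr (Module.mem_annihilator.2 fun w => by
      obtain ⟨w, rfl⟩ := Submodule.Quotient.mk_surjective _ w
      rw [← Submodule.Quotient.mk_smul]
      exact (Submodule.Quotient.mk_eq_zero _).2 ⟨w, rfl⟩)
    have := hx r hrq hxr; lia
  have hK : Van ω q.asIdeal (LinearMap.ker φ) (-d - 1) := van_range hω fun r _ hrq => Or.inl (by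
    have := hA r hrq; lia)
  have hK' : Van ω q.asIdeal (LinearMap.ker φ) (-d) := van_range hω fun r hr hrq => Or.inl (by
    have hxr : x ∈ r.asIdeal := Module.annihilator_le_of_mem_support hr (Module.mem_annihilator.2 fun w =>
      Subtype.ext w.2)
    have := hx r hrq hxr; lia)
  -- lift `t`
  obtain ⟨u₁, hu₁, hu₁t⟩ := hK' (pre ω (-d) (LinearMap.ker φ).subtype t)
  obtain ⟨z, hz⟩ := h1.exact_mid (u₁ • t) (by rw [map_smul, hu₁t])
  have h3 : pre ω (-d) φ.rangeRestrict ((u * y) • z - pre ω (-d) (LinearMap.range φ).subtype (u₁ • v)) = 0 := by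
    rw [map_sub, map_smul, hz, ← pre_comp, show (LinearMap.range φ).subtype.comp φ.rangeRestrict = φ from rfl,
      pre_smul_id, smul_comm (u * y), mul_smul, huv, smul_comm u₁, sub_self]
  obtain ⟨k, hk⟩ := h1.exact_right (show -d - 1 + 1 = -d by lia) _ h3
  obtain ⟨u₂, hu₂, hu₂k⟩ := hK k
  have h4 : u₂ • u • y • h2.delta ω (show -d + 1 = -(d - 1) by lia) z = 0 := by
    have h5 : u₂ • ((u * y) • z - pre ω (-d) (LinearMap.range φ).subtype (u₁ • v)) = 0 := by
      rw [← hk, ← map_smul, hu₂k, map_zero]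
    have h6 := congrArg (h2.delta ω (show -d + 1 = -(d - 1) by lia)) h5
    rw [map_smul, map_sub, map_smul, h2.delta_pre, sub_zero, map_zero, mul_smul] at h6
    exact h6
  obtain ⟨u₃, hu₃, hu₃z⟩ := regular_top hω hN hy (h2.delta ω (show -d + 1 = -(d - 1) by lia) z)
    ⟨u₂ * u, fun h => (q.isPrime.mem_or_mem h).elim hu₂ hu, by rw [mul_smul]; exact h4⟩
  obtain ⟨v', hv'⟩ := h2.exact_left (show -d + 1 = -(d - 1) by lia) (u₃ • z) (by rw [map_smul, hu₃z])
  refine ⟨u₃ * u₁, fun h => (q.isPrime.mem_or_mem h).elim hu₃ hu₁, v', ?_⟩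
  rw [mul_smul, ← hz, ← map_smul, ← hv', ← pre_comp,
    show (LinearMap.range φ).subtype.comp φ.rangeRestrict = φ from rfl, pre_smul_id]

end

section Local

variable {A : Type u} [CommRing A] [IsNoetherianRing A] [IsLocalRing A] {ω : Dual.D A}
  (hω : Dual.IsDualizing A ω) (hn : Dual.IsNormalized A ω)
include hω hn

theorem support_top (d : ℕ) (hd : ringKrullDim A = d) :
    Module.support A (Dual.HD A ω (-(d : ℤ))) =
      {p : PrimeSpectrum A | ∃ q ∈ minimalPrimes A, q ≤ p.asIdeal ∧ ringKrullDim (A ⧸ q) = d} := by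
  ext p
  have hle : ∀ r : PrimeSpectrum A, del hω r ≤ d := fun r => by
    have h1 := ringKrullDim_quotient_eq hω hn r
    have h2 : ringKrullDim (A ⧸ r.asIdeal) ≤ ringKrullDim A := ringKrullDim_quotient_le r.asIdeal
    rw [h1, hd] at h2
    have : (del hω r).toNat ≤ d := by exact_mod_cast h2
    lia
  haveI := hω.finite_cohomology (-(d : ℤ))
  rw [Module.mem_support_iff, ← not_subsingleton_iff_nontrivial, ← van_self_iff]
  constructor
  · intro h
    obtain ⟨r, -, hrp, h1, -⟩ := exists_of_not_van hω h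
    haveI := r.isPrime
    obtain ⟨q, hq, hqr⟩ := Ideal.exists_minimalPrimes_le (I := (⊥ : Ideal A)) (J := r.asIdeal) bot_le
    refine ⟨q, hq, hqr.trans hrp, ?_⟩
    have := hle ⟨q, hq.1.1⟩
    have := del_le hω (show (⟨q, hq.1.1⟩ : PrimeSpectrum A) ≤ r from hqr)
    rw [show ringKrullDim (A ⧸ q) = _ from ringKrullDim_quotient_eq hω hn ⟨q, hq.1.1⟩,
      show (del hω ⟨q, hq.1.1⟩).toNat = d by lia]
  · rintro ⟨q, hq, hqp, hdq⟩ h
    haveI := hq.1.1
    have h1 : (d : WithBot ℕ∞) = ((del hω ⟨q, hq.1.1⟩).toNat : WithBot ℕ∞) :=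
      hdq.symm.trans (ringKrullDim_quotient_eq hω hn ⟨q, hq.1.1⟩)
    have h2 : d = (del hω ⟨q, hq.1.1⟩).toNat := by exact_mod_cast h1
    have h0 : 0 ≤ del hω ⟨q, hq.1.1⟩ := by
      rw [← del_closed hω hn]
      exact del_le hω (show q ≤ maximalIdeal A from le_maximalIdeal hq.1.1.ne_top)
    have h3 := van_mono hqp h
    rw [van_self_iff, ← not_nontrivial_iff_subsingleton, nontrivial_hd_minimal_iff hω q hq] at h3
    lia

theorem hasSk_two (d : ℕ) (hd : ringKrullDim A = d) : LocCoh.HasSk 2 A (Dual.HD A ω (-(d : ℤ))) := by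
  intro p _
  haveI := hω.finite_cohomology (-(d : ℤ))
  let q : PrimeSpectrum A := ⟨p, inferInstance⟩
  let W := Dual.HD A ω (-(d : ℤ))
  let e := homEquiv ω (-(d : ℤ))
  have hA : ∀ r : PrimeSpectrum A, del hω r ≤ (d : ℤ) := fun r => by
    have h1 := ringKrullDim_quotient_eq hω hn r
    have h2 : ringKrullDim (A ⧸ r.asIdeal) ≤ ringKrullDim A := ringKrullDim_quotient_le r.asIdeal
    rw [h1, hd] at h2
    have : (del hω r).toNat ≤ d := by exact_mod_cast h2
    lia
  by_cases hq : q ∈ Module.support A W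
  swap
  · haveI : Subsingleton (LocalizedModule p.primeCompl W) := Module.notMem_support_iff.1 hq
    rw [Module.supportDim_eq_bot_of_subsingleton]
    simp
  obtain ⟨n, hnd, -, -⟩ := exists_max hω hq
  have hnd' : (n : ℤ) ≤ d - del hω q := by
    by_contra hlt
    obtain ⟨m, hm⟩ : ∃ m : ℕ, (m : ℤ) = d - del hω q := ⟨(d - del hω q).toNat, by have := hA q; lia⟩
    have h := (supportDim_localized_le_iff hω W q m).2 fun r _ _ => by have := hA r; lia
    rw [hnd] at h
    have : n ≤ m := by exact_mod_cast h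
    lia
  rw [show Module.supportDim (Localization.AtPrime p) (LocalizedModule p.primeCompl W) = (n : WithBot ℕ∞) from hnd]
  rcases Nat.eq_zero_or_pos n with rfl | hpos
  · exact le_trans (min_le_right _ _) (WithBot.coe_le_coe.2 bot_le)
  obtain ⟨x, hxq, hx⟩ := exists_avoid hω (M := A) (q := q) (e := (d : ℤ)) (fun r _ _ => hA r) (by lia)
  have hx' : ∀ r : PrimeSpectrum A, r ≤ q → x ∈ r.asIdeal → del hω r < d := fun r =>
    hx r (by rw [Module.support_eq_zeroLocus, Module.annihilator_eq_bot.2 inferInstance]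
             exact fun z hz => by rw [(Submodule.mem_bot A).1 hz]; exact r.asIdeal.zero_mem)
  have hreg : IsSMulRegular (LocalizedModule p.primeCompl W) (algebraMap A (Localization.AtPrime p) x) := by
    refine regular_localized p fun w ⟨u, hu, huw⟩ => ?_
    obtain ⟨v, hv, hvw⟩ := regular_top hω (M := A) (fun r _ _ => hA r) (fun r hr => hx r hr) (e.symm w)
      (q := q) ⟨u, hu, by rw [← map_smul, ← map_smul, huw, map_zero]⟩
    exact ⟨v, hv, e.symm.injective (by rw [map_smul, hvw, map_zero])⟩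
  have hxm : algebraMap A (Localization.AtPrime p) x ∈ maximalIdeal (Localization.AtPrime p) :=
    (IsLocalization.AtPrime.to_map_mem_maximal_iff _ p x).2 hxq
  rw [LocCoh.depth, LocCoh.idealDepth]
  split_ifs with htop
  · exact le_trans (min_le_left _ _) (WithBot.coe_le_coe.2 le_top)
  by_cases h2 : 2 ≤ n
  swap
  · refine le_trans (min_le_right _ _) (WithBot.coe_le_coe.2 ?_)
    refine le_trans ?_ (le_iSup₂_of_le [algebraMap A (Localization.AtPrime p) x]
      ⟨(RingTheory.Sequence.isWeaklyRegular_singleton_iff _ _).2 hreg, fun r hr => by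
        rwa [List.mem_singleton.1 hr]⟩ le_rfl)
    simp only [List.length_singleton]
    exact_mod_cast (show n ≤ 1 by lia)
  let B := A ⧸ LinearMap.range (x • (LinearMap.id : A →ₗ[A] A))
  have hB : ∀ r ∈ Module.support A B, r ≤ q → del hω r ≤ (d : ℤ) - 1 := fun r hr hrq => by
    have hxr : x ∈ r.asIdeal := Module.annihilator_le_of_mem_support hr (Module.mem_annihilator.2 fun w => by
      obtain ⟨w, rfl⟩ := Submodule.Quotient.mk_surjective _ w
      rw [← Submodule.Quotient.mk_smul]
      exact (Submodule.Quotient.mk_eq_zero _).2 ⟨w, rfl⟩)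
    have := hx' r hrq hxr; lia
  obtain ⟨y, hyq, hy⟩ := exists_avoid hω (M := B) hB (by lia)
  have hym : algebraMap A (Localization.AtPrime p) y ∈ maximalIdeal (Localization.AtPrime p) :=
    (IsLocalization.AtPrime.to_map_mem_maximal_iff _ p y).2 hyq
  obtain ⟨E⟩ := nonempty_localized_quot p W x (algebraMap A (Localization.AtPrime p) x) 1 (by simp)
  have hregy : IsSMulRegular (QuotSMulTop (algebraMap A (Localization.AtPrime p) x) (LocalizedModule p.primeCompl W))
      (algebraMap A (Localization.AtPrime p) y) := by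
    refine (E.isSMulRegular_congr _).1 (regular_localized p fun w => ?_)
    obtain ⟨w, rfl⟩ := Submodule.Quotient.mk_surjective _ w
    rintro ⟨u, hu, huw⟩
    rw [← Submodule.Quotient.mk_smul, ← Submodule.Quotient.mk_smul, Submodule.Quotient.mk_eq_zero] at huw
    obtain ⟨v, hv⟩ := huw
    obtain ⟨u', hu', v', hv'⟩ := regular_pair hω (q := q) (d := (d : ℤ)) (fun r _ => hA r) hx' hy (e.symm w)
      ⟨u, hu, e.symm v, by
        rw [← map_smul, ← map_smul]
        exact (congrArg e.symm hv.symm).trans (map_smul e.symm x v)⟩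
    refine ⟨u', hu', ?_⟩
    rw [← Submodule.Quotient.mk_smul, Submodule.Quotient.mk_eq_zero]
    refine ⟨e v', e.symm.injective ?_⟩
    show e.symm (x • e v') = e.symm (u' • w)
    rw [map_smul, map_smul, e.symm_apply_apply, hv']
  refine le_trans (min_le_left _ _) (WithBot.coe_le_coe.2 ?_)
  refine le_trans ?_ (le_iSup₂_of_le [algebraMap A (Localization.AtPrime p) x, algebraMap A (Localization.AtPrime p) y]
    ⟨RingTheory.Sequence.IsWeaklyRegular.cons hreg ((RingTheory.Sequence.isWeaklyRegular_singleton_iff _ _).2 hregy),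
      fun r hr => by
        rcases List.mem_cons.1 hr with rfl | hr
        · exact hxm
        · rwa [List.mem_singleton.1 hr]⟩ le_rfl)
  simp

end Local

end Groth.Agent.DualCx
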