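import Groth.Agent.DualCx.LocD
import Groth.Agent.DualCx.Criterion
import Groth.Agent.DualCx.Canonical
import Groth.Agent.DualCx.Regular
import Mathlib.RingTheory.Localization.Finiteness

/-!
Being dualizing is local on the spectrum.
-/

set_option autoImplicit false
set_option maxHeartbeats 1000000
universe u

namespace Groth.Agent.DualCx

open CategoryTheory Limits DerivedCategory Pretriangulated

attribute [local instance] HasDerivedCategory.standard

noncomputable section

variable {A : Type u} [CommRing A]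

theorem eq_top_of_local {I : Ideal A} (h : ∀ m : Ideal A, m.IsMaximal → ∃ s ∈ I, s ∉ m) : I = ⊤ := by
  by_contra hI
  obtain ⟨m, hm, hle⟩ := I.exists_le_maximal hI
  obtain ⟨s, hs, hsm⟩ := h m hm
  exact hsm (hle hs)

/-- The localization of a module in degree zero. -/
def locInD {B : Type u} [CommRing B] (φ : A →+* B) [PreservesFiniteLimits (ext φ)] (M : Type u) [AddCommGroup M]
    [Module A M] : (locD φ).obj (Dual.inD A M) ≅ Dual.inD B ((ext φ).obj (ModuleCat.of A M)) :=
  ((ext φ).mapDerivedCategorySingleFunctor 0).app (ModuleCat.of A M)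

theorem isLE_inD (M : Type u) [AddCommGroup M] [Module A M] : (Dual.inD A M).IsLE 0 := inferInstance

/-- Maps into the localized shift. -/
theorem exists_isGE_shift (L : Dual.D A) (a i : ℤ) [L.IsGE a] : (L⟦i⟧).IsGE (a - i) :=
  DerivedCategory.TStructure.t.isGE_shift L a i (a - i) (by lia)

variable [IsNoetherianRing A]

/-- Vanishing of morphisms is local. -/
theorem subsingleton_of_local {X L : Dual.D A} (c a : ℤ) [X.IsLE c] [L.IsGE a]
    (hX : ∀ i : ℤ, Module.Finite A (Dual.HD A X i))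
    (h : ∀ m : Ideal A, m.IsMaximal → ∃ S : Submonoid A, (∀ s ∈ S, s ∉ m) ∧
      Subsingleton ((locD (algebraMap A (Localization S))).obj X ⟶ (locD (algebraMap A (Localization S))).obj L)) :
    Subsingleton (X ⟶ L) := by
  refine subsingleton_of_forall_eq 0 fun g => ?_
  have h1 : LinearMap.ker (LinearMap.toSpanSingleton A (X ⟶ L) g) = ⊤ := eq_top_of_local fun m hm => by
    obtain ⟨S, hS, hss⟩ := h m hm
    obtain ⟨s, hs, hsg⟩ := exists_smul_eq_zero_of_locD (algebraMap A (Localization S)) S c a hX g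
      (@Subsingleton.elim _ hss _ _)
    exact ⟨s, hsg, hS s hs⟩
  have h2 : (1 : A) • g = 0 := (h1.symm ▸ Submodule.mem_top : (1 : A) ∈ LinearMap.ker (LinearMap.toSpanSingleton A (X ⟶ L) g))
  rwa [one_smul] at h2

theorem subsingleton_T_of_local (M : Type u) [AddCommGroup M] [Module A M] [Module.Finite A M] {L : Dual.D A} (a : ℤ)
    [L.IsGE a] (i : ℤ)
    (h : ∀ m : Ideal A, m.IsMaximal → ∃ S : Submonoid A, (∀ s ∈ S, s ∉ m) ∧
      Subsingleton (T ((locD (algebraMap A (Localization S))).obj L)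
        ((ext (algebraMap A (Localization S))).obj (ModuleCat.of A M)) i)) :
    Subsingleton (T L M i) := by
  haveI := exists_isGE_shift L a i
  refine subsingleton_of_local (X := Dual.inD A M) 0 (a - i) (finite_hd_inD M) fun m hm => ?_
  obtain ⟨S, hS, hss⟩ := h m hm
  exact ⟨S, hS, (Iso.homCongr (locInD (algebraMap A (Localization S)) M)
    (((locD (algebraMap A (Localization S))).commShiftIso i).app L)).subsingleton_congr.2 hss⟩

/-- A complex which is dualizing near every maximal ideal is dualizing. -/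
theorem isDualizing_of_local {K : Dual.D A} (hfin : ∀ i : ℤ, Module.Finite A (Dual.HD A K i))
    (c a : ℤ) [K.IsLE c] [K.IsGE a]
    (hinj : ∃ a b : ℤ, ∀ (M : Type u) [AddCommGroup M] [Module A M] (i : ℤ), (i < a ∨ b < i) →
      Subsingleton (Dual.inD A M ⟶ K⟦i⟧))
    (h : ∀ m : Ideal A, m.IsMaximal → ∃ S : Submonoid A, (∀ s ∈ S, s ∉ m) ∧
      Dual.IsDualizing (Localization S) ((locD (algebraMap A (Localization S))).obj K)) :
    Dual.IsDualizing A K := by
  refine ⟨inferInstance, hinj, hfin, ⟨fun x y hxy => ?_, fun f => ?_⟩, fun i hi => ?_⟩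
  · have h1 : LinearMap.ker (LinearMap.toSpanSingleton A A (x - y)) = ⊤ := eq_top_of_local fun m hm => by
      obtain ⟨S, hS, hd⟩ := h m hm
      let φ := algebraMap A (Localization S)
      have h2 : φ (x - y) • 𝟙 ((locD φ).obj K) = (0 : Localization S) • 𝟙 _ := by
        rw [zero_smul, ← locD_smul_id, sub_smul, show x • 𝟙 K = y • 𝟙 K from hxy, sub_self, Functor.map_zero]
      obtain ⟨s, hs⟩ := (IsLocalization.map_eq_zero_iff S (Localization S) _).1 (hd.toEnd_bijective.1 h2)
      exact ⟨s.1, hs, hS s.1 s.2⟩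
    have h2 : (1 : A) • (x - y) = 0 :=
      (h1.symm ▸ Submodule.mem_top : (1 : A) ∈ LinearMap.ker (LinearMap.toSpanSingleton A A (x - y)))
    rwa [one_smul, sub_eq_zero] at h2
  · let R := LinearMap.range (LinearMap.toSpanSingleton A (K ⟶ K) (𝟙 K))
    have h1 : Submodule.comap (LinearMap.toSpanSingleton A (K ⟶ K) f) R = ⊤ := eq_top_of_local fun m hm => by
      obtain ⟨S, hS, hd⟩ := h m hm
      let φ := algebraMap A (Localization S)
      obtain ⟨b, hb⟩ := hd.toEnd_bijective.2 ((locD φ).map f)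
      obtain ⟨⟨a', s⟩, hs⟩ := IsLocalization.surj S b
      have h2 : (locD φ).map ((s : A) • f - a' • 𝟙 K) = 0 := by
        rw [Functor.map_sub, locD_smul, locD_smul_id, ← hb, smul_smul, show φ a' = φ s * b from hs.symm.trans (mul_comm _ _),
          sub_self]
      obtain ⟨t, ht, htf⟩ := exists_smul_eq_zero_of_locD φ S c a hfin _ h2
      refine ⟨t * s, ⟨t * a', ?_⟩, hS _ (S.mul_mem ht s.2)⟩
      show (t * a') • 𝟙 K = (t * (s : A)) • f
      rw [smul_sub, sub_eq_zero] at htf
      rw [mul_smul, mul_smul, htf]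
    obtain ⟨u, hu⟩ := (h1.symm ▸ Submodule.mem_top : (1 : A) ∈ Submodule.comap (LinearMap.toSpanSingleton A (K ⟶ K) f) R)
    exact ⟨u, hu.trans (one_smul A f)⟩
  · haveI := exists_isGE_shift K a i
    refine subsingleton_of_local (X := K) c (a - i) hfin fun m hm => ?_
    obtain ⟨S, hS, hd⟩ := h m hm
    exact ⟨S, hS, (Iso.homCongr (Iso.refl _) (((locD (algebraMap A (Localization S))).commShiftIso i).app K)).subsingleton_congr.2
      (hd.ext_self_subsingleton i hi)⟩

omit [IsNoetherianRing A] in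
theorem bounded_of_dualizing {ω : Dual.D A} (hω : Dual.IsDualizing A ω) :
    ∃ a b : ℤ, ∀ i : ℤ, (i < a ∨ b < i) → Subsingleton (Dual.HD A ω i) := by
  obtain ⟨a, b, hab⟩ := hω.finite_injective_dimension
  exact ⟨a, b, fun i hi => (homEquiv ω i).toEquiv.subsingleton_congr.1 (hab A i hi)⟩

omit [IsNoetherianRing A] in
theorem isLE_isGE_of_bounded {K : Dual.D A} {a b : ℤ}
    (h : ∀ i : ℤ, (i < a ∨ b < i) → Subsingleton (Dual.HD A K i)) : K.IsLE b ∧ K.IsGE a :=
  ⟨(DerivedCategory.isLE_iff K b).2 fun i hi => by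
      haveI : Subsingleton ((DerivedCategory.homologyFunctor (ModuleCat.{u} A) i).obj K) := h i (Or.inr hi)
      exact ModuleCat.isZero_of_subsingleton _,
    isGE_of_low fun i hi => h i (Or.inl hi)⟩

/-- The form with derived base change at maximal ideals. -/
theorem isDualizing_of_localizations {K : Dual.D A} (hfin : ∀ i : ℤ, Module.Finite A (Dual.HD A K i))
    (hinj : ∃ a b : ℤ, ∀ (M : Type u) [AddCommGroup M] [Module A M] (i : ℤ), (i < a ∨ b < i) →
      Subsingleton (Dual.inD A M ⟶ K⟦i⟧))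
    (hloc : ∀ m : Ideal A, (hm : m.IsMaximal) → ∃ _ : DRing.HasLBaseChange (algebraMap A (Localization m.primeCompl)),
      Dual.IsDualizing (Localization m.primeCompl)
        ((DRing.LBaseChange (algebraMap A (Localization m.primeCompl))).obj K)) :
    Dual.IsDualizing A K := by
  obtain ⟨a, b, hab⟩ := id hinj
  obtain ⟨hle, hge⟩ := isLE_isGE_of_bounded (K := K) (a := a) (b := b) fun i hi =>
    (homEquiv K i).toEquiv.subsingleton_congr.1 (hab A i hi)
  haveI := hle
  haveI := hge
  refine isDualizing_of_local hfin b a hinj fun m hm => ⟨m.primeCompl, fun s hs => hs, ?_⟩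
  obtain ⟨hh, hd⟩ := hloc m hm
  exact isDualizing_of_iso (lBaseChangeObjIso _ K) hd

omit [IsNoetherianRing A] in
theorem mem_of_locHD {B : Type u} [CommRing B] (φ : A →+* B) [PreservesFiniteLimits (ext φ)] (S : Submonoid A)
    [IsLocMap φ S] {K : Dual.D A} {i : ℤ} (h : Subsingleton (Dual.HD B ((locD φ).obj K) i)) (x : Dual.HD A K i) :
    ∃ s ∈ S, s • x = 0 := by
  haveI : Subsingleton ((ext φ).obj ((DerivedCategory.homologyFunctor (ModuleCat.{u} A) i).obj K)) :=
    (locHD φ K i).toLinearEquiv.toEquiv.subsingleton_congr.1 h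
  exact exists_smul_eq_zero (φ := φ) S (M := (DerivedCategory.homologyFunctor (ModuleCat.{u} A) i).obj K)
    (Subsingleton.elim _ _)

omit [IsNoetherianRing A] in
theorem subsingleton_hd_of_local {K : Dual.D A} {i : ℤ}
    (h : ∀ m : Ideal A, m.IsMaximal → ∃ S : Submonoid A, (∀ s ∈ S, s ∉ m) ∧ ∀ x : Dual.HD A K i, ∃ s ∈ S, s • x = 0) :
    Subsingleton (Dual.HD A K i) := by
  refine subsingleton_of_forall_eq 0 fun x => ?_
  have h1 : LinearMap.ker (LinearMap.toSpanSingleton A (Dual.HD A K i) x) = ⊤ := eq_top_of_local fun m hm => by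
    obtain ⟨S, hS, hx⟩ := h m hm
    obtain ⟨s, hs, hsx⟩ := hx x
    exact ⟨s, hsx, hS s hs⟩
  have h2 : (1 : A) • x = 0 :=
    (h1.symm ▸ Submodule.mem_top : (1 : A) ∈ LinearMap.ker (LinearMap.toSpanSingleton A (Dual.HD A K i) x))
  rwa [one_smul] at h2

omit [IsNoetherianRing A] in
theorem exists_fg_local {B : Type u} [CommRing B] {φ : A →+* B} (S : Submonoid A) [IsLocMap φ S] (M : ModuleCat.{u} A)
    [Module.Finite B ((ext φ).obj M)] :
    ∃ N : Submodule A M, N.FG ∧ ∀ x : M, ∃ s ∈ S, s • x ∈ N := by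
  classical
  obtain ⟨G, hG⟩ := Module.finite_def.1 (inferInstance : Module.Finite B ((ext φ).obj M))
  choose sd hsd m hm using fun y : ((ext φ).obj M : Type u) => exists_unit1 (φ := φ) S y
  refine ⟨Submodule.span A (G.image m : Set M), ⟨_, rfl⟩, fun x => ?_⟩
  have h : ∀ y ∈ Submodule.span B (G : Set ((ext φ).obj M : Type u)),
      ∃ s ∈ S, ∃ z ∈ Submodule.span A (G.image m : Set M), φ s • y = unit1 φ M z := by
    intro y hy
    induction hy using Submodule.span_induction with
    | mem y hy => exact ⟨sd y, hsd y, m y, Submodule.subset_span (Finset.mem_image_of_mem m hy), hm y⟩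
    | zero => exact ⟨1, S.one_mem, 0, Submodule.zero_mem _, by rw [smul_zero, map_zero]⟩
    | add y y' _ _ hy hy' =>
      obtain ⟨s, hs, z, hz, hsy⟩ := hy
      obtain ⟨s', hs', z', hz', hsy'⟩ := hy'
      refine ⟨s * s', S.mul_mem hs hs', s' • z + s • z',
        Submodule.add_mem _ (Submodule.smul_mem _ s' hz) (Submodule.smul_mem _ s hz'), ?_⟩
      rw [map_add, unit1_smul, unit1_smul, smul_add, map_mul]
      congr 1
      · rw [mul_comm, mul_smul, hsy]
      · rw [mul_smul, hsy']
    | smul b y _ hy =>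
      obtain ⟨s, hs, z, hz, hsy⟩ := hy
      letI := φ.toAlgebra
      haveI : IsLocalization S B := IsLocMap.isLocalization (φ := φ)
      obtain ⟨⟨a, t⟩, ht⟩ := IsLocalization.surj S b
      refine ⟨(t : A) * s, S.mul_mem t.2 hs, a • z, Submodule.smul_mem _ a hz, ?_⟩
      rw [unit1_smul, ← hsy, smul_smul, smul_smul, map_mul, show φ a = φ t * b from ht.symm.trans (mul_comm _ _)]
      congr 1
      ring
  obtain ⟨s, hs, z, hz, hsx⟩ := h (unit1 φ M x) (hG.symm ▸ Submodule.mem_top)
  obtain ⟨t, ht, htx⟩ := exists_smul_eq_zero (φ := φ) S (m := s • x - z)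
    (by rw [map_sub, unit1_smul, hsx, sub_self])
  refine ⟨t * s, S.mul_mem ht hs, ?_⟩
  rw [smul_sub, sub_eq_zero] at htx
  rw [mul_smul, htx]
  exact Submodule.smul_mem _ t hz

theorem isDualizing_of_span {n : ℕ} (f : Fin n → A) (hf : Ideal.span (Set.range f) = ⊤) (K : Dual.D A)
    (h : ∀ k, Dual.IsDualizing (Localization.Away (f k)) ((locD (algebraMap A (Localization.Away (f k)))).obj K)) :
    Dual.IsDualizing A K := by
  have hcov : ∀ m : Ideal A, m.IsMaximal → ∃ k, ∀ s ∈ Submonoid.powers (f k), s ∉ m := fun m hm => by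
    obtain ⟨k, hk⟩ : ∃ k, f k ∉ m := by
      by_contra! hall
      exact hm.ne_top (top_le_iff.1 (hf.symm.trans_le (Ideal.span_le.2 (Set.range_subset_iff.2 hall))))
    refine ⟨k, ?_⟩
    rintro s ⟨j, rfl⟩ hs
    exact hk (hm.isPrime.mem_of_pow_mem j hs)
  choose lo hi hb using fun k => bounded_of_dualizing (h k)
  choose lo' hi' hb' using fun k => (h k).finite_injective_dimension
  obtain ⟨a, ha⟩ : ∃ a : ℤ, ∀ k, a ≤ lo k ∧ a ≤ lo' k :=
    ⟨-((∑ k, (lo k).natAbs + ∑ k, (lo' k).natAbs : ℕ) : ℤ), fun k => by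
      have h1 := Finset.single_le_sum (fun j _ => Nat.zero_le ((lo j).natAbs)) (Finset.mem_univ k)
      have h2 := Finset.single_le_sum (fun j _ => Nat.zero_le ((lo' j).natAbs)) (Finset.mem_univ k)
      lia⟩
  obtain ⟨b, hbb⟩ : ∃ b : ℤ, ∀ k, hi k ≤ b ∧ hi' k ≤ b :=
    ⟨((∑ k, (hi k).natAbs + ∑ k, (hi' k).natAbs : ℕ) : ℤ), fun k => by
      have h1 := Finset.single_le_sum (fun j _ => Nat.zero_le ((hi j).natAbs)) (Finset.mem_univ k)
      have h2 := Finset.single_le_sum (fun j _ => Nat.zero_le ((hi' j).natAbs)) (Finset.mem_univ k)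
      lia⟩
  have hbd : ∀ i : ℤ, (i < a ∨ b < i) → Subsingleton (Dual.HD A K i) := fun i hi0 =>
    subsingleton_hd_of_local fun m hm => by
      obtain ⟨k, hk⟩ := hcov m hm
      have := ha k; have := hbb k
      exact ⟨_, hk, mem_of_locHD (algebraMap A (Localization.Away (f k))) _ (hb k i (by lia))⟩
  obtain ⟨hle, hge⟩ := isLE_isGE_of_bounded hbd
  haveI := hle
  haveI := hge
  have hfin : ∀ i : ℤ, Module.Finite A (Dual.HD A K i) := fun i => by
    let M := (DerivedCategory.homologyFunctor (ModuleCat.{u} A) i).obj K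
    have hN' : ∀ k, ∃ N : Submodule A M, N.FG ∧ ∀ x : M, ∃ s ∈ Submonoid.powers (f k), s • x ∈ N := fun k => by
      haveI := (h k).finite_cohomology i
      haveI : Module.Finite (Localization.Away (f k)) ((ext (algebraMap A (Localization.Away (f k)))).obj M) :=
        Module.Finite.equiv (locHD (algebraMap A (Localization.Away (f k))) K i).toLinearEquiv
      exact exists_fg_local (φ := algebraMap A (Localization.Away (f k))) (Submonoid.powers (f k)) M
    choose N hN hNloc using hN'
    refine Module.finite_def.2 ?_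
    have htop : (⨆ k, N k) = ⊤ := eq_top_iff.2 fun x _ => by
      have h1 : Submodule.comap (LinearMap.toSpanSingleton A M x) (⨆ k, N k) = ⊤ := eq_top_of_local fun m hm => by
        obtain ⟨k, hk⟩ := hcov m hm
        obtain ⟨s, hs, hsx⟩ := hNloc k x
        exact ⟨s, (le_iSup N k hsx : s • x ∈ ⨆ k, N k), hk s hs⟩
      have h2 : (1 : A) • x ∈ ⨆ k, N k :=
        (h1.symm ▸ Submodule.mem_top : (1 : A) ∈ Submodule.comap (LinearMap.toSpanSingleton A M x) (⨆ k, N k))
      rwa [one_smul] at h2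
    exact htop ▸ Submodule.fg_iSup N hN
  have hamp : DRing.HasInjAmplitudeIn A a b K := (DRingKP.injAmp_iff K a b).2 fun I i hi0 =>
    subsingleton_T_of_local (A ⧸ I) a i fun m hm => by
      obtain ⟨k, hk⟩ := hcov m hm
      have := ha k; have := hbb k
      exact ⟨_, hk, hb' k _ i (by lia)⟩
  refine isDualizing_of_local hfin b a ⟨a, b, fun M _ _ i hi0 =>
    DRingKP.ext_eq_zero_of_amp hamp (ModuleCat.of A M) i hi0⟩ fun m hm => ?_
  obtain ⟨k, hk⟩ := hcov m hm
  exact ⟨_, hk, h k⟩

/-- The residual degree is bounded by a cohomological degree at a minimal prime and the dimension. -/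
theorem exists_degree_bound [IsLocalRing A] {ω : Dual.D A} (hω : Dual.IsDualizing A ω) {d : ℤ}
    (hd : ∀ i : ℤ, i ≠ d → Subsingleton (T ω (A ⧸ IsLocalRing.maximalIdeal A) i)) (r : Ideal A) (hr : r ∈ minimalPrimes A) :
    ∃ (j : ℤ) (e : ℕ), ringKrullDim (A ⧸ r) = e ∧ d = j + e ∧
      Nontrivial (LocalizedModule (Ideal.primeCompl r (hp := hr.1.1)) (Dual.HD A ω j)) := by
  have hν : Dual.IsDualizing A (ω⟦d⟧) := isDualizing_shift hω d
  have hn : Dual.IsNormalized A (ω⟦d⟧) := fun i hi =>
    (shiftT ω (Dual.inD A (A ⧸ IsLocalRing.maximalIdeal A)) d i (d + i) rfl).toEquiv.subsingleton_congr.2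
      (hd (d + i) (by lia))
  haveI := hr.1.1
  let R : PrimeSpectrum A := ⟨r, hr.1.1⟩
  have hdim := ringKrullDim_quotient_eq hν hn R
  have hle := del_le hν (show R ≤ IsLocalRing.closedPoint A from IsLocalRing.le_maximalIdeal hr.1.1.ne_top)
  rw [del_closed hν hn] at hle
  refine ⟨d + (-del hν R), (del hν R).toNat, hdim, by lia, ?_⟩
  have h1 := (nontrivial_hd_minimal_iff hν r hr (-del hν R)).2 rfl
  let e : Dual.HD A (ω⟦d⟧) (-del hν R) ≃ₗ[A] Dual.HD A ω (d + -del hν R) :=
    (((DerivedCategory.homologyFunctor (ModuleCat.{u} A) 0).shiftIso d (-del hν R) (d + -del hν R) rfl).app ω).toLinearEquiv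
  rw [← not_subsingleton_iff_nontrivial] at h1 ⊢
  intro h2
  refine h1 (LocalizedModule.subsingleton_iff.2 fun x => ?_)
  obtain ⟨u, hu, hux⟩ := LocalizedModule.subsingleton_iff.1 h2 (e x)
  exact ⟨u, hu, e.injective (by rw [map_smul, hux, map_zero])⟩

end

end Groth.Agent.DualCx
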