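import Groth.Agent.DualCx.Bidual
import Mathlib.Algebra.Module.Torsion.Basic
import Mathlib.RingTheory.SimpleModule.Basic
import Mathlib.LinearAlgebra.Basis.VectorSpace

/-!
At a maximal ideal `Hom_D(A/m, ω[i])` is `A/m` in one degree and zero otherwise.
-/

set_option autoImplicit false
set_option maxHeartbeats 1000000
universe u

namespace Groth.Agent.DualCx

open CategoryTheory Limits DerivedCategory Pretriangulated Opposite

attribute [local instance] HasDerivedCategory.standard

noncomputable section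

variable {A : Type u} [CommRing A]

/-- A functional on a module killed by a maximal ideal, one at a point outside a submodule. -/
theorem exists_functional {m : Ideal A} [m.IsMaximal] {X : Type u} [AddCommGroup X] [Module A X]
    (hX : ∀ a ∈ m, ∀ x : X, a • x = 0) (B : Submodule A X) {z : X} (hz : z ∉ B) :
    ∃ π : X →ₗ[A] A ⧸ m, (∀ b ∈ B, π b = 0) ∧ π z = Submodule.Quotient.mk 1 := by
  letI : Field (A ⧸ m) := Ideal.Quotient.field m
  have hQ : Module.IsTorsionBySet A (X ⧸ B) (m : Set A) := fun w a => by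
    obtain ⟨x, rfl⟩ := Submodule.Quotient.mk_surjective _ w
    rw [← Submodule.Quotient.mk_smul, hX a a.2 x, Submodule.Quotient.mk_zero]
  letI := hQ.module
  haveI := hQ.isScalarTower (S := A)
  have hz0 : (Submodule.Quotient.mk z : X ⧸ B) ≠ 0 := fun h => hz ((Submodule.Quotient.mk_eq_zero B).1 h)
  let f := LinearMap.toSpanSingleton (A ⧸ m) (X ⧸ B) (Submodule.Quotient.mk z)
  have hf : LinearMap.ker f = ⊥ := LinearMap.ker_toSpanSingleton (A ⧸ m) hz0
  obtain ⟨g, hg⟩ := f.exists_leftInverse_of_injective hf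
  refine ⟨(g.restrictScalars A).comp B.mkQ, fun b hb => ?_, ?_⟩
  · show g (B.mkQ b) = 0
    rw [show B.mkQ b = 0 from (Submodule.Quotient.mk_eq_zero B).2 hb, map_zero]
  · have h1 := LinearMap.congr_fun hg 1
    show g (Submodule.Quotient.mk z) = _
    rw [LinearMap.comp_apply, LinearMap.toSpanSingleton_apply, one_smul] at h1
    exact h1

variable {ω : Dual.D A}

/-- The single complex. -/
abbrev sgl (M : Type u) [AddCommGroup M] [Module A M] (n : ℤ) : CochainComplex (ModuleCat.{u} A) ℤ :=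
  (HomologicalComplex.single (ModuleCat.{u} A) (ComplexShape.up ℤ) n).obj (ModuleCat.of A M)

variable (R : Rep ω) (M : Type u) [AddCommGroup M] [Module A M] (n : ℤ)

/-- Morphisms to `ω[n]` as morphisms from the single complex in degree `n`. -/
def Rep.theta : T ω M n →ₗ[A] (DerivedCategory.Q.obj (sgl M n) ⟶ DerivedCategory.Q.obj R.J) :=
  (Linear.rightComp A _ R.iso.inv).comp
    ((Linear.rightComp A _ ((shiftFunctorCompIsoId (Dual.D A) n (-n) (by lia)).hom.app ω)).comp
      ((Linear.leftComp A _ (((DerivedCategory.singleFunctorIsoCompQ (ModuleCat.{u} A) n).app (ModuleCat.of A M)).symm ≪≫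
          (DRingKP.singleShiftIso (ModuleCat.of A M) n).symm).hom).comp
        (Functor.mapLinearMap A (shiftFunctor (Dual.D A) (-n)))))

theorem Rep.theta_bijective : Function.Bijective (R.theta M n) := by
  have h1 : ∀ {X Y Z : Dual.D A} (e : X ≅ Y), Function.Bijective (fun g : Y ⟶ Z => e.hom ≫ g) := fun e =>
    ⟨fun a b h => (cancel_epi e.hom).1 h, fun g => ⟨e.inv ≫ g, e.hom_inv_id_assoc g⟩⟩
  have h2 : ∀ {X Y Z : Dual.D A} (e : X ≅ Y), Function.Bijective (fun g : Z ⟶ X => g ≫ e.hom) := fun e =>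
    ⟨fun a b h => (cancel_mono e.hom).1 h, fun g => ⟨g ≫ e.inv, by simp⟩⟩
  exact ((h2 R.iso.symm).comp (h2 ((shiftFunctorCompIsoId (Dual.D A) n (-n) (by lia)).app ω))).comp
    ((h1 _).comp ((Functor.FullyFaithful.ofFullyFaithful (shiftFunctor (Dual.D A) (-n))).map_bijective _ _))

variable {M n}

theorem Rep.exists_not_exact (x : T ω M n) (hx : x ≠ 0) :
    ∃ z : ModuleCat.of A M ⟶ R.J.X n, z ≫ R.J.d n (n + 1) = 0 ∧ ∀ w, w ≫ R.J.d (n - 1) n ≠ z := by
  haveI := R.isKInjective
  obtain ⟨φ, hφ⟩ := DRingKP.exists_lift_inj (R.theta M n x)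
  refine ⟨(HomologicalComplex.singleObjXSelf (ComplexShape.up ℤ) n _).inv ≫ φ.f n, ?_, fun w hw => hx ?_⟩
  · rw [Category.assoc, φ.comm, (HomologicalComplex.isZero_single_obj_X (ComplexShape.up ℤ) n (ModuleCat.of A M) (n + 1)
      (by lia)).eq_of_tgt ((sgl M n).d n (n + 1)) 0, zero_comp, comp_zero]
  · refine (R.theta_bijective M n).1 (?_ : R.theta M n x = R.theta M n 0)
    rw [map_zero, ← hφ]
    let ho : Homotopy φ 0 :=
      { hom := fun i j => if h : i = n ∧ j = n - 1 then
          ((sgl M n).XIsoOfEq h.1).hom ≫ (HomologicalComplex.singleObjXSelf (ComplexShape.up ℤ) n _).hom ≫ w ≫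
            (R.J.XIsoOfEq h.2.symm).hom else 0
        zero := fun i j hij => by
          rw [dif_neg]
          rintro ⟨rfl, rfl⟩
          exact hij (by simp)
        comm := fun i => by
          by_cases hi : i = n
          · subst hi
            rw [dNext_eq _ (show (ComplexShape.up ℤ).Rel i (i + 1) from rfl),
              prevD_eq _ (show (ComplexShape.up ℤ).Rel (i - 1) i by simp), dif_pos (show i = i ∧ i - 1 = i - 1 from ⟨rfl, rfl⟩),
              (HomologicalComplex.isZero_single_obj_X (ComplexShape.up ℤ) i (ModuleCat.of A M) (i + 1) (by lia)).eq_of_tgt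
                ((sgl M i).d i (i + 1)) 0]
            simp [hw]
          · exact (HomologicalComplex.isZero_single_obj_X (ComplexShape.up ℤ) n (ModuleCat.of A M) i hi).eq_of_src _ _ }
    rw [DerivedCategory.Q_map_eq_of_homotopy _ ho, Functor.map_zero]

theorem Rep.exists_ne_zero (z : ModuleCat.of A M ⟶ R.J.X n) (hz : z ≫ R.J.d n (n + 1) = 0)
    (hne : ∀ w, w ≫ R.J.d (n - 1) n ≠ z) : Nontrivial (T ω M n) := by
  haveI := R.isKInjective
  let φ : sgl M n ⟶ R.J := HomologicalComplex.mkHomFromSingle z (fun j hj => by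
    obtain rfl : n + 1 = j := hj
    exact hz)
  by_contra hT
  rw [not_nontrivial_iff_subsingleton] at hT
  obtain ⟨x, hx⟩ := (R.theta_bijective M n).2 (DerivedCategory.Q.map φ)
  rw [Subsingleton.elim x 0, map_zero] at hx
  obtain ⟨ho⟩ := DRingKP.exists_homotopy_inj φ hx.symm
  refine hne ((HomologicalComplex.singleObjXSelf (ComplexShape.up ℤ) n _).inv ≫ ho.hom n (n - 1)) ?_
  have := congrArg ((HomologicalComplex.singleObjXSelf (ComplexShape.up ℤ) n (ModuleCat.of A M)).inv ≫ ·) (ho.comm n)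
  simp only [φ, HomologicalComplex.mkHomFromSingle_f, Iso.inv_hom_id_assoc] at this
  rw [this, dNext_eq _ (show (ComplexShape.up ℤ).Rel n (n + 1) from rfl),
    prevD_eq _ (show (ComplexShape.up ℤ).Rel (n - 1) n by simp),
    (HomologicalComplex.isZero_single_obj_X (ComplexShape.up ℤ) n (ModuleCat.of A M) (n + 1) (by lia)).eq_of_src
      (ho.hom (n + 1) n) 0]
  simp

section Residue

variable [IsNoetherianRing A] (hω : Dual.IsDualizing A ω) (m : Ideal A) [m.IsMaximal]

omit [IsNoetherianRing A] in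
theorem Rep.exists_retract {n : ℤ} (h : Nontrivial (T ω (A ⧸ m) n)) :
    ∃ (s : sgl (A ⧸ m) n ⟶ R.D (A ⧸ m)) (p : R.D (A ⧸ m) ⟶ sgl (A ⧸ m) n), s ≫ p = 𝟙 _ := by
  obtain ⟨x, hx⟩ := exists_ne (0 : T ω (A ⧸ m) n)
  obtain ⟨z, hz, hne⟩ := R.exists_not_exact x hx
  have hX : ∀ a ∈ m, ∀ φ : (R.D (A ⧸ m)).X n, a • φ = 0 := fun a ha (φ : ModuleCat.of A (A ⧸ m) ⟶ R.J.X n) =>
    ModuleCat.hom_ext (LinearMap.ext fun (w : A ⧸ m) => by
      show a • φ.hom w = 0
      obtain ⟨c, rfl⟩ := Submodule.Quotient.mk_surjective _ w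
      rw [← map_smul, show a • (Submodule.Quotient.mk c : A ⧸ m) = 0 from
        (Submodule.Quotient.mk_eq_zero m).2 (m.mul_mem_right c ha), map_zero])
  obtain ⟨π, hπ, hπz⟩ := exists_functional hX (LinearMap.range ((R.D (A ⧸ m)).d (n - 1) n).hom) (z := z)
    (fun ⟨w, hw⟩ => hne w hw)
  let p : R.D (A ⧸ m) ⟶ sgl (A ⧸ m) n := HomologicalComplex.mkHomToSingle (ModuleCat.ofHom π) (fun i hi => by
    obtain rfl : n - 1 = i := by
      have : i + 1 = n := hi
      omega
    exact ModuleCat.hom_ext (LinearMap.ext fun w => hπ _ ⟨w, rfl⟩))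
  let σ : (A ⧸ m) →ₗ[A] (R.D (A ⧸ m)).X n :=
    m.liftQ (LinearMap.toSpanSingleton A _ (z : (R.D (A ⧸ m)).X n)) (fun a ha => hX a ha z)
  let s : sgl (A ⧸ m) n ⟶ R.D (A ⧸ m) := HomologicalComplex.mkHomFromSingle (ModuleCat.ofHom σ) (fun j hj => by
    obtain rfl : n + 1 = j := hj
    refine ModuleCat.hom_ext (LinearMap.ext fun w => ?_)
    obtain ⟨a, rfl⟩ := Submodule.Quotient.mk_surjective _ w
    show (a • z) ≫ R.J.d n (n + 1) = 0
    rw [Linear.smul_comp, hz, smul_zero])
  refine ⟨s, p, HomologicalComplex.from_single_hom_ext ?_⟩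
  simp only [s, p, HomologicalComplex.comp_f, HomologicalComplex.mkHomFromSingle_f,
    HomologicalComplex.mkHomToSingle_f, HomologicalComplex.id_f, Category.assoc, Category.comp_id]
  have hσπ : ModuleCat.ofHom σ ≫ ModuleCat.ofHom π = 𝟙 _ :=
    ModuleCat.hom_ext (Submodule.linearMap_qext _ (LinearMap.ext_ring (by
      show π ((1 : A) • (z : (R.D (A ⧸ m)).X n)) = Submodule.Quotient.mk 1
      rw [one_smul]; exact hπz)))
  erw [reassoc_of% hσπ]
  simp

include hω

/-- The degree and size of `Hom_D(A/m, ω[i])`. -/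
theorem residue_spec (R : Rep ω) :
    ∃ n : ℤ, (∀ i : ℤ, i ≠ n → Subsingleton (T ω (A ⧸ m) i)) ∧ Nonempty (T ω (A ⧸ m) n ≃ₗ[A] (A ⧸ m)) := by
  letI : Field (A ⧸ m) := Ideal.Quotient.field m
  let η := LinearEquiv.ofBijective (R.eta (A ⧸ m)) (R.eta_bijective hω (A ⧸ m))
  let τ : (DerivedCategory.Q.obj (R.D (A ⧸ m)) ⟶ DerivedCategory.Q.obj R.J) →ₗ[A] R.G (A ⧸ m) 0 :=
    (Linear.rightComp A _ ((shiftFunctorZero (Dual.D A) ℤ).inv.app ω)).comp (Linear.rightComp A _ R.iso.hom)
  have hτ : Function.Injective τ := fun a b h =>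
    (cancel_mono R.iso.hom).1 ((cancel_mono ((shiftFunctorZero (Dual.D A) ℤ).inv.app ω)).1 h)
  obtain ⟨n, hn⟩ : ∃ n, Nontrivial (T ω (A ⧸ m) n) := by
    by_contra hall
    push Not at hall
    have hac : ∀ i, (R.D (A ⧸ m)).ExactAt i := fun i => by
      rw [HomologicalComplex.exactAt_iff' _ (i - 1) i (i + 1) (by simp) (by simp)]
      refine (ShortComplex.moduleCat_exact_iff _).2 fun (z : ModuleCat.of A (A ⧸ m) ⟶ R.J.X i) hz => ?_
      by_contra hw
      push Not at hw
      exact not_nontrivial_iff_subsingleton.2 (hall i) (R.exists_ne_zero z hz fun w => hw w)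
    have hz : IsZero (DerivedCategory.Q.obj (R.D (A ⧸ m))) := by
      haveI : (DerivedCategory.Q.obj (R.D (A ⧸ m))).IsLE (-1) := (DerivedCategory.isLE_iff _ (-1)).2 fun i _ =>
        ((HomologicalComplex.exactAt_iff_isZero_homology _ _).1 (hac i)).of_iso
          ((DerivedCategory.homologyFunctorFactors (ModuleCat.{u} A) i).app _)
      haveI : (DerivedCategory.Q.obj (R.D (A ⧸ m))).IsGE 0 := (DerivedCategory.isGE_iff _ 0).2 fun i _ =>
        ((HomologicalComplex.exactAt_iff_isZero_homology _ _).1 (hac i)).of_iso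
          ((DerivedCategory.homologyFunctorFactors (ModuleCat.{u} A) i).app _)
      exact DerivedCategory.TStructure.t.isZero _ (-1) 0 (by lia)
    have h1 : Subsingleton (R.G (A ⧸ m) 0) := ⟨fun a b => hz.eq_of_src a b⟩
    exact zero_ne_one (α := A ⧸ m) (η.injective (Subsingleton.elim _ _))
  refine ⟨n, fun i hi => ?_, ?_⟩
  · rw [← not_nontrivial_iff_subsingleton]
    intro hi'
    obtain ⟨s, p, hsp⟩ := R.exists_retract m hn
    obtain ⟨s', p', hsp'⟩ := R.exists_retract m hi'
    obtain ⟨x, hx⟩ := exists_ne (0 : T ω (A ⧸ m) n)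
    obtain ⟨x', hx'⟩ := exists_ne (0 : T ω (A ⧸ m) i)
    let y := τ (DerivedCategory.Q.map p ≫ R.theta _ n x)
    let y' := τ (DerivedCategory.Q.map p' ≫ R.theta _ i x')
    obtain ⟨c, hc⟩ : ∃ c : A, c • y' = y := by
      have hy' : η.symm y' ≠ 0 := fun h => by
        have h1 : DerivedCategory.Q.map p' ≫ R.theta _ i x' = 0 := hτ (by
          rw [map_zero]; exact η.symm.injective (by rw [map_zero]; exact h))
        have h2 := congrArg (DerivedCategory.Q.map s' ≫ ·) h1
        simp only [← Category.assoc, ← Functor.map_comp, hsp', comp_zero] at h2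
        rw [CategoryTheory.Functor.map_id, Category.id_comp] at h2
        exact hx' ((R.theta_bijective _ i).1 (h2.trans (map_zero _).symm))
      obtain ⟨c, hc⟩ := Ideal.Quotient.mk_surjective (η.symm y / η.symm y')
      refine ⟨c, η.symm.injective ?_⟩
      rw [map_smul, Algebra.smul_def, Ideal.Quotient.algebraMap_eq, hc, div_mul_cancel₀ _ hy']
    have h3 : DerivedCategory.Q.map p ≫ R.theta _ n x = c • (DerivedCategory.Q.map p' ≫ R.theta _ i x') :=
      hτ (by rw [map_smul]; exact hc.symm)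
    have h4 := congrArg (DerivedCategory.Q.map s ≫ ·) h3
    have h5 : s ≫ p' = 0 := HomologicalComplex.hom_ext _ _ fun j => by
      by_cases hj : j = n
      · subst hj; exact (HomologicalComplex.isZero_single_obj_X (ComplexShape.up ℤ) i (ModuleCat.of A (A ⧸ m)) j (by lia)).eq_of_tgt _ _
      · exact (HomologicalComplex.isZero_single_obj_X (ComplexShape.up ℤ) n (ModuleCat.of A (A ⧸ m)) j hj).eq_of_src _ _
    simp only [Linear.comp_smul, ← Category.assoc, ← Functor.map_comp, hsp, h5, Functor.map_zero, zero_comp,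
      smul_zero, CategoryTheory.Functor.map_id, Category.id_comp] at h4
    exact hx ((R.theta_bijective _ n).1 (h4.trans (map_zero _).symm))
  · obtain ⟨s, p, hsp⟩ := R.exists_retract m hn
    let Φ : T ω (A ⧸ m) n →ₗ[A] A ⧸ m :=
      η.symm.toLinearMap.comp (τ.comp ((Linear.leftComp A _ (DerivedCategory.Q.map p)).comp (R.theta _ n)))
    have hΦ : Function.Injective Φ := by
      refine η.symm.injective.comp (hτ.comp fun a b h => (R.theta_bijective _ n).1 ?_)
      have h2 := congrArg (DerivedCategory.Q.map s ≫ ·) h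
      simp only [LinearMap.comp_apply, Linear.leftComp_apply] at h2
      simp only [← Category.assoc, ← Functor.map_comp, hsp, CategoryTheory.Functor.map_id, Category.id_comp] at h2
      exact h2
    obtain ⟨x, hx⟩ := exists_ne (0 : T ω (A ⧸ m) n)
    refine ⟨LinearEquiv.ofBijective Φ ⟨hΦ, fun y => ?_⟩⟩
    have hΦx : Φ x ≠ 0 := fun h => hx (hΦ (h.trans (map_zero Φ).symm))
    obtain ⟨c, hc⟩ := Ideal.Quotient.mk_surjective (y / Φ x)
    exact ⟨c • x, by rw [map_smul, Algebra.smul_def, Ideal.Quotient.algebraMap_eq, hc, div_mul_cancel₀ _ hΦx]⟩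

end Residue

end

end Groth.Agent.DualCx
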