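import Groth.Agent.DualCx.Van
import Groth.Agent.DualCx.Residue
import Mathlib.RingTheory.Ideal.KrullsHeightTheorem
import Mathlib.RingTheory.KrullDimension.Basic

/-!
The dimension function of a dualizing complex.
-/

set_option autoImplicit false
set_option maxHeartbeats 1000000
universe u

namespace Groth.Agent.DualCx

open CategoryTheory Limits DerivedCategory Pretriangulated

attribute [local instance] HasDerivedCategory.standard

noncomputable section

variable {A : Type u} [CommRing A]

/-- Multiplication by an element outside a prime, on the quotient. -/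
theorem ses_mul {p : Ideal A} [hp : p.IsPrime] {x : A} (hx : x ∉ p) :
    SES (x • (LinearMap.id : (A ⧸ p) →ₗ[A] (A ⧸ p))) (LinearMap.range (x • (LinearMap.id : (A ⧸ p) →ₗ[A] (A ⧸ p)))).mkQ := by
  refine ses_range (fun a b hab => ?_)
  obtain ⟨a, rfl⟩ := Submodule.Quotient.mk_surjective p a
  obtain ⟨b, rfl⟩ := Submodule.Quotient.mk_surjective p b
  have h1 : (Submodule.Quotient.mk (x * a) : A ⧸ p) = Submodule.Quotient.mk (x * b) := hab
  rw [Submodule.Quotient.eq, ← mul_sub] at h1
  exact (Submodule.Quotient.eq p).2 ((hp.mem_or_mem h1).resolve_left hx)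

theorem mem_of_mem_support_quot {p : Ideal A} {x : A} {r : PrimeSpectrum A}
    (hr : r ∈ Module.support A ((A ⧸ p) ⧸ LinearMap.range (x • (LinearMap.id : (A ⧸ p) →ₗ[A] (A ⧸ p))))) :
    p ≤ r.asIdeal ∧ x ∈ r.asIdeal := by
  rw [Module.support_eq_zeroLocus, PrimeSpectrum.mem_zeroLocus] at hr
  refine ⟨fun a ha => hr (Module.mem_annihilator.2 fun w => ?_), hr (Module.mem_annihilator.2 fun w => ?_)⟩
  · obtain ⟨w, rfl⟩ := Submodule.Quotient.mk_surjective _ w
    obtain ⟨b, rfl⟩ := Submodule.Quotient.mk_surjective _ w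
    rw [← Submodule.Quotient.mk_smul, ← Submodule.Quotient.mk_smul, smul_eq_mul,
      (Submodule.Quotient.mk_eq_zero _).2 (p.mul_mem_right b ha), Submodule.Quotient.mk_zero]
  · obtain ⟨w, rfl⟩ := Submodule.Quotient.mk_surjective _ w
    rw [← Submodule.Quotient.mk_smul]
    exact (Submodule.Quotient.mk_eq_zero _).2 ⟨w, rfl⟩

variable [IsNoetherianRing A]

theorem wellFoundedLT_spec : WellFoundedLT (PrimeSpectrum A) :=
  StrictMono.wellFoundedLT (f := fun p : PrimeSpectrum A => p.asIdeal.height)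
    fun _ _ h => Ideal.height_strict_mono_of_isPrime_of_isPrime h

theorem wellFoundedGT_spec : WellFoundedGT (PrimeSpectrum A) :=
  StrictMono.wellFoundedGT (f := fun p : PrimeSpectrum A => p.asIdeal) fun _ _ h => h

theorem exists_covBy_le {p r : PrimeSpectrum A} (h : p < r) : ∃ s, p ⋖ s ∧ s ≤ r := by
  haveI := wellFoundedLT_spec (A := A)
  obtain ⟨s, ⟨hs, hsr⟩, hmin⟩ :=
    (wellFounded_lt (α := PrimeSpectrum A)).has_min {s | p < s ∧ s ≤ r} ⟨r, h, le_rfl⟩
  exact ⟨s, ⟨hs, fun t ht hts => hmin t ⟨ht, hts.le.trans hsr⟩ hts⟩, hsr⟩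

variable {ω : Dual.D A} (hω : Dual.IsDualizing A ω)
include hω

theorem exists_not_van (p : PrimeSpectrum A) : ∃ i, ¬ Van ω p.asIdeal (A ⧸ p.asIdeal) i := by
  by_contra! hp
  have hall : ∀ q : PrimeSpectrum A, q ≤ p → ∀ i, Van ω p.asIdeal (A ⧸ q.asIdeal) i := by
    haveI := wellFoundedGT_spec (A := A)
    intro q
    induction q using (wellFounded_gt (α := PrimeSpectrum A)).induction with
    | h q ih =>
      intro hqp i
      rcases hqp.eq_or_lt with rfl | hlt
      · exact hp i
      obtain ⟨x, hxp, hxq⟩ := SetLike.exists_of_lt (show _ < PrimeSpectrum.asIdeal _ from hlt)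
      haveI := finite_T hω (A ⧸ q.asIdeal) i
      refine van_of_quot hxp (ses_mul hxq) rfl (van_of_primes _ fun r hr hrp => ?_)
      obtain ⟨h1, h2⟩ := mem_of_mem_support_quot hr
      exact ih r (lt_of_le_of_ne h1 fun h => hxq (h.symm ▸ h2)) hrp _
  have hA : ∀ i, Van ω p.asIdeal A i := fun i => van_of_primes A fun q _ hq => hall q hq i
  have hk : ∀ i, ∃ u ∉ p.asIdeal, ∀ w : Dual.HD A ω i, u • w = 0 := by
    intro i
    haveI := hω.finite_cohomology i
    haveI : Subsingleton (LocalizedModule p.asIdeal.primeCompl (Dual.HD A ω i)) :=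
      LocalizedModule.subsingleton_iff.2 fun w => by
        obtain ⟨u, hu, hux⟩ := hA i ((homEquiv ω i).symm w)
        exact ⟨u, hu, (homEquiv ω i).symm.injective (by rw [map_smul, hux, map_zero])⟩
    have h1 : ¬ Module.annihilator A (Dual.HD A ω i) ≤ p.asIdeal := fun h =>
      Module.notMem_support_iff.2 inferInstance (Module.mem_support_iff_of_finite.2 h)
    obtain ⟨u, h, hu⟩ := SetLike.not_le_iff_exists.1 h1
    exact ⟨u, hu, Module.mem_annihilator.1 h⟩
  choose u hu hkill using hk
  obtain ⟨a, b, hab⟩ := exists_bound hω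
  have hz : ∀ i, (i < a ∨ b < i) → IsZero ((DerivedCategory.homologyFunctor (ModuleCat.{u} A) i).obj ω) := by
    intro i hi
    haveI : Subsingleton (T ω A i) := hab A i hi
    exact @ModuleCat.isZero_of_subsingleton _ _ _ (homEquiv ω i).symm.toEquiv.subsingleton
  obtain ⟨n, hn⟩ := exists_pow_smul_id (∏ i ∈ Finset.Icc a b, u i) a b ω hz fun i w => by
    by_cases hi : i ∈ Finset.Icc a b
    · obtain ⟨c, hc⟩ := Finset.dvd_prod_of_mem u hi
      rw [hc, mul_comm, mul_smul, hkill, smul_zero]
    · haveI := ModuleCat.subsingleton_of_isZero (hz i (by simp only [Finset.mem_Icc] at hi; lia))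
      exact Subsingleton.elim _ _
  have h0 : (∏ i ∈ Finset.Icc a b, u i) ^ n = (0 : A) := hω.toEnd_bijective.1 (hn.trans (zero_smul A _).symm)
  have h1 : (∏ i ∈ Finset.Icc a b, u i) ∈ p.asIdeal := p.isPrime.mem_of_pow_mem n (h0 ▸ p.asIdeal.zero_mem)
  obtain ⟨i, -, hi⟩ := p.isPrime.prod_mem_iff.1 h1
  exact hu i hi

theorem not_van_succ {p q : PrimeSpectrum A} (h : p ⋖ q) {i : ℤ} (hv : ¬ Van ω p.asIdeal (A ⧸ p.asIdeal) i) :
    ¬ Van ω q.asIdeal (A ⧸ q.asIdeal) (i + 1) := by
  intro hv'
  obtain ⟨x, hxq, hxp⟩ := SetLike.exists_of_lt (show p.asIdeal < q.asIdeal from h.lt)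
  haveI := finite_T hω (A ⧸ p.asIdeal) i
  refine hv (van_mono h.lt.le (van_of_quot hxq (ses_mul hxp) rfl (van_of_primes _ fun r hr hrq => ?_)))
  obtain ⟨h1, h2⟩ := mem_of_mem_support_quot hr
  have hpr : p < r := lt_of_le_of_ne h1 fun he => hxp (he.symm ▸ h2)
  rcases (show r ≤ q from hrq).eq_or_lt with rfl | hlt
  · exact hv'
  · exact absurd hlt (h.2 hpr)

theorem existsUnique_not_van (p : PrimeSpectrum A) : ∃! i, ¬ Van ω p.asIdeal (A ⧸ p.asIdeal) i := by
  haveI := wellFoundedGT_spec (A := A)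
  induction p using (wellFounded_gt (α := PrimeSpectrum A)).induction with
  | h p ih =>
    obtain ⟨i, hi⟩ := exists_not_van hω p
    refine ⟨i, hi, fun j hj => ?_⟩
    by_cases hm : p.asIdeal.IsMaximal
    · obtain ⟨R⟩ := nonempty_rep hω
      obtain ⟨n, hn, -⟩ := residue_spec hω p.asIdeal R
      have : ∀ k, ¬ Van ω p.asIdeal (A ⧸ p.asIdeal) k → k = n := fun k hk => by
        by_contra h
        exact hk (van_of_subsingleton p.isPrime.ne_top (hn k h))
      rw [this i hi, this j hj]
    · obtain ⟨m, hmax, hle⟩ := Ideal.exists_le_maximal p.asIdeal p.isPrime.ne_top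
      obtain ⟨s, hs, -⟩ := exists_covBy_le (show p < ⟨m, hmax.isPrime⟩ from
        lt_of_le_of_ne (show p.asIdeal ≤ m from hle) fun he => hm (by rw [he]; exact hmax))
      have := (ih s hs.lt).unique (not_van_succ hω hs hj) (not_van_succ hω hs hi)
      lia

/-- The dimension function. -/
def del (p : PrimeSpectrum A) : ℤ := -(existsUnique_not_van hω p).choose

theorem not_van_del (p : PrimeSpectrum A) : ¬ Van ω p.asIdeal (A ⧸ p.asIdeal) (-del hω p) := by
  rw [del, neg_neg]; exact (existsUnique_not_van hω p).choose_spec.1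

theorem not_van_iff (p : PrimeSpectrum A) (i : ℤ) : ¬ Van ω p.asIdeal (A ⧸ p.asIdeal) i ↔ i = -del hω p :=
  ⟨fun h => (existsUnique_not_van hω p).unique h (not_van_del hω p), fun h => h ▸ not_van_del hω p⟩

theorem del_covBy {p q : PrimeSpectrum A} (h : p ⋖ q) : del hω p = del hω q + 1 := by
  have := (not_van_iff hω q _).1 (not_van_succ hω h (not_van_del hω p))
  lia

theorem del_lt {p r : PrimeSpectrum A} (h : p < r) : del hω r < del hω p := by
  haveI := wellFoundedGT_spec (A := A)
  revert h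
  induction p using (wellFounded_gt (α := PrimeSpectrum A)).induction with
  | h p ih =>
    intro h
    obtain ⟨s, hs, hsr⟩ := exists_covBy_le h
    have := del_covBy hω hs
    rcases hsr.eq_or_lt with rfl | hlt
    · lia
    · have := ih s hs.lt hlt; lia

theorem del_le {p r : PrimeSpectrum A} (h : p ≤ r) : del hω r ≤ del hω p := by
  rcases h.eq_or_lt with rfl | h
  · exact le_rfl
  · exact (del_lt hω h).le

theorem van_prime {p q : PrimeSpectrum A} (hpq : p ≤ q) {i : ℤ} (hi : i < -del hω p ∨ -del hω q < i) :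
    Van ω q.asIdeal (A ⧸ p.asIdeal) i := by
  haveI := wellFoundedGT_spec (A := A)
  revert hpq hi i
  induction p using (wellFounded_gt (α := PrimeSpectrum A)).induction with
  | h p ih =>
    intro hpq i hi
    rcases hpq.eq_or_lt with rfl | hlt
    · exact not_not.1 fun h => by have := (not_van_iff hω p i).1 h; lia
    obtain ⟨x, hxq, hxp⟩ := SetLike.exists_of_lt (show _ < PrimeSpectrum.asIdeal _ from hlt)
    haveI := finite_T hω (A ⧸ p.asIdeal) i
    refine van_of_quot hxq (ses_mul hxp) rfl (van_of_primes _ fun r hr hrq => ?_)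
    obtain ⟨h1, h2⟩ := mem_of_mem_support_quot hr
    have hpr : p < r := lt_of_le_of_ne h1 fun he => hxp (he.symm ▸ h2)
    refine ih r hpr hrq (i := i + 1) ?_
    have := del_lt hω hpr
    lia

theorem van_range {M : Type u} [AddCommGroup M] [Module A M] [Module.Finite A M] {q : PrimeSpectrum A} {i : ℤ}
    (hi : ∀ p : PrimeSpectrum A, p ∈ Module.support A M → p ≤ q → i < -del hω p ∨ -del hω q < i) :
    Van ω q.asIdeal M i :=
  van_of_primes M fun p hp hpq => van_prime hω hpq (hi p hp hpq)

theorem van_gt {M : Type u} [AddCommGroup M] [Module A M] [Module.Finite A M] {q : PrimeSpectrum A} {i : ℤ}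
    (hi : -del hω q < i) : Van ω q.asIdeal M i :=
  van_range hω fun _ _ _ => Or.inr hi

theorem exists_of_not_van {M : Type u} [AddCommGroup M] [Module A M] [Module.Finite A M] {q : PrimeSpectrum A}
    {i : ℤ} (h : ¬ Van ω q.asIdeal M i) :
    ∃ p : PrimeSpectrum A, p ∈ Module.support A M ∧ p ≤ q ∧ -del hω p ≤ i ∧ i ≤ -del hω q := by
  by_contra! hc
  refine h (van_range hω fun p hp hpq => ?_)
  by_cases h1 : -del hω p ≤ i
  · exact Or.inr (hc p hp hpq h1)
  · exact Or.inl (by lia)

theorem exists_del_bound : ∃ a b : ℤ, ∀ p : PrimeSpectrum A, a ≤ del hω p ∧ del hω p ≤ b := by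
  obtain ⟨a, b, hab⟩ := exists_bound hω
  refine ⟨-b, -a, fun p => ?_⟩
  by_contra h
  exact not_van_del hω p (van_of_subsingleton p.isPrime.ne_top (hab _ _ (by lia)))

theorem ringKrullDim_lt_top : ringKrullDim A < ⊤ := by
  obtain ⟨a, b, hab⟩ := exists_del_bound hω
  refine lt_of_le_of_lt (b := (((b - a).toNat : ℕ∞) : WithBot ℕ∞)) (iSup_le fun s => ?_)
    (WithBot.coe_lt_coe.2 (ENat.coe_lt_top _))
  have hs : ∀ i : Fin (s.length + 1), del hω (s i) + (i : ℕ) ≤ del hω s.head := by
    intro i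
    induction i using Fin.induction with
    | zero => simp [RelSeries.head]
    | succ j ihj =>
      have := del_lt hω (s.step j)
      simp only [Fin.val_succ, Fin.val_castSucc] at ihj ⊢
      lia
  have h1 := hs (Fin.last _)
  have h2 := (hab s.head).2
  have h3 := (hab (s (Fin.last _))).1
  simp only [Fin.val_last] at h1
  exact_mod_cast (show s.length ≤ (b - a).toNat by lia)

end

end Groth.Agent.DualCx
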