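import Groth.Agent.DualCx.LocGlobal

/-!
A pointwise dualizing complex on a ring of finite dimension is dualizing.
-/

set_option autoImplicit false
set_option maxHeartbeats 1000000
universe u

namespace Groth.Agent.DualCx

open CategoryTheory Limits DerivedCategory Pretriangulated

attribute [local instance] HasDerivedCategory.standard

noncomputable section

variable {A : Type u} [CommRing A]

theorem comap_minimalPrimes {p : Ideal A} [p.IsPrime] {r : Ideal (Localization.AtPrime p)}
    (hr : r ∈ minimalPrimes (Localization.AtPrime p)) :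
    Ideal.comap (algebraMap A (Localization.AtPrime p)) r ∈ minimalPrimes A := by
  haveI := hr.1.1
  refine ⟨⟨inferInstance, bot_le⟩, fun Q hQ hQle => ?_⟩
  haveI := hQ.1
  have hd : Disjoint (p.primeCompl : Set A) (Q : Set A) := by
    rw [Set.disjoint_left]
    intro s hs hsQ
    exact hr.1.1.ne_top (Ideal.eq_top_of_isUnit_mem _ (hQle hsQ) (IsLocalization.map_units _ ⟨s, hs⟩))
  have hp := IsLocalization.isPrime_of_isPrime_disjoint p.primeCompl (Localization.AtPrime p) Q hQ.1 hd
  have h1 : r ≤ Q.map (algebraMap A (Localization.AtPrime p)) :=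
    hr.2 ⟨hp, bot_le⟩ (Ideal.map_le_iff_le_comap.2 hQle)
  exact (Ideal.comap_mono h1).trans_eq (IsLocalization.comap_map_of_isPrime_disjoint p.primeCompl _ hQ.1 hd)

theorem finite_ext {B : Type u} [CommRing B] (φ : A →+* B) (M : Type u) [AddCommGroup M] [Module A M] [Module.Finite A M] :
    Module.Finite B ((ext φ).obj (ModuleCat.of A M)) :=
  letI := φ.toAlgebra
  inferInstanceAs (Module.Finite B (TensorProduct A B M))

variable [IsNoetherianRing A]

theorem isDualizing_of_pointwise (hdim : ringKrullDim A < ⊤) {R : Dual.D A}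
    (hfin : ∀ i : ℤ, Module.Finite A (Dual.HD A R i)) {a : ℤ} (hlow : ∀ i : ℤ, i < a → Subsingleton (Dual.HD A R i))
    (h : ∀ p : PrimeSpectrum A, Dual.IsDualizing (Localization.AtPrime p.asIdeal)
      ((locD (algebraMap A (Localization.AtPrime p.asIdeal))).obj R)) :
    Dual.IsDualizing A R := by
  haveI := isGE_of_low hlow
  obtain ⟨D, hD⟩ : ∃ D : ℕ, ringKrullDim A ≤ D := by
    induction hk : ringKrullDim A with
    | bot => exact ⟨0, bot_le⟩
    | coe e =>
      induction e using ENat.recTopCoe with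
      | top => rw [hk] at hdim; exact absurd hdim (lt_irrefl _)
      | coe n => exact ⟨n, le_rfl⟩
  have hq : ∀ q : PrimeSpectrum A, ∃ b : ℤ, ∀ j : ℤ, b < j → ∀ x : Dual.HD A R j, ∃ s ∈ q.asIdeal.primeCompl, s • x = 0 :=
    fun q => by
      obtain ⟨lo, hi, hb⟩ := bounded_of_dualizing (h q)
      exact ⟨hi, fun j hj => mem_of_locHD _ _ (hb j (Or.inr hj))⟩
  choose bq hbq using hq
  have hfinite : (minimalPrimes A).Finite := minimalPrimes.finite_of_isNoetherianRing A
  haveI := hfinite.fintype
  let b : ℤ := ((∑ q : minimalPrimes A, (bq ⟨q.1, q.2.1.1⟩).natAbs : ℕ) : ℤ)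
  have hb : ∀ q (hq : q ∈ minimalPrimes A), bq ⟨q, hq.1.1⟩ ≤ b := fun q hq => by
    have h1 := Finset.single_le_sum (fun (j : minimalPrimes A) _ => Nat.zero_le ((bq ⟨j.1, j.2.1.1⟩).natAbs))
      (Finset.mem_univ (⟨q, hq⟩ : minimalPrimes A))
    lia
  -- vanishing in high degrees
  have hhigh : ∀ (M : Type u) [AddCommGroup M] [Module A M] [Module.Finite A M] (i : ℤ), b + D < i →
      Subsingleton (T R M i) := fun M _ _ _ i hi => by
    refine subsingleton_T_of_local M a i fun m hm => ⟨m.primeCompl, fun s hs => hs, ?_⟩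
    haveI := hm.isPrime
    let φ := algebraMap A (Localization.AtPrime m)
    let B := Localization.AtPrime m
    have hd : Dual.IsDualizing B ((locD φ).obj R) := h ⟨m, hm.isPrime⟩
    obtain ⟨Rp⟩ := nonempty_rep hd
    obtain ⟨d, hvan, -⟩ := residue_spec hd (IsLocalRing.maximalIdeal B) Rp
    obtain ⟨r, hr, -⟩ := Ideal.exists_minimalPrimes_le (bot_le : (⊥ : Ideal B) ≤ IsLocalRing.maximalIdeal B)
    obtain ⟨j, e, he, hde, hnt⟩ := exists_degree_bound hd hvan r hr
    have hqmin := comap_minimalPrimes hr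
    have hj : j ≤ b := by
      refine le_trans ?_ (hb _ hqmin)
      by_contra hlt
      refine not_subsingleton_iff_nontrivial.2 hnt ?_
      rw [LocalizedModule.subsingleton_iff]
      intro y
      let e' := (locHD φ R j).toLinearEquiv
      obtain ⟨s, hs, x, hx⟩ := exists_unit1 (φ := φ) m.primeCompl (e' y)
      obtain ⟨v, hv, hvx⟩ := hbq ⟨_, hqmin.1.1⟩ j (not_le.1 hlt) x
      refine ⟨φ v * φ s, fun hmem => (hr.1.1.mem_or_mem hmem).elim hv fun hsr =>
        hr.1.1.ne_top (Ideal.eq_top_of_isUnit_mem _ hsr (IsLocalization.map_units B (⟨s, hs⟩ : m.primeCompl))), e'.injective ?_⟩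
      rw [map_smul, map_zero, mul_smul, hx, ← unit1_smul, hvx, map_zero]
    have hedim : (e : WithBot ℕ∞) ≤ (D : WithBot ℕ∞) := by
      rw [← he]
      refine (ringKrullDim_quotient_le r).trans ?_
      rw [IsLocalization.AtPrime.ringKrullDim_eq_height m B]
      exact (Ideal.height_le_ringKrullDim_of_ne_top hm.ne_top).trans hD
    have hed : e ≤ D := by exact_mod_cast hedim
    haveI : Module.Finite B ((ext φ).obj (ModuleCat.of A M)) := finite_ext φ M
    exact subsingleton_T_of_residue (fun N _ _ _ k => finite_T hd N k) (d := d)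
      (fun k hk => hvan k hk.ne') ((ext φ).obj (ModuleCat.of A M)) (by lia)
  have hbd : ∀ i : ℤ, (i < a ∨ b + D < i) → Subsingleton (Dual.HD A R i) := fun i hi => by
    rcases hi with hi | hi
    · exact hlow i hi
    · exact (homEquiv R i).toEquiv.subsingleton_congr.1 (hhigh A i hi)
  have hamp : DRing.HasInjAmplitudeIn A a (b + D) R := (DRingKP.injAmp_iff R a (b + D)).2 fun I i hi => by
    rcases hi with hi | hi
    · exact subsingleton_T_low hlow (A ⧸ I) hi
    · exact hhigh (A ⧸ I) i hi
  haveI := (isLE_isGE_of_bounded hbd).1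
  refine isDualizing_of_local hfin (b + D) a ⟨a, b + D, fun M _ _ i hi =>
    DRingKP.ext_eq_zero_of_amp hamp (ModuleCat.of A M) i hi⟩ fun m hm => ⟨m.primeCompl, fun s hs => hs, ?_⟩
  exact h ⟨m, hm.isPrime⟩

end

end Groth.Agent.DualCx
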