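import Groth.Agent.DRingKP.BC
import Groth.Agent.DRingKP.InjAmp
import Mathlib.RingTheory.LocalProperties.Injective
import Mathlib.RingTheory.Localization.BaseChange
import Mathlib.RingTheory.Flat.Localization

/-!
Localization of complexes: `Hom` from a bounded above complex of finite free modules into a bounded below
complex of modules commutes with localization.
-/

set_option autoImplicit false
set_option maxHeartbeats 1000000
universe u

namespace Groth.Agent.DualCx

open CategoryTheory Limits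

noncomputable section

variable {A B : Type u} [CommRing A] [CommRing B] (φ : A →+* B) (S : Submonoid A)

/-- `φ` is a localization at `S`. -/
class IsLocMap : Prop where
  isLocalization : @IsLocalization A _ S B _ φ.toAlgebra

theorem isLocMap_algebraMap [alg : Algebra A B] [IsLocalization S B] : IsLocMap (algebraMap A B) S := ⟨by
  have h : (algebraMap A B).toAlgebra = alg := Algebra.algebra_ext _ _ fun _ => rfl
  rw [h]
  infer_instance⟩

/-- Extension of scalars. -/
abbrev ext : ModuleCat.{u} A ⥤ ModuleCat.{u} B := ModuleCat.extendScalars.{u, u, u} φ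

/-- `m ↦ 1 ⊗ m`. -/
def unit1 (M : ModuleCat.{u} A) : M →+ (ext φ).obj M :=
  letI := φ.toAlgebra
  (TensorProduct.mk A B M 1).toAddMonoidHom

variable {φ}

theorem one_tmul_smul {R C N : Type*} [CommRing R] [CommRing C] [Algebra R C] [AddCommGroup N] [Module R N] (a : R)
    (m : N) : (1 : C) ⊗ₜ[R] (a • m) = algebraMap R C a • ((1 : C) ⊗ₜ[R] m) :=
  (TensorProduct.tmul_smul a (1 : C) m).trans (algebraMap_smul C a ((1 : C) ⊗ₜ[R] m)).symm

theorem unit1_smul {M : ModuleCat.{u} A} (a : A) (m : M) : unit1 φ M (a • m) = φ a • unit1 φ M m :=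
  letI := φ.toAlgebra
  one_tmul_smul (C := B) a m

theorem map_unit1 {M N : ModuleCat.{u} A} (f : M ⟶ N) (m : M) :
    ((ext φ).map f).hom (unit1 φ M m) = unit1 φ N (f.hom m) := rfl

theorem hom_ext_unit1 {M : ModuleCat.{u} A} {Q : ModuleCat.{u} B} {f g : (ext φ).obj M ⟶ Q}
    (h : ∀ m, f.hom (unit1 φ M m) = g.hom (unit1 φ M m)) : f = g := by
  letI := φ.toAlgebra
  refine ModuleCat.hom_ext (LinearMap.ext fun x => ?_)
  induction x using TensorProduct.induction_on with
  | zero => exact (map_zero f.hom).trans (map_zero g.hom).symm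
  | tmul b0 m =>
    let b : B := b0
    have h1 : (b ⊗ₜ[A] m : TensorProduct A B M) = b • ((1 : B) ⊗ₜ[A] m) := by
      rw [TensorProduct.smul_tmul', smul_eq_mul, mul_one]
    exact (congrArg f.hom h1).trans ((map_smul f.hom b (unit1 φ M m)).trans ((congrArg (b • ·) (h m)).trans
      ((map_smul g.hom b (unit1 φ M m)).symm.trans (congrArg g.hom h1).symm)))
  | add x y hx hy => exact (map_add f.hom x y).trans ((congrArg₂ (· + ·) hx hy).trans (map_add g.hom x y).symm)

variable [hloc : IsLocMap φ S]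
include hloc

theorem isLocalized_unit1 (M : ModuleCat.{u} A) :
    letI := φ.toAlgebra; IsLocalizedModule S (TensorProduct.mk A B M 1) := by
  letI := φ.toAlgebra
  haveI : IsLocalization S B := hloc.isLocalization
  exact (isLocalizedModule_iff_isBaseChange S B _).2 (TensorProduct.isBaseChange A M B)

theorem exists_unit1 {M : ModuleCat.{u} A} (x : (ext φ).obj M) : ∃ s ∈ S, ∃ m, φ s • x = unit1 φ M m := by
  letI := φ.toAlgebra
  haveI := isLocalized_unit1 (φ := φ) S M
  let y : TensorProduct A B M := x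
  obtain ⟨⟨m, s⟩, hs⟩ := IsLocalizedModule.surj S (TensorProduct.mk A B M 1) y
  exact ⟨s.1, s.2, m, (algebraMap_smul B s.1 y).trans hs⟩

theorem exists_smul_eq_zero {M : ModuleCat.{u} A} {m : M} (h : unit1 φ M m = 0) : ∃ s ∈ S, s • m = 0 := by
  letI := φ.toAlgebra
  haveI := isLocalized_unit1 (φ := φ) S M
  obtain ⟨s, hs⟩ := (IsLocalizedModule.eq_zero_iff S (TensorProduct.mk A B M 1)).1 h
  exact ⟨s.1, s.2, hs⟩

theorem flat : φ.Flat := by
  letI := φ.toAlgebra
  haveI : IsLocalization S B := hloc.isLocalization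
  exact IsLocalization.flat B S

theorem injective_ext [IsNoetherianRing A] (M : ModuleCat.{u} A) [Injective M] : Injective ((ext φ).obj M) := by
  letI := φ.toAlgebra
  haveI : IsLocalization S B := hloc.isLocalization
  haveI := isLocalized_unit1 (φ := φ) S M
  haveI : Module.Injective A M := (Module.injective_iff_injective_object A M).2 ‹_›
  have h : Module.Injective B (TensorProduct A B M) :=
    Module.injective_of_isLocalizedModule S (TensorProduct.mk A B M 1)
  exact (Module.injective_iff_injective_object B ((ext φ).obj M)).1 h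

omit hloc in
theorem exists_common {ι : Type*} (F : Finset ι) (Q : ι → A → Prop)
    (hmul : ∀ i (s t : A), t ∈ S → Q i s → Q i (t * s)) (h : ∀ i ∈ F, ∃ s ∈ S, Q i s) :
    ∃ s ∈ S, ∀ i ∈ F, Q i s := by
  classical
  induction F using Finset.induction with
  | empty => exact ⟨1, S.one_mem, fun i hi => absurd hi (Finset.notMem_empty i)⟩
  | insert i F hiF ih =>
    obtain ⟨s, hs, hQ⟩ := ih fun j hj => h j (Finset.mem_insert_of_mem hj)
    obtain ⟨t, ht, hQt⟩ := h i (Finset.mem_insert_self i F)
    refine ⟨s * t, S.mul_mem hs ht, fun j hj => ?_⟩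
    rcases Finset.mem_insert.1 hj with rfl | hj
    · exact hmul j t s hs hQt
    · rw [mul_comm]; exact hmul j s t ht (hQ j hj)

omit hloc in
theorem map_smul_hom {M N : ModuleCat.{u} A} (a : A) (f : M ⟶ N) : (ext φ).map (a • f) = φ a • (ext φ).map f :=
  hom_ext_unit1 fun m => by
    rw [map_unit1]
    show unit1 φ N (a • f.hom m) = φ a • ((ext φ).map f).hom (unit1 φ M m)
    rw [unit1_smul, map_unit1]

/-- Maps out of a finite free module descend up to a denominator. -/
theorem exists_map_eq {M N : ModuleCat.{u} A} [Module.Free A M] [Module.Finite A M]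
    (f : (ext φ).obj M ⟶ (ext φ).obj N) : ∃ s ∈ S, ∃ g : M ⟶ N, φ s • f = (ext φ).map g := by
  classical
  let b := Module.Free.chooseBasis A M
  obtain ⟨s, hs, hQ⟩ := exists_common S Finset.univ (fun k s => ∃ n, φ s • f.hom (unit1 φ M (b k)) = unit1 φ N n)
    (fun k s t _ ⟨n, hn⟩ => ⟨t • n, by rw [map_mul, mul_smul, hn, unit1_smul]⟩)
    (fun k _ => exists_unit1 S (f.hom (unit1 φ M (b k))))
  choose n hn using fun k => hQ k (Finset.mem_univ k)
  refine ⟨s, hs, ModuleCat.ofHom (b.constr A n), hom_ext_unit1 fun m => ?_⟩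
  rw [map_unit1]
  show φ s • f.hom (unit1 φ M m) = unit1 φ N (b.constr A n m)
  rw [← b.sum_repr m, map_sum, map_sum, map_sum, map_sum, Finset.smul_sum]
  refine Finset.sum_congr rfl fun k _ => ?_
  rw [unit1_smul, map_smul f.hom, map_smul (b.constr A n), b.constr_basis, unit1_smul, ← hn k, smul_smul, smul_smul,
    mul_comm]

/-- Maps out of a finite module killed by localization are killed by a denominator. -/
theorem exists_smul_map_eq_zero {M N : ModuleCat.{u} A} [Module.Finite A M] (g : M ⟶ N)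
    (h : (ext φ).map g = 0) : ∃ s ∈ S, s • g = 0 := by
  obtain ⟨G, hG⟩ := Module.finite_def.1 (inferInstance : Module.Finite A M)
  obtain ⟨s, hs, hQ⟩ := exists_common S G (fun x s => s • g.hom x = 0)
    (fun x s t _ hx => by rw [mul_smul, hx, smul_zero])
    (fun x _ => exists_smul_eq_zero (φ := φ) S (by rw [← map_unit1, h]; rfl))
  refine ⟨s, hs, ModuleCat.hom_ext (LinearMap.ext_on hG fun x hx => hQ x hx)⟩

section Chain

variable {P J : CochainComplex (ModuleCat.{u} A) ℤ}

omit hloc in
theorem aux_smul_comm {C : Type*} [Category C] [Preadditive C] [Linear B C] {W X Y Z : C} (r : B) {a : W ⟶ X} {v : X ⟶ Z}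
    {w : W ⟶ Y} {b : Y ⟶ Z} (h : a ≫ v = w ≫ b) : (r • a) ≫ v - w ≫ (r • b) = 0 := by
  rw [Linear.smul_comp, Linear.comp_smul, h, sub_self]

omit hloc in
theorem aux_smul_homotopy {C : Type*} [Category C] [Preadditive C] [Linear B C] {W X Y Z : C} (r : B) {f : W ⟶ Z}
    {a : W ⟶ X} {v : X ⟶ Z} {b : W ⟶ Y} {w : Y ⟶ Z} (h : f = a ≫ v + b ≫ w) :
    r • f - (a ≫ (r • v) + (r • b) ≫ w) = 0 := by
  rw [Linear.smul_comp, Linear.comp_smul, ← smul_add, h, sub_self]

theorem exists_chain_eq (c a : ℤ) [P.IsStrictlyLE c] [J.IsStrictlyGE a]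
    (hP : ∀ p, Module.Free A (P.X p) ∧ Module.Finite A (P.X p)) (f : (DRingKP.bc φ).obj P ⟶ (DRingKP.bc φ).obj J) :
    ∃ s ∈ S, ∃ g : P ⟶ J, φ s • f = (DRingKP.bc φ).map g := by
  classical
  have hout : ∀ p q : ℤ, c < p ∨ q < a → ∀ u v : P.X p ⟶ J.X q, u = v := fun p q h u v => by
    rcases h with h | h
    · exact (P.isZero_of_isStrictlyLE c p h).eq_of_src _ _
    · exact (J.isZero_of_isStrictlyGE a q h).eq_of_tgt _ _
  have hout' : ∀ p q : ℤ, c < p ∨ q < a → ∀ u v : (ext φ).obj (P.X p) ⟶ (ext φ).obj (J.X q), u = v :=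
    fun p q h u v => by
      rcases h with h | h
      · exact ((ext φ).map_isZero (P.isZero_of_isStrictlyLE c p h)).eq_of_src _ _
      · exact ((ext φ).map_isZero (J.isZero_of_isStrictlyGE a q h)).eq_of_tgt _ _
  obtain ⟨s, hs, hQ⟩ := exists_common S (Finset.Icc a c)
    (fun p s => ∃ g : P.X p ⟶ J.X p, φ s • f.f p = (ext φ).map g)
    (fun p s t _ ⟨g, hg⟩ => ⟨t • g, (congrArg (· • _) (map_mul φ t s)).trans ((mul_smul (φ t) (φ s) _).trans
      ((congrArg (φ t • ·) hg).trans (map_smul_hom t g).symm))⟩)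
    (fun p _ => by
      haveI := (hP p).1
      haveI := (hP p).2
      exact exists_map_eq S (f.f p))
  have hQ' : ∀ p, ∃ g : P.X p ⟶ J.X p, φ s • f.f p = (ext φ).map g := fun p => by
    by_cases hp : p ∈ Finset.Icc a c
    · exact hQ p hp
    · exact ⟨0, hout' p p (by rw [Finset.mem_Icc] at hp; lia) _ _⟩
  choose g hg using hQ'
  obtain ⟨t, ht, hT⟩ := exists_common S (Finset.Icc (a - 1) c)
    (fun p t => t • (g p ≫ J.d p (p + 1) - P.d p (p + 1) ≫ g (p + 1)) = 0)
    (fun p s t _ hx => by rw [mul_smul, hx, smul_zero])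
    (fun p _ => by
      haveI := (hP p).2
      refine exists_smul_map_eq_zero (φ := φ) S _ ?_
      rw [Functor.map_sub, Functor.map_comp, Functor.map_comp, ← hg, ← hg]
      exact aux_smul_comm (φ s) (f.comm p (p + 1)))
  have hcomm : ∀ p, (t • g p) ≫ J.d p (p + 1) = P.d p (p + 1) ≫ (t • g (p + 1)) := fun p => by
    by_cases hp : p ∈ Finset.Icc (a - 1) c
    · rw [← sub_eq_zero, Linear.smul_comp, Linear.comp_smul, ← smul_sub]
      exact hT p hp
    · exact hout p (p + 1) (by rw [Finset.mem_Icc] at hp; lia) _ _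
  refine ⟨t * s, S.mul_mem ht hs,
    { f := fun p => t • g p
      comm' := fun i j hij => by
        obtain rfl : i + 1 = j := hij
        exact hcomm i }, HomologicalComplex.hom_ext _ _ fun p => ?_⟩
  show φ (t * s) • f.f p = (ext φ).map (t • g p)
  exact (congrArg (· • _) (map_mul φ t s)).trans ((mul_smul (φ t) (φ s) _).trans
    ((congrArg (φ t • ·) (hg p)).trans (map_smul_hom t (g p)).symm))

theorem exists_homotopy_smul (c a : ℤ) [P.IsStrictlyLE c] [J.IsStrictlyGE a]
    (hP : ∀ p, Module.Free A (P.X p) ∧ Module.Finite A (P.X p)) (g : P ⟶ J) (hg : Homotopy ((DRingKP.bc φ).map g) 0) :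
    ∃ s ∈ S, Nonempty (Homotopy (s • g) 0) := by
  classical
  obtain ⟨s, hs, hQ⟩ := exists_common S (Finset.Icc a (c + 1))
    (fun p s => ∃ k : P.X p ⟶ J.X (p - 1), φ s • hg.hom p (p - 1) = (ext φ).map k)
    (fun p s t _ ⟨k, hk⟩ => ⟨t • k, (congrArg (· • _) (map_mul φ t s)).trans ((mul_smul (φ t) (φ s) _).trans
      ((congrArg (φ t • ·) hk).trans (map_smul_hom t k).symm))⟩)
    (fun p _ => by
      haveI := (hP p).1
      haveI := (hP p).2
      exact exists_map_eq (M := P.X p) (N := J.X (p - 1)) S (hg.hom p (p - 1)))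
  have hQ' : ∀ p q : ℤ, q + 1 = p → ∃ k : P.X p ⟶ J.X q, φ s • hg.hom p q = (ext φ).map k := fun p q hpq => by
    obtain rfl : q = p - 1 := by lia
    by_cases hp : p ∈ Finset.Icc a (c + 1)
    · exact hQ p hp
    · refine ⟨0, ?_⟩
      rw [Finset.mem_Icc] at hp
      rcases (show c < p ∨ p - 1 < a by lia) with h | h
      · exact ((ext φ).map_isZero (P.isZero_of_isStrictlyLE c p h)).eq_of_src _ _
      · exact ((ext φ).map_isZero (J.isZero_of_isStrictlyGE a (p - 1) h)).eq_of_tgt _ _
  choose k hk using hQ'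
  let h : ∀ p q : ℤ, P.X p ⟶ J.X q := fun p q => if hpq : q + 1 = p then k p q hpq else 0
  obtain ⟨t, ht, hT⟩ := exists_common S (Finset.Icc a c)
    (fun p t => t • (s • g.f p - (P.d p (p + 1) ≫ h (p + 1) p + h p (p - 1) ≫ J.d (p - 1) p)) = 0)
    (fun p s t _ hx => by rw [mul_smul, hx, smul_zero])
    (fun p _ => by
      haveI := (hP p).2
      refine exists_smul_map_eq_zero (φ := φ) S _ ?_
      rw [Functor.map_sub, Functor.map_add, Functor.map_comp, Functor.map_comp, map_smul_hom]
      simp only [h, dif_pos, sub_add_cancel]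
      rw [← hk, ← hk]
      refine aux_smul_homotopy (φ s) ?_
      have hc := hg.comm p
      rw [dNext_eq _ (show (ComplexShape.up ℤ).Rel p (p + 1) from rfl),
        prevD_eq _ (show (ComplexShape.up ℤ).Rel (p - 1) p by simp), HomologicalComplex.zero_f, add_zero] at hc
      exact hc)
  have heq : ∀ p, t • (s • g.f p) = P.d p (p + 1) ≫ (t • h (p + 1) p) + (t • h p (p - 1)) ≫ J.d (p - 1) p := fun p => by
    by_cases hp : p ∈ Finset.Icc a c
    · rw [Linear.comp_smul, Linear.smul_comp, ← smul_add, ← sub_eq_zero, ← smul_sub]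
      exact hT p hp
    · rw [Finset.mem_Icc] at hp
      rcases (show c < p ∨ p < a by lia) with hh | hh
      · exact (P.isZero_of_isStrictlyLE c p hh).eq_of_src _ _
      · exact (J.isZero_of_isStrictlyGE a p hh).eq_of_tgt _ _
  refine ⟨t * s, S.mul_mem ht hs, ⟨
    { hom := fun p q => t • h p q
      zero := fun p q hpq => by
        simp only [h]
        rw [dif_neg (show ¬ q + 1 = p from hpq), smul_zero]
      comm := fun p => ?_ }⟩⟩
  rw [dNext_eq _ (show (ComplexShape.up ℤ).Rel p (p + 1) from rfl),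
    prevD_eq _ (show (ComplexShape.up ℤ).Rel (p - 1) p by simp), HomologicalComplex.zero_f, add_zero,
    HomologicalComplex.smul_f_apply, mul_smul]
  exact heq p

end Chain

end

end Groth.Agent.DualCx
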