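import Groth.Agent.DualCx.Coherent
import Groth.Agent.DualCx.Regular

/-!
`Hom_D(K, L[i])` is finite for coherent `K` and `L` of finite injective dimension.
-/

set_option autoImplicit false
set_option maxHeartbeats 1000000
universe u

namespace Groth.Agent.DualCx

open CategoryTheory Limits DerivedCategory Pretriangulated Opposite

attribute [local instance] HasDerivedCategory.standard

noncomputable section

variable {A : Type u} [CommRing A]

theorem finite_obj₂_cov [IsNoetherianRing A] {S : Triangle (Dual.D A)} (hS : S ∈ distTriang (Dual.D A)) (K : Dual.D A)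
    (h₁ : Module.Finite A (K ⟶ S.obj₁)) (h₃ : Module.Finite A (K ⟶ S.obj₃)) : Module.Finite A (K ⟶ S.obj₂) :=
  haveI := h₁
  haveI := h₃
  finite_of_exact (Linear.rightComp A K S.mor₁) (Linear.rightComp A K S.mor₂)
    (fun x => by
      show (x ≫ S.mor₁) ≫ S.mor₂ = 0
      rw [Category.assoc, comp_distTriang_mor_zero₁₂ S hS, comp_zero])
    fun y hy => by
      obtain ⟨g, hg⟩ := Triangle.coyoneda_exact₂ S hS y hy
      exact ⟨g, hg.symm⟩

theorem finite_obj₂_contra [IsNoetherianRing A] {S : Triangle (Dual.D A)} (hS : S ∈ distTriang (Dual.D A)) (Z : Dual.D A)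
    (h₁ : Module.Finite A (S.obj₁ ⟶ Z)) (h₃ : Module.Finite A (S.obj₃ ⟶ Z)) : Module.Finite A (S.obj₂ ⟶ Z) :=
  haveI := h₁
  haveI := h₃
  finite_of_exact (Linear.leftComp A Z S.mor₂) (Linear.leftComp A Z S.mor₁)
    (fun x => by
      show S.mor₁ ≫ S.mor₂ ≫ x = 0
      rw [← Category.assoc, comp_distTriang_mor_zero₁₂ S hS, zero_comp])
    fun y hy => by
      obtain ⟨g, hg⟩ := Triangle.yoneda_exact₂ S hS y hy
      exact ⟨g, hg.symm⟩

theorem finite_of_subsingleton' {M : Type*} [AddCommGroup M] [Module A M] (h : Subsingleton M) : Module.Finite A M :=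
  haveI := h
  inferInstance

/-- Both pieces of a truncation triangle have finite cohomology. -/
theorem finite_hd_trunc [IsNoetherianRing A] {X K Y : Dual.D A} {f : X ⟶ K} {g : K ⟶ Y} {h : Y ⟶ X⟦(1 : ℤ)⟧}
    (hT : Triangle.mk f g h ∈ distTriang (Dual.D A)) (n : ℤ) [X.IsLE n] [Y.IsGE (n + 1)]
    (hK : ∀ i : ℤ, Module.Finite A (Dual.HD A K i)) :
    (∀ j : ℤ, Module.Finite A (Dual.HD A X j)) ∧ ∀ j : ℤ, Module.Finite A (Dual.HD A Y j) := by
  have hKT : ∀ j : ℤ, Module.Finite A (T K A j) := fun j =>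
    haveI := hK j
    Module.Finite.equiv (homEquiv K j).symm
  have hX0 : ∀ j : ℤ, n < j → Subsingleton (Dual.HD A X j) := fun j hj =>
    ModuleCat.subsingleton_of_isZero (DerivedCategory.isZero_of_isLE X n j hj)
  have hY0 : ∀ j : ℤ, j < n + 1 → Subsingleton (Dual.HD A Y j) := fun j hj =>
    ModuleCat.subsingleton_of_isZero (DerivedCategory.isZero_of_isGE Y (n + 1) j hj)
  refine ⟨fun j => ?_, fun j => ?_⟩
  · rcases lt_or_ge n j with hj | hj
    · exact finite_of_subsingleton' (hX0 j hj)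
    · let S := (shiftFunctor (Triangle (Dual.D A)) j).obj (Triangle.mk f g h).invRotate
      have hS : S ∈ distTriang (Dual.D A) := Triangle.shift_distinguished _ (inv_rot_of_distTriang _ hT) j
      haveI : Module.Finite A (T X A j) := finite_obj₂_cov hS (Dual.inD A A)
        (finite_of_subsingleton' ((shiftT Y (Dual.inD A A) (-1) j (j - 1) (by lia)).toEquiv.subsingleton_congr.2
          ((homEquiv Y (j - 1)).toEquiv.subsingleton_congr.2 (hY0 (j - 1) (by lia)))))
        (hKT j)
      exact Module.Finite.equiv (homEquiv X j)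
  · rcases lt_or_ge j (n + 1) with hj | hj
    · exact finite_of_subsingleton' (hY0 j hj)
    · let S := (shiftFunctor (Triangle (Dual.D A)) j).obj (Triangle.mk f g h).rotate
      have hS : S ∈ distTriang (Dual.D A) := Triangle.shift_distinguished _ (rot_of_distTriang _ hT) j
      haveI : Module.Finite A (T Y A j) := finite_obj₂_cov hS (Dual.inD A A) (hKT j)
        (finite_of_subsingleton' ((shiftT X (Dual.inD A A) 1 j (j + 1) (by lia)).toEquiv.subsingleton_congr.2
          ((homEquiv X (j + 1)).toEquiv.subsingleton_congr.2 (hX0 (j + 1) (by lia)))))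
      exact Module.Finite.equiv (homEquiv Y j)

/-- Morphisms from objects concentrated above the amplitude vanish. -/
theorem subsingleton_hom_of_isGE {L : Dual.D A} {a b : ℤ} (hL : DRing.HasInjAmplitudeIn A a b L)
    (Y : Dual.D A) (c i : ℤ) [Y.IsGE c] (hc : b - i < c) : Subsingleton (Y ⟶ L⟦i⟧) := by
  obtain ⟨J, hJ, hJi, ⟨e⟩⟩ := hL
  haveI : ∀ j, Injective (J.X j) := fun j => (Module.injective_iff_injective_object A (J.X j)).1 (hJi j)
  let J' := J⟦i⟧
  haveI : ∀ k, Injective (J'.X k) := fun k => (inferInstance : Injective (J.X (k + i)))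
  haveI : J'.IsStrictlyGE (a - i) := (CochainComplex.isStrictlyGE_iff J' (a - i)).2 fun k hk =>
    hJ (k + i) (Or.inl (by lia))
  haveI := CochainComplex.isKInjective_of_injective J' (a - i)
  obtain ⟨P, _, ⟨eP⟩⟩ := DerivedCategory.exists_iso_Q_obj_of_isGE Y c
  let e' : DerivedCategory.Q.obj J' ≅ L⟦i⟧ :=
    (DerivedCategory.Q.commShiftIso i).app J ≪≫ (shiftFunctor (Dual.D A) i).mapIso e
  refine subsingleton_of_forall_eq 0 fun x => ?_
  obtain ⟨g, hg⟩ := DRingKP.exists_lift_inj (eP.inv ≫ x ≫ e'.inv)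
  have hg0 : g = 0 := HomologicalComplex.hom_ext _ _ fun k => by
    by_cases hk : k < c
    · exact (P.isZero_of_isStrictlyGE c k hk).eq_of_src _ _
    · exact (hJ (k + i) (Or.inr (by lia))).eq_of_tgt _ _
  rw [hg0, Functor.map_zero] at hg
  exact (cancel_mono e'.inv).1 ((cancel_epi eP.inv).1 (hg.symm.trans (by rw [zero_comp, comp_zero])))

theorem finite_hom_of_injAmp [IsNoetherianRing A] {K L : Dual.D A} (hK : ∀ i : ℤ, Module.Finite A (Dual.HD A K i))
    (hL : ∀ i : ℤ, Module.Finite A (Dual.HD A L i)) {a b : ℤ} (hLi : DRing.HasInjAmplitudeIn A a b L) (i : ℤ) :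
    Module.Finite A (K ⟶ L⟦i⟧) := by
  have hlow : ∀ j : ℤ, j < a → Subsingleton (Dual.HD A L j) := fun j hj =>
    (homEquiv L j).toEquiv.subsingleton_congr.1 (DRingKP.ext_eq_zero_of_amp hLi (ModuleCat.of A A) j (Or.inl hj))
  obtain ⟨X, Y, hX, hY, f, g, h, hT⟩ := DerivedCategory.TStructure.t.exists_triangle K (b - i) (b - i + 1) rfl
  haveI : X.IsLE (b - i) := ⟨hX⟩
  haveI : Y.IsGE (b - i + 1) := ⟨hY⟩
  refine finite_obj₂_contra hT (L⟦i⟧) ?_ (finite_of_subsingleton' (subsingleton_hom_of_isGE hLi Y _ i (lt_add_one (b - i))))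
  obtain ⟨X', Y', hX', hY', f', g', h', hT'⟩ :=
    DerivedCategory.TStructure.t.exists_triangle X (a - i - 1) (a - i - 1 + 1) rfl
  haveI : X'.IsLE (a - i - 1) := ⟨hX'⟩
  haveI : Y'.IsGE (a - i - 1 + 1) := ⟨hY'⟩
  refine finite_obj₂_contra hT' (L⟦i⟧) (finite_of_subsingleton' ?_) ?_
  · haveI := isGE_of_low hlow
    refine subsingleton_of_forall_eq 0 fun v => ?_
    exact DerivedCategory.TStructure.t.zero_of_isLE_of_isGE v (a - i - 1) (a - i) (by lia) (show X'.IsLE (a - i - 1) from ⟨hX'⟩)
      (DerivedCategory.TStructure.t.isGE_shift L a i (a - i) (by lia))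
  have hfinX := (finite_hd_trunc hT (b - i) hK).1
  have hfinY' := (finite_hd_trunc hT' (a - i - 1) hfinX).2
  refine finite_hom_amplitude hL hlow (c := a - i) (max (b - i) (a - i - 1) + 1 - (a - i)).toNat
    (max (b - i) (a - i - 1)) Y' (by lia) (fun j hj => ?_) hfinY' i
  rcases hj with hj | hj
  · exact DerivedCategory.isZero_of_isGE Y' (a - i - 1 + 1) j (by lia)
  · haveI : Subsingleton ((DerivedCategory.homologyFunctor (ModuleCat.{u} A) j).obj Y') := by
      refine (homEquiv Y' j).toEquiv.subsingleton_congr.1 (subsingleton_of_forall_eq 0 fun v => ?_)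
      obtain ⟨w, hw⟩ := Triangle.coyoneda_exact₂ _ (Triangle.shift_distinguished _ (rot_of_distTriang _ hT') j) v
        (@Subsingleton.elim _ ((shiftT X' (Dual.inD A A) 1 j (j + 1) (by lia)).toEquiv.subsingleton_congr.2
          ((homEquiv X' (j + 1)).toEquiv.subsingleton_congr.2
            (ModuleCat.subsingleton_of_isZero (DerivedCategory.isZero_of_isLE X' (a - i - 1) (j + 1) (by lia))))) _ _)
      rw [hw, show w = 0 from @Subsingleton.elim _ ((homEquiv X j).toEquiv.subsingleton_congr.2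
        (ModuleCat.subsingleton_of_isZero (DerivedCategory.isZero_of_isLE X (b - i) j (by lia)))) _ _]
      exact zero_comp
    exact ModuleCat.isZero_of_subsingleton _

end

end Groth.Agent.DualCx
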