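import Groth.Agent.DualCx.Hom
import Groth.Agent.DRingKP.DCompl
import Mathlib.RingTheory.Noetherian.Basic
import Mathlib.RingTheory.Finiteness.Cardinality

/-!
Dualizing complexes: cohomology, finiteness and bounds of `Hom_D(M, ω[i])`.
-/

set_option autoImplicit false
set_option maxHeartbeats 1000000
universe u

namespace Groth.Agent.DualCx

open CategoryTheory Limits DerivedCategory Pretriangulated

attribute [local instance] HasDerivedCategory.standard

noncomputable section

variable {A : Type u} [CommRing A]

/-- `Hom_D(A, ω[i]) ≅ Hⁱ(ω)`. -/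
def homEquiv (ω : Dual.D A) (i : ℤ) : T ω A i ≃ₗ[A] Dual.HD A ω i :=
  let e : (DerivedCategory.homologyFunctor (ModuleCat.{u} A) 0).obj (ω⟦i⟧) ≅
      (DerivedCategory.homologyFunctor (ModuleCat.{u} A) i).obj ω :=
    ((DerivedCategory.homologyFunctor (ModuleCat.{u} A) 0).shiftIso i 0 i (by lia)).app ω
  haveI : Projective (ModuleCat.of A A) := (IsProjective.iff_projective _).1 inferInstance
  let f : T ω A i →ₗ[A] Dual.HD A ω i :=
    { toFun := fun g => e.toLinearEquiv ((DRingKP.ev0 g).hom (1 : A))
      map_add' := fun g h => by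
        have h1 : DRingKP.ev0 (g + h) = DRingKP.ev0 g + DRingKP.ev0 h := by
          simp only [DRingKP.ev0]
          rw [Functor.map_add, Preadditive.comp_add]
        rw [h1, ModuleCat.hom_add, LinearMap.add_apply, map_add]
      map_smul' := fun a g => by
        rw [← pre_smul_id a g, pre_apply, DRingKP.ev0_precomp, ModuleCat.hom_comp, LinearMap.comp_apply,
          RingHom.id_apply, ← map_smul, ← map_smul]
        rfl }
  LinearEquiv.ofBijective f ⟨fun g h hgh => by
      refine (DRingKP.ev0_bijective (P := ModuleCat.of A A) (ω⟦i⟧)).1 (ModuleCat.hom_ext (LinearMap.ext_ring ?_))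
      exact e.toLinearEquiv.injective hgh,
    fun y => by
      obtain ⟨g, hg⟩ := (DRingKP.ev0_bijective (P := ModuleCat.of A A) (ω⟦i⟧)).2
        (ModuleCat.ofHom (LinearMap.toSpanSingleton A _ (e.toLinearEquiv.symm y)))
      refine ⟨g, ?_⟩
      show e.toLinearEquiv ((DRingKP.ev0 g).hom (1 : A)) = y
      rw [show DRingKP.ev0 g = _ from hg]
      show e.toLinearEquiv ((1 : A) • e.toLinearEquiv.symm y) = y
      rw [one_smul, LinearEquiv.apply_symm_apply]⟩

variable [IsNoetherianRing A] {ω : Dual.D A}

theorem finite_of_exact {X Y Z : Type*} [AddCommGroup X] [Module A X] [AddCommGroup Y] [Module A Y]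
    [AddCommGroup Z] [Module A Z] [Module.Finite A X] [Module.Finite A Z] (f : X →ₗ[A] Y) (g : Y →ₗ[A] Z)
    (h₀ : ∀ x, g (f x) = 0) (h : ∀ y, g y = 0 → ∃ x, f x = y) : Module.Finite A Y := by
  haveI := isNoetherian_of_range_eq_ker f g (le_antisymm (by rintro _ ⟨x, rfl⟩; exact h₀ x) h)
  infer_instance

theorem finite_mid {L M N : Type u} [AddCommGroup L] [Module A L] [AddCommGroup M] [Module A M]
    [AddCommGroup N] [Module A N] {f : L →ₗ[A] M} {g : M →ₗ[A] N} (h : SES f g) {i : ℤ}
    [Module.Finite A (T ω L i)] [Module.Finite A (T ω N i)] : Module.Finite A (T ω M i) :=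
  finite_of_exact (pre ω i g) (pre ω i f) (SES.pre_f_g h) (SES.exact_mid h)

theorem finite_pow (hfin : ∀ i : ℤ, Module.Finite A (Dual.HD A ω i)) (i : ℤ) :
    ∀ r : ℕ, Module.Finite A (T ω (Fin r → A) i) := by
  intro r
  induction r with
  | zero =>
    haveI : Subsingleton (T ω (Fin 0 → A) i) := subsingleton_of_subsingleton
    infer_instance
  | succ r ih =>
    haveI := ih
    haveI : Module.Finite A (T ω A i) := Module.Finite.equiv (homEquiv ω i).symm
    haveI : Module.Finite A (T ω (A × (Fin r → A)) i) :=
      finite_mid (f := LinearMap.inl A A (Fin r → A)) (g := LinearMap.snd A A (Fin r → A))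
        ⟨LinearMap.inl_injective, LinearMap.exact_iff.2 (by rw [LinearMap.range_inl]), LinearMap.snd_surjective⟩
    exact Module.Finite.equiv (congr ω i (Fin.consLinearEquiv A (fun _ : Fin (r + 1) => A)).symm)

variable (hω : Dual.IsDualizing A ω)
include hω

/-- `Hom_D(M, ω[i])` is finite for finite `M`. -/
theorem finite_T (M : Type u) [AddCommGroup M] [Module A M] [Module.Finite A M] (i : ℤ) :
    Module.Finite A (T ω M i) := by
  obtain ⟨a, b, hab⟩ := hω.finite_injective_dimension
  suffices H : ∀ (n : ℕ) (M : Type u) [AddCommGroup M] [Module A M] [Module.Finite A M] (i : ℤ), i < a + n →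
      Module.Finite A (T ω M i) from H (i - a + 1).toNat M i (by lia)
  intro n
  induction n with
  | zero =>
    intro M _ _ _ i hi
    haveI : Subsingleton (T ω M i) := hab M i (Or.inl (by lia))
    infer_instance
  | succ n ih =>
    intro M _ _ _ i hi
    obtain ⟨r, π, hπ⟩ := Module.Finite.exists_fin' A M
    have h : SES (LinearMap.ker π).subtype π :=
      ⟨Submodule.subtype_injective _, LinearMap.exact_subtype_ker_map π, hπ⟩
    haveI := ih (LinearMap.ker π) (i - 1) (by lia)
    haveI := finite_pow hω.finite_cohomology i r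
    exact finite_of_exact (h.delta ω (show i - 1 + 1 = i by lia)) (pre ω i π) (fun x => h.pre_delta _ x)
      fun y hy => h.exact_right _ y hy

theorem exists_bound : ∃ a b : ℤ, ∀ (M : Type u) [AddCommGroup M] [Module A M] (i : ℤ),
    (i < a ∨ b < i) → Subsingleton (T ω M i) :=
  hω.finite_injective_dimension

end

end Groth.Agent.DualCx
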