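import Groth.Agent.DualCx.SkLocus
import Groth.Agent.DualCx.Apps
import Groth.Agent.DualCx.Bounded
import Groth.Agent.Catenary.Hartshorne
import Groth.Agent.InvFin.Depth

/-!
Endomorphisms and self-extensions of the dualizing module of a local ring satisfying `(S₂)`, `(S₃)`.
-/

set_option autoImplicit false
set_option maxHeartbeats 1000000
universe u

namespace Groth.Agent.DualCx

open CategoryTheory Limits DerivedCategory Pretriangulated IsLocalRing

attribute [local instance] HasDerivedCategory.standard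

noncomputable section

variable {A : Type u} [CommRing A] [IsNoetherianRing A] [IsLocalRing A] {ω : Dual.D A}
  (hω : Dual.IsDualizing A ω) (hn : Dual.IsNormalized A ω)
include hω hn

theorem del_mem_Icc (d : ℕ) (hd : ringKrullDim A = d) (q : PrimeSpectrum A) :
    0 ≤ del hω q ∧ del hω q ≤ d := by
  have h0 := del_closed hω hn
  have h1 := del_le hω (show q ≤ closedPoint A from le_maximalIdeal q.isPrime.ne_top)
  have h2 := ringKrullDim_quotient_eq hω hn q
  have h3 : ringKrullDim (A ⧸ q.asIdeal) ≤ ringKrullDim A := ringKrullDim_quotient_le q.asIdeal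
  rw [h2, hd] at h3
  have : (del hω q).toNat ≤ d := by exact_mod_cast h3
  lia

/-- `(S₂)` forces all minimal primes to have the top value of the dimension function. -/
theorem del_minimal_eq (hS : LocCoh.HasSk 2 A A) (d : ℕ) (hd : ringKrullDim A = d)
    (r : PrimeSpectrum A) (hr : r.asIdeal ∈ minimalPrimes A) : del hω r = d := by
  haveI := wellFoundedLT_spec (A := A)
  let T1 : Set (PrimeSpectrum A) := {p | p.asIdeal ∈ minimalPrimes A ∧ del hω p = d}
  let T2 : Set (PrimeSpectrum A) := {p | p.asIdeal ∈ minimalPrimes A ∧ del hω p ≠ d}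
  have hfin : {p : PrimeSpectrum A | p.asIdeal ∈ minimalPrimes A}.Finite :=
    (minimalPrimes.finite_of_isNoetherianRing A).preimage fun _ _ _ _ h => PrimeSpectrum.ext h
  have htop : ∃ r₀, r₀ ∈ T1 := by
    have hc : closedPoint A ∈ Module.support A A := by
      rw [Module.mem_support_iff_of_finite, Module.annihilator_eq_bot.mpr inferInstance]
      exact bot_le
    obtain ⟨e, he, hev, -⟩ := exists_max hω hc
    rw [supportDim_eq_localized, Module.supportDim_self_eq_ringKrullDim, hd] at he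
    have he' : d = e := by exact_mod_cast he
    obtain ⟨p, -, -, hp1, -⟩ := exists_of_not_van hω hev
    haveI := p.isPrime
    obtain ⟨m, hm, hmp⟩ := Ideal.exists_minimalPrimes_le (I := (⊥ : Ideal A)) (J := p.asIdeal) bot_le
    refine ⟨⟨m, hm.1.1⟩, hm, ?_⟩
    have := del_le hω (show (⟨m, hm.1.1⟩ : PrimeSpectrum A) ≤ p from hmp)
    have := (del_mem_Icc hω hn d hd ⟨m, hm.1.1⟩).2
    have := del_closed hω hn
    lia
  by_contra hne
  obtain ⟨r₀, hr₀⟩ := htop
  have hcl : ∀ q : PrimeSpectrum A, q ≤ closedPoint A := fun q => le_maximalIdeal q.isPrime.ne_top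
  obtain ⟨q, ⟨⟨a, ha, haq⟩, ⟨b, hb, hbq⟩⟩, hmin⟩ := (wellFounded_lt (α := PrimeSpectrum A)).has_min
    {q | (∃ a ∈ T1, a ≤ q) ∧ (∃ b ∈ T2, b ≤ q)}
    ⟨closedPoint A, ⟨r₀, hr₀, hcl r₀⟩, ⟨r, ⟨hr, hne⟩, hcl r⟩⟩
  have haq' : a < q := haq.lt_of_ne fun h => hb.2 (by
    have : q.asIdeal ≤ b.asIdeal := (h ▸ ha.1 : q.asIdeal ∈ minimalPrimes A).2 hb.1.1 hbq
    rw [le_antisymm hbq this, ← h]; exact ha.2)
  have hbq' : b < q := hbq.lt_of_ne fun h => hb.2 (by
    have : q.asIdeal ≤ a.asIdeal := (h ▸ hb.1 : q.asIdeal ∈ minimalPrimes A).2 ha.1.1 haq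
    rw [h, ← le_antisymm haq this]; exact ha.2)
  have hsupp : ∀ p : PrimeSpectrum A, p ∈ Module.support A A := fun p => by
    rw [Module.mem_support_iff_of_finite, Module.annihilator_eq_bot.mpr inferInstance]
    exact bot_le
  have hdim : (2 : WithBot ℕ∞) ≤ Module.supportDim (Localization.AtPrime q.asIdeal)
      (LocalizedModule q.asIdeal.primeCompl A) := by
    refine le_supportDim_localized hω (hsupp a) haq 2 ?_
    have := del_lt hω hbq'
    have := (del_mem_Icc hω hn d hd b).2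
    have := hb.2
    have := ha.2
    lia
  have hdep : (2 : ℕ∞) ≤ LocCoh.depth (Localization.AtPrime q.asIdeal) (Localization.AtPrime q.asIdeal) := by
    rw [InvFin.depth_self]
    have h := hS q.asIdeal
    rw [show ((2 : ℕ) : WithBot ℕ∞) = 2 from rfl, min_eq_left hdim] at h
    exact WithBot.coe_le_coe.1 h
  have hconn := ((Catenary.isConnected_punctured hdep).image
    (PrimeSpectrum.comap (algebraMap A (Localization.AtPrime q.asIdeal)))
    (PrimeSpectrum.continuous_comap _).continuousOn).isPreconnected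
  have himg : ∀ p : PrimeSpectrum A, p ∈ PrimeSpectrum.comap (algebraMap A (Localization.AtPrime q.asIdeal)) ''
      {x | x.asIdeal ≠ maximalIdeal _} ↔ p < q := by
    intro p
    constructor
    · rintro ⟨x, hx, rfl⟩
      have hle : PrimeSpectrum.comap (algebraMap A (Localization.AtPrime q.asIdeal)) x ≤ q := by
        intro z hz
        by_contra hzq
        exact x.isPrime.ne_top (Ideal.eq_top_of_isUnit_mem _ hz
          (IsLocalization.map_units (Localization.AtPrime q.asIdeal) (⟨z, hzq⟩ : q.asIdeal.primeCompl)))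
      refine hle.lt_of_ne fun h => hx ?_
      have h1 : PrimeSpectrum.comap (algebraMap A (Localization.AtPrime q.asIdeal)) x =
          PrimeSpectrum.comap (algebraMap A (Localization.AtPrime q.asIdeal)) (closedPoint _) :=
        h.trans (PrimeSpectrum.ext (Localization.AtPrime.under_maximalIdeal (I := q.asIdeal)).symm)
      exact congrArg PrimeSpectrum.asIdeal
        (PrimeSpectrum.localization_comap_injective _ q.asIdeal.primeCompl h1)
    · intro hp
      have h1 : p ∈ Set.range (PrimeSpectrum.comap (algebraMap A (Localization.AtPrime q.asIdeal))) := by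
        rw [PrimeSpectrum.localization_comap_range _ q.asIdeal.primeCompl]
        exact Set.disjoint_left.2 fun z hz hzp => hz (hp.le hzp)
      obtain ⟨x, rfl⟩ := h1
      refine ⟨x, fun hx => hp.ne (PrimeSpectrum.ext ?_), rfl⟩
      rw [PrimeSpectrum.comap_asIdeal, hx]
      exact Localization.AtPrime.under_maximalIdeal
  have hclosed : ∀ T : Set (PrimeSpectrum A), T ⊆ {p | p.asIdeal ∈ minimalPrimes A} →
      IsClosed (⋃ c ∈ T, PrimeSpectrum.zeroLocus (c.asIdeal : Set A)) := fun T hT =>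
    (hfin.subset hT).isClosed_biUnion fun c _ => PrimeSpectrum.isClosed_zeroLocus _
  obtain ⟨p, hpq, hp1, hp2⟩ := isPreconnected_closed_iff.1 hconn
    (⋃ c ∈ T1, PrimeSpectrum.zeroLocus (c.asIdeal : Set A))
    (⋃ c ∈ T2, PrimeSpectrum.zeroLocus (c.asIdeal : Set A))
    (hclosed _ fun _ h => h.1) (hclosed _ fun _ h => h.1)
    (fun p _ => by
      haveI := p.isPrime
      obtain ⟨m, hm, hmp⟩ := Ideal.exists_minimalPrimes_le (I := (⊥ : Ideal A)) (J := p.asIdeal) bot_le
      by_cases h : del hω ⟨m, hm.1.1⟩ = d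
      · exact Or.inl (Set.mem_biUnion (show (⟨m, hm.1.1⟩ : PrimeSpectrum A) ∈ T1 from ⟨hm, h⟩) hmp)
      · exact Or.inr (Set.mem_biUnion (show (⟨m, hm.1.1⟩ : PrimeSpectrum A) ∈ T2 from ⟨hm, h⟩) hmp))
    ⟨a, (himg a).2 haq', Set.mem_biUnion ha (fun _ h => h)⟩
    ⟨b, (himg b).2 hbq', Set.mem_biUnion hb (fun _ h => h)⟩
  obtain ⟨c, hc, hcp⟩ := Set.mem_iUnion₂.1 hp1
  obtain ⟨c', hc', hcp'⟩ := Set.mem_iUnion₂.1 hp2
  exact hmin p ⟨⟨c, hc, hcp⟩, ⟨c', hc', hcp'⟩⟩ ((himg p).1 hpq)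

/-- The cohomology of `ω` lives in degrees `[-d, 0]`. -/
theorem subsingleton_hd_outside (d : ℕ) (hd : ringKrullDim A = d) {i : ℤ} (hi : i < -(d : ℤ) ∨ 0 < i) :
    Subsingleton (Dual.HD A ω i) := by
  rw [← Module.support_eq_empty_iff (R := A)]
  refine Set.eq_empty_of_forall_notMem fun q hq => ?_
  rw [Module.mem_support_iff, ← not_subsingleton_iff_nontrivial, ← van_self_iff] at hq
  obtain ⟨p, -, -, h1, h2⟩ := exists_of_not_van hω hq
  have := del_mem_Icc hω hn d hd p
  have := del_mem_Icc hω hn d hd q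
  lia

/-- The lower cohomology of `ω` has small support. -/
theorem del_le_of_hasSk (k : ℕ) (hk : 2 ≤ k) (hS : LocCoh.HasSk k A A) (hS2 : LocCoh.HasSk 2 A A)
    (d : ℕ) (hd : ringKrullDim A = d) {i : ℤ} (hi : i ≠ -(d : ℤ)) {q : PrimeSpectrum A}
    (hq : q ∈ Module.support A (Dual.HD A ω i)) : del hω q ≤ -i - k := by
  have hA : EGA4.IsEquidimModule A A := by
    intro p hp
    rw [Module.annihilator_eq_bot.mpr inferInstance] at hp
    rw [Module.supportDim_self_eq_ringKrullDim, hd,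
      show ringKrullDim (A ⧸ p) = _ from ringKrullDim_quotient_eq hω hn ⟨p, hp.1.1⟩,
      del_minimal_eq hω hn hS2 d hd ⟨p, hp.1.1⟩ hp, Int.toNat_natCast]
  obtain ⟨h1, h2⟩ := (hasSk_iff_supportDim_T hω hn hA d
    ((Module.supportDim_self_eq_ringKrullDim (R := A)).trans hd) k).1 hS i hi
  have hqT : q ∈ Module.support A (T ω A i) := by
    rwa [Module.mem_support_iff, ← not_subsingleton_iff_nontrivial, ← van_self_iff, ← mem_support_iff_not_van] at hq
  by_cases hneg : -i - (k : ℤ) < 0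
  · rw [Module.support_eq_empty_iff.2 (h1 hneg)] at hqT
    exact absurd hqT (Set.notMem_empty q)
  · have h3 := h2 (not_lt.1 hneg)
    rw [supportDim_maximal] at h3
    have := (krullDim_le_iff hω (fun x y hxy hx => Module.mem_support_mono hxy hx) _ _).1 h3 q hqT
      (le_maximalIdeal q.isPrime.ne_top)
    have := del_closed hω hn
    lia

/-- No morphisms from an object built on the lower cohomology of `ω`. -/
theorem subsingleton_hom_high (k : ℕ) (hk : 2 ≤ k) (hS : LocCoh.HasSk k A A) (hS2 : LocCoh.HasSk 2 A A)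
    (d : ℕ) (hd : ringKrullDim A = d) (B : Dual.D A)
    (hB : ∀ i, -(d : ℤ) < i → Nonempty ((DerivedCategory.homologyFunctor (ModuleCat.{u} A) i).obj ω ≅
      (DerivedCategory.homologyFunctor (ModuleCat.{u} A) i).obj B))
    (hB0 : ∀ i, i ≤ -(d : ℤ) → IsZero ((DerivedCategory.homologyFunctor (ModuleCat.{u} A) i).obj B))
    (e : ℤ) (he : e < k) : Subsingleton (B ⟶ ω⟦e⟧) := by
  refine subsingleton_of_amplitude (c := -(d : ℤ) + 1) (d + 1) 0 B (by lia) (fun j hj => ?_) e
    fun j hj _ => ?_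
  · rcases hj with hj | hj
    · exact hB0 j (by lia)
    · haveI : Subsingleton ((DerivedCategory.homologyFunctor (ModuleCat.{u} A) j).obj ω) :=
        subsingleton_hd_outside hω hn d hd (Or.inr hj)
      exact (ModuleCat.isZero_of_subsingleton _).of_iso (hB j (by lia)).some.symm
  · obtain ⟨φ⟩ := hB j (by lia)
    haveI := hω.finite_cohomology j
    haveI : Module.Finite A ((DerivedCategory.homologyFunctor (ModuleCat.{u} A) j).obj B) :=
      Module.Finite.equiv φ.toLinearEquiv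
    refine (van_maximal_iff _).1 (van_range hω (q := closedPoint A) fun r hr _ => Or.inl ?_)
    have hr' : r ∈ Module.support A (Dual.HD A ω j) := by
      rwa [φ.toLinearEquiv.support_eq]
    have := del_le_of_hasSk hω hn k hk hS hS2 d hd (show j ≠ -(d : ℤ) by lia) hr'
    lia

/-- The bottom cohomology sheaf, as the bottom of a distinguished triangle. -/
theorem exists_bottom_triangle (d : ℕ) (hd : ringKrullDim A = d) :
    ∃ (X B : Dual.D A) (f : X ⟶ ω) (g : ω ⟶ B) (h : B ⟶ X⟦(1 : ℤ)⟧),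
      Triangle.mk f g h ∈ distTriang (Dual.D A) ∧ X.IsLE (-(d : ℤ)) ∧ B.IsGE (-(d : ℤ) + 1) ∧
      Nonempty (X ≅ (DerivedCategory.singleFunctor (ModuleCat.{u} A) (-(d : ℤ))).obj
        (ModuleCat.of A (Dual.HD A ω (-(d : ℤ))))) ∧
      (∀ i, -(d : ℤ) < i → Nonempty ((DerivedCategory.homologyFunctor (ModuleCat.{u} A) i).obj ω ≅
        (DerivedCategory.homologyFunctor (ModuleCat.{u} A) i).obj B)) ∧
      (∀ i, i ≤ -(d : ℤ) → IsZero ((DerivedCategory.homologyFunctor (ModuleCat.{u} A) i).obj B)) := by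
  obtain ⟨X, B, hX, hB, f, g, h, hT⟩ :=
    (DerivedCategory.TStructure.t (C := ModuleCat.{u} A)).exists_triangle ω (-(d : ℤ)) (-(d : ℤ) + 1) rfl
  haveI hXle : X.IsLE (-(d : ℤ)) := ⟨hX⟩
  haveI hBge : B.IsGE (-(d : ℤ) + 1) := ⟨hB⟩
  have hB0 : ∀ i, i ≤ -(d : ℤ) → IsZero ((DerivedCategory.homologyFunctor (ModuleCat.{u} A) i).obj B) :=
    fun i hi => DerivedCategory.isZero_of_isGE B (-(d : ℤ) + 1) i (by lia)
  have hX0 : ∀ i, -(d : ℤ) < i → IsZero ((DerivedCategory.homologyFunctor (ModuleCat.{u} A) i).obj X) :=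
    fun i hi => DerivedCategory.isZero_of_isLE X (-(d : ℤ)) i hi
  haveI : X.IsGE (-(d : ℤ)) := (DerivedCategory.isGE_iff X _).2 fun i hi => by
    haveI : Subsingleton ((DerivedCategory.homologyFunctor (ModuleCat.{u} A) i).obj ω) :=
      subsingleton_hd_outside hω hn d hd (Or.inl hi)
    exact (HomologySequence.exact₁ _ hT (i - 1) i (by lia)).isZero_of_both_zeros
      ((hB0 (i - 1) (by lia)).eq_of_src _ _) ((ModuleCat.isZero_of_subsingleton ((DerivedCategory.homologyFunctor (ModuleCat.{u} A) i).obj ω)).eq_of_tgt _ _)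
  refine ⟨X, B, f, g, h, hT, hXle, hBge, ?_, fun i hi => ?_, hB0⟩
  · obtain ⟨Y, ⟨e⟩⟩ := DerivedCategory.exists_iso_singleFunctor_obj_of_isGE_of_isLE X (-(d : ℤ))
    haveI : Mono ((DerivedCategory.homologyFunctor (ModuleCat.{u} A) (-(d : ℤ))).map f) :=
      (HomologySequence.mono_homologyMap_mor₁_iff _ hT (-(d : ℤ) - 1) (-(d : ℤ)) (by lia)).2
        ((hB0 _ (by lia)).eq_of_src _ _)
    haveI : Epi ((DerivedCategory.homologyFunctor (ModuleCat.{u} A) (-(d : ℤ))).map f) :=
      (HomologySequence.epi_homologyMap_mor₁_iff _ hT (-(d : ℤ))).2 ((hB0 _ le_rfl).eq_of_tgt _ _)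
    haveI := isIso_of_mono_of_epi ((DerivedCategory.homologyFunctor (ModuleCat.{u} A) (-(d : ℤ))).map f)
    exact ⟨e ≪≫ (DerivedCategory.singleFunctor (ModuleCat.{u} A) (-(d : ℤ))).mapIso
      ((DerivedCategory.singleFunctorCompHomologyFunctorIso (ModuleCat.{u} A) (-(d : ℤ))).app Y).symm ≪≫
      (DerivedCategory.singleFunctor (ModuleCat.{u} A) (-(d : ℤ))).mapIso
        (((DerivedCategory.homologyFunctor (ModuleCat.{u} A) (-(d : ℤ))).mapIso e).symm ≪≫
          asIso ((DerivedCategory.homologyFunctor (ModuleCat.{u} A) (-(d : ℤ))).map f))⟩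
  · haveI : Mono ((DerivedCategory.homologyFunctor (ModuleCat.{u} A) i).map g) :=
      (HomologySequence.mono_homologyMap_mor₂_iff _ hT i).2 ((hX0 i hi).eq_of_src _ _)
    haveI : Epi ((DerivedCategory.homologyFunctor (ModuleCat.{u} A) i).map g) :=
      (HomologySequence.epi_homologyMap_mor₂_iff _ hT i (i + 1) rfl).2 ((hX0 (i + 1) (by lia)).eq_of_tgt _ _)
    haveI := isIso_of_mono_of_epi ((DerivedCategory.homologyFunctor (ModuleCat.{u} A) i).map g)
    exact ⟨asIso ((DerivedCategory.homologyFunctor (ModuleCat.{u} A) i).map g)⟩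

/-- `A → End(K[d])` is bijective under `(S₂)`, and `K[d]` has no self-extensions under `(S₃)`. -/
theorem exists_bottom_spec (d : ℕ) (hd : ringKrullDim A = d) (hS : LocCoh.HasSk 2 A A) :
    ∃ X : Dual.D A, Nonempty (X ≅ (DerivedCategory.singleFunctor (ModuleCat.{u} A) (-(d : ℤ))).obj
        (ModuleCat.of A (Dual.HD A ω (-(d : ℤ))))) ∧
      Function.Bijective (fun r : A => r • 𝟙 X) ∧
      (LocCoh.HasSk 3 A A → Subsingleton (X ⟶ X⟦(1 : ℤ)⟧)) := by
  obtain ⟨X, B, f, g, h, hT, hX, hB, hiso, hBi, hB0⟩ := exists_bottom_triangle hω hn d hd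
  have hXB : ∀ φ : X ⟶ B, φ = 0 := fun φ =>
    DerivedCategory.TStructure.t.zero_of_isLE_of_isGE φ (-(d : ℤ)) (-(d : ℤ) + 1) (by lia) hX hB
  have hBω : ∀ e : ℤ, e < 2 → Subsingleton (B ⟶ ω⟦e⟧) := fun e he =>
    subsingleton_hom_high hω hn 2 le_rfl hS hS d hd B hBi hB0 e (by exact_mod_cast he)
  have hfg : f ≫ g = 0 := comp_distTriang_mor_zero₁₂ _ hT
  -- restriction along `f` is injective on endomorphisms of `ω`
  have hinj : ∀ ψ : ω ⟶ ω, f ≫ ψ = 0 → ψ = 0 := fun ψ hψ => by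
    obtain ⟨y, hy⟩ := Triangle.yoneda_exact₂ _ hT ψ hψ
    have h1 : y ≫ (shiftFunctorZero (Dual.D A) ℤ).inv.app ω = 0 := @Subsingleton.elim _ (hBω 0 (by norm_num)) _ _
    have h2 : y = 0 := (cancel_mono ((shiftFunctorZero (Dual.D A) ℤ).inv.app ω)).1 (by rw [h1, zero_comp])
    rw [hy, h2]; exact comp_zero
  -- every map `X ⟶ ω` extends to `ω`
  have hsurj : ∀ z : X ⟶ ω, ∃ ψ : ω ⟶ ω, f ≫ ψ = z := fun z => by
    obtain ⟨w, hw⟩ := Triangle.yoneda_exact₂ _ (rot_of_distTriang _ (rot_of_distTriang _ hT))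
      (z⟦(1 : ℤ)⟧') (@Subsingleton.elim _ (hBω 1 (by norm_num)) _ _)
    obtain ⟨ψ, rfl⟩ := Functor.map_surjective (F := shiftFunctor (Dual.D A) (1 : ℤ)) (X := ω) (Y := ω) w
    refine ⟨-ψ, (shiftFunctor (Dual.D A) (1 : ℤ)).map_injective ?_⟩
    rw [Functor.map_comp, Functor.map_neg, Preadditive.comp_neg, ← Preadditive.neg_comp]
    exact hw.symm
  -- composition with `f` is injective on endomorphisms of `X`
  have hmono : ∀ φ : X ⟶ X, φ ≫ f = 0 → φ = 0 := fun φ hφ => by
    have h1 : φ⟦(1 : ℤ)⟧' ≫ (Triangle.mk f g h).rotate.rotate.mor₂ = 0 := by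
      show φ⟦(1 : ℤ)⟧' ≫ (-(f⟦(1 : ℤ)⟧')) = 0
      rw [Preadditive.comp_neg, ← Functor.map_comp, hφ, Functor.map_zero, neg_zero]
    obtain ⟨y, hy⟩ := Triangle.coyoneda_exact₂ _ (rot_of_distTriang _ (rot_of_distTriang _ hT)) _ h1
    haveI : (X⟦(1 : ℤ)⟧).IsLE (-(d : ℤ) - 1) :=
      DerivedCategory.TStructure.t.isLE_shift X (-(d : ℤ)) 1 (-(d : ℤ) - 1) (by lia)
    have hy0 : y = 0 := DerivedCategory.TStructure.t.zero_of_isLE_of_isGE y (-(d : ℤ) - 1) (-(d : ℤ) + 1)
      (by lia) inferInstance hB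
    refine (shiftFunctor (Dual.D A) (1 : ℤ)).map_injective ?_
    rw [hy, hy0, zero_comp, Functor.map_zero]
    rfl
  have hend : Function.Bijective (fun r : A => r • 𝟙 X) := by
    refine ⟨fun r s hrs => hω.toEnd_bijective.1 (sub_eq_zero.1 (hinj _ ?_)), fun φ => ?_⟩
    · have h1 : (r • 𝟙 X) ≫ f = (s • 𝟙 X) ≫ f := congrArg (· ≫ f) hrs
      simp only [Linear.smul_comp, Category.id_comp] at h1
      rw [Preadditive.comp_sub, Linear.comp_smul, Linear.comp_smul, Category.comp_id, h1, sub_self]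
    · obtain ⟨ψ, hψ⟩ := hsurj (φ ≫ f)
      obtain ⟨r, hr⟩ := hω.toEnd_bijective.2 ψ
      refine ⟨r, sub_eq_zero.1 (hmono _ ?_)⟩
      rw [Preadditive.sub_comp, ← hψ, ← hr]
      simp only [Linear.smul_comp, Linear.comp_smul, Category.id_comp, Category.comp_id, sub_self]
  refine ⟨X, hiso, hend, fun hS3 => subsingleton_of_forall_eq 0 fun x => ?_⟩
  have hxf : x ≫ f⟦(1 : ℤ)⟧' = 0 := by
    -- the image in `Hom(X, ω⟦1⟧)` vanishes
    have h1 : Subsingleton (B ⟶ ω⟦(2 : ℤ)⟧) :=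
      subsingleton_hom_high hω hn 3 (by norm_num) hS3 hS d hd B hBi hB0 2 (by norm_num)
    have h2 : (Triangle.mk f g h).rotate.rotate.mor₁ ≫ (x ≫ f⟦(1 : ℤ)⟧')⟦(1 : ℤ)⟧' = 0 := by
      refine (cancel_mono ((shiftFunctorAdd' (Dual.D A) (1 : ℤ) 1 2 (by norm_num)).inv.app ω)).1 ?_
      rw [zero_comp]
      exact @Subsingleton.elim _ h1 _ _
    obtain ⟨w, hw⟩ := Triangle.yoneda_exact₂ _ (rot_of_distTriang _ (rot_of_distTriang _ hT)) _ h2
    obtain ⟨ψ, hψ⟩ := (shiftFunctor (Dual.D A) (1 : ℤ)).map_surjective w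
    have hψ0 : ψ = 0 := @Subsingleton.elim _ (hω.ext_self_subsingleton 1 (by norm_num)) _ _
    refine (shiftFunctor (Dual.D A) (1 : ℤ)).map_injective ?_
    refine hw.trans ?_
    rw [← hψ, show ψ = 0 from hψ0, Functor.map_zero, Functor.map_zero]
    exact comp_zero
  have h3 : x ≫ (Triangle.mk f g h).rotate.rotate.mor₂ = 0 := by
    show x ≫ (-(f⟦(1 : ℤ)⟧')) = 0
    rw [Preadditive.comp_neg, hxf, neg_zero]
  obtain ⟨y, hy⟩ := Triangle.coyoneda_exact₂ _ (rot_of_distTriang _ (rot_of_distTriang _ hT)) x h3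
  rw [hy, show y = 0 from hXB y]
  exact zero_comp

end

end Groth.Agent.DualCx
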