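import Groth.Agent.DualCx.Pairing
import Groth.Prelude.Def_DualLC

/-!
Local cohomology of a normalized dualizing complex.
-/

set_option autoImplicit false
set_option maxHeartbeats 1000000
universe u

namespace Groth.Agent.DualCx

open CategoryTheory Limits DerivedCategory Pretriangulated IsLocalRing Opposite

attribute [local instance] HasDerivedCategory.standard

noncomputable section

variable {A : Type u} [CommRing A] [IsLocalRing A] [IsNoetherianRing A] {ω : Dual.D A}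

/-- The system whose colimit is `Dual2.HDI`. -/
abbrev hdiDiag (ω : Dual.D A) (i : ℤ) : ℕᵒᵖᵒᵖ ⥤ ModuleCat.{u + 1} A :=
  (localCohomology.ringModIdeals (localCohomology.idealPowersDiagram (maximalIdeal A)) ⋙
    DerivedCategory.singleFunctor (ModuleCat.{u} A) 0).op ⋙ (linearYoneda A (Dual.D A)).obj (ω⟦i⟧)

omit [IsNoetherianRing A] in
theorem exists_rep (i : ℤ) (x : Dual2.HDI A (maximalIdeal A) ω i) :
    ∃ (n : ℕ) (y : (hdiDiag ω i).obj (op (op n))), colimit.ι (hdiDiag ω i) (op (op n)) y = x := by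
  let S : Submodule A (Dual2.HDI A (maximalIdeal A) ω i) :=
    ⨆ n : ℕ, LinearMap.range (colimit.ι (hdiDiag ω i) (op (op n))).hom
  have h : ModuleCat.ofHom S.mkQ = 0 := colimit.hom_ext fun j => ModuleCat.hom_ext (LinearMap.ext fun y =>
    (Submodule.Quotient.mk_eq_zero S).2 (Submodule.mem_iSup_of_mem j.unop.unop ⟨y, rfl⟩))
  have hx : x ∈ S := (Submodule.Quotient.mk_eq_zero S).1 (congrArg (fun g => g.hom x) h)
  have hmono : Monotone fun n : ℕ => LinearMap.range (colimit.ι (hdiDiag ω i) (op (op n))).hom := fun n k hnk => by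
    rintro _ ⟨y, rfl⟩
    exact ⟨(hdiDiag ω i).map ((homOfLE hnk).op.op : (op (op n) : ℕᵒᵖᵒᵖ) ⟶ op (op k)) y,
      congrArg (fun g => g.hom y) (colimit.w (hdiDiag ω i) ((homOfLE hnk).op.op : (op (op n) : ℕᵒᵖᵒᵖ) ⟶ op (op k)))⟩
  obtain ⟨n, y, hy⟩ := (Submodule.mem_iSup_of_directed _ hmono.directed_le).1 hx
  exact ⟨n, y, hy⟩

variable (hω : Dual.IsDualizing A ω) (hn : Dual.IsNormalized A ω)
include hω hn

theorem subsingleton_hdi {i : ℤ} (hi : i ≠ 0) : Subsingleton (Dual2.HDI A (maximalIdeal A) ω i) := by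
  refine subsingleton_of_forall_eq 0 fun x => ?_
  obtain ⟨n, y, rfl⟩ := exists_rep i x
  have h : Subsingleton ((hdiDiag ω i).obj (op (op n))) := subsingleton_T_finiteLength hω hn (finite_Q n) hi
  rw [@Subsingleton.elim _ h y 0, map_zero]

variable {E : Type u} [AddCommGroup E] [Module A E] {f : (A ⧸ maximalIdeal A) →ₗ[A] E}
include f

theorem nonempty_hdi_zero (hf : InjHull.IsInjectiveHull f) :
    Nonempty (Dual2.HDI A (maximalIdeal A) ω 0 ≃ₗ[A] E) := by
  obtain ⟨φ, hφ, hc⟩ := exists_family hω hn hf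
  let Φ : Fam ω E := ⟨φ, hφ, hc⟩
  let s : ∀ n : ℕ, T ω (Q A n) 0 →ₗ[A] E := fun n => (Φ.φ n).comp (pre ω 0 (tr (Nat.le_succ n)))
  have hcomp : ∀ (n k : ℕ) (h : n ≤ k) (y : T ω (Q A n) 0), s k (pre ω 0 (tr h) y) = s n y := by
    intro n k h y
    show Φ.φ k (pre ω 0 (tr (Nat.le_succ k)) (pre ω 0 (tr h) y)) = Φ.φ n (pre ω 0 (tr (Nat.le_succ n)) y)
    rw [← Φ.compat_le h, ← pre_comp, ← pre_comp]
    congr 1
    refine congrArg (fun g => pre ω 0 g y) ?_
    exact Submodule.linearMap_qext _ (LinearMap.ext fun c => by simp [tr])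
  let c : Cocone (hdiDiag ω 0) :=
    { pt := ModuleCat.of A (ULift.{u + 1} E)
      ι :=
        { app := fun j => ModuleCat.ofHom (ULift.moduleEquiv.symm.toLinearMap.comp (s j.unop.unop))
          naturality := fun j k g => ModuleCat.hom_ext (LinearMap.ext fun y =>
            congrArg ULift.up (hcomp _ _ (leOfHom g.unop.unop) y)) } }
  let D : Dual2.HDI A (maximalIdeal A) ω 0 →ₗ[A] E :=
    ULift.moduleEquiv.toLinearMap.comp (colimit.desc (hdiDiag ω 0) c).hom
  have hD : ∀ (j : ℕᵒᵖᵒᵖ) (y : (hdiDiag ω 0).obj j), D (colimit.ι (hdiDiag ω 0) j y) = s j.unop.unop y :=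
    fun j y => congrArg (fun g => ULift.down (g.hom y)) (colimit.ι_desc c j)
  refine ⟨LinearEquiv.ofBijective D ⟨(injective_iff_map_eq_zero D).2 fun x hx => ?_, fun y => ?_⟩⟩
  · obtain ⟨n, y, rfl⟩ := exists_rep 0 x
    have h1 : pre ω 0 (tr (Nat.le_succ n)) y = 0 :=
      (injective_iff_map_eq_zero (Φ.φ n)).1 (Φ.inj n) _ ((hD _ y).symm.trans hx)
    let g : (op (op n) : ℕᵒᵖᵒᵖ) ⟶ op (op (n + 1)) := (homOfLE (Nat.le_succ n)).op.op
    have h2 : (hdiDiag ω 0).map g y = 0 := h1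
    refine Eq.trans (congrArg (fun q => q.hom y) (colimit.w (hdiDiag ω 0) g)).symm ?_
    show (colimit.ι (hdiDiag ω 0) (op (op (n + 1)))).hom ((hdiDiag ω 0).map g y) = 0
    rw [h2, map_zero]
  · obtain ⟨n, hn'⟩ := InjHull.isPowerTorsion_hull hf y
    let N := Submodule.span A {y}
    have hN : ∀ a ∈ maximalIdeal A ^ (n + 1), ∀ z : N, a • z = 0 := fun a ha ⟨z, hz⟩ => Subtype.ext (by
      obtain ⟨b, rfl⟩ := Submodule.mem_span_singleton.1 hz
      show a • b • y = 0
      rw [smul_comm, hn' a (Ideal.pow_le_pow_right (Nat.le_succ n) ha), smul_zero])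
    have hfl : IsFiniteLength A N := InjHull.isFiniteLength_of_pow_smul_eq_zero _ (n + 1) _ inferInstance hN
    obtain ⟨x, hx⟩ := (evalMap_bijective hω hn hf hfl hN (Φ.φ n) (Φ.inj n)).2 N.subtype
    refine ⟨colimit.ι (hdiDiag ω 0) (op (op (n + 1))) (pre ω 0 (span hN ⟨y, Submodule.mem_span_singleton_self y⟩) x), ?_⟩
    rw [hD]
    show Φ.φ (n + 1) (pre ω 0 (tr (Nat.le_succ (n + 1))) _) = y
    rw [Φ.compat]
    exact LinearMap.congr_fun hx ⟨y, Submodule.mem_span_singleton_self y⟩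

end

end Groth.Agent.DualCx
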