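import Groth.Prelude.Def_Wider
import Mathlib.Algebra.Homology.DerivedCategory.SingleTriangle
import Mathlib.Algebra.Homology.DerivedCategory.Linear
import Mathlib.Algebra.Category.ModuleCat.Abelian
import Mathlib.Algebra.Homology.ShortComplex.ModuleCat
import Mathlib.Algebra.Algebra.Basic
import Mathlib.LinearAlgebra.Quotient.Basic

/-!
Morphisms from modules into shifts of a fixed object of `D(A)`: the long exact sequence.
-/

set_option autoImplicit false
set_option maxHeartbeats 1000000
universe u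

namespace Groth.Agent.DualCx

open CategoryTheory Limits DerivedCategory Pretriangulated

attribute [local instance] HasDerivedCategory.standard

noncomputable section

variable {A : Type u} [CommRing A]

/-- `Hom_D(M, ω[i])`. -/
abbrev T (ω : Dual.D A) (M : Type u) [AddCommGroup M] [Module A M] (i : ℤ) : Type _ := Dual.inD A M ⟶ ω⟦i⟧

variable {ω : Dual.D A} {L M N P : Type u} [AddCommGroup L] [Module A L] [AddCommGroup M] [Module A M]
  [AddCommGroup N] [Module A N] [AddCommGroup P] [Module A P] {i j : ℤ}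

/-- Precomposition with a linear map. -/
def pre (ω : Dual.D A) (i : ℤ) (f : M →ₗ[A] N) : T ω N i →ₗ[A] T ω M i :=
  Linear.leftComp A (ω⟦i⟧) ((DerivedCategory.singleFunctor (ModuleCat.{u} A) 0).map (ModuleCat.ofHom f))

theorem pre_apply (f : M →ₗ[A] N) (x : T ω N i) :
    pre ω i f x = (DerivedCategory.singleFunctor (ModuleCat.{u} A) 0).map (ModuleCat.ofHom f) ≫ x := rfl

theorem pre_comp (f : L →ₗ[A] M) (g : M →ₗ[A] N) (x : T ω N i) :
    pre ω i (g.comp f) x = pre ω i f (pre ω i g x) := by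
  simp only [pre_apply]
  rw [← Category.assoc, ← Functor.map_comp]
  rfl

theorem pre_id (x : T ω M i) : pre ω i LinearMap.id x = x := by
  rw [pre_apply, show ModuleCat.ofHom (LinearMap.id : M →ₗ[A] M) = 𝟙 _ from rfl, CategoryTheory.Functor.map_id,
    Category.id_comp]

theorem pre_zero (x : T ω N i) : pre ω i (0 : M →ₗ[A] N) x = 0 := by
  rw [pre_apply, show ModuleCat.ofHom (0 : M →ₗ[A] N) = 0 from rfl, Functor.map_zero, zero_comp]

theorem pre_smul (a : A) (f : M →ₗ[A] N) (x : T ω N i) : pre ω i (a • f) x = a • pre ω i f x := by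
  rw [pre_apply, show ModuleCat.ofHom (a • f) = a • ModuleCat.ofHom f from rfl, Functor.map_smul, Linear.smul_comp]
  rfl

theorem pre_smul_id (a : A) (x : T ω M i) : pre ω i (a • LinearMap.id) x = a • x := by
  rw [pre_smul, pre_id]

/-- An element killing a module kills its homs. -/
theorem smul_eq_zero_of_killed {a : A} (h : ∀ m : M, a • m = 0) (x : T ω M i) : a • x = 0 := by
  rw [← pre_smul_id, show (a • LinearMap.id : M →ₗ[A] M) = 0 from LinearMap.ext h, pre_zero]

theorem subsingleton_of_subsingleton [Subsingleton M] : Subsingleton (T ω M i) :=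
  subsingleton_of_forall_eq 0 fun x => by
    rw [← one_smul A x]
    exact smul_eq_zero_of_killed (fun m => Subsingleton.elim _ _) x

/-- The linear equivalence induced by an isomorphism of modules. -/
def congr (ω : Dual.D A) (i : ℤ) (e : M ≃ₗ[A] N) : T ω N i ≃ₗ[A] T ω M i :=
  LinearEquiv.ofLinear (pre ω i e.toLinearMap) (pre ω i e.symm.toLinearMap)
    (LinearMap.ext fun x => by
      rw [LinearMap.comp_apply, ← pre_comp, show e.symm.toLinearMap.comp e.toLinearMap = LinearMap.id from
        LinearMap.ext e.symm_apply_apply, pre_id, LinearMap.id_apply])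
    (LinearMap.ext fun x => by
      rw [LinearMap.comp_apply, ← pre_comp, show e.toLinearMap.comp e.symm.toLinearMap = LinearMap.id from
        LinearMap.ext e.apply_symm_apply, pre_id, LinearMap.id_apply])

theorem subsingleton_congr (e : M ≃ₗ[A] N) : Subsingleton (T ω M i) ↔ Subsingleton (T ω N i) :=
  (congr ω i e).symm.toEquiv.subsingleton_congr

theorem aux_right {C : Type*} [Category C] {X Y Z W : C} {d : X ⟶ Y} {m : Y ⟶ Z} {z : Y ⟶ W} {e : W ≅ Z} {x : X ⟶ W}
    (hm : m = z ≫ e.hom) (hx : x = d ≫ z) : d ≫ m ≫ e.inv = x := by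
  rw [hm, hx, Category.assoc, e.hom_inv_id, Category.comp_id]

theorem aux_zero {C : Type*} [Category C] [Preadditive C] {X Y Z W V : C} {d : X ⟶ Y} {a : Y ⟶ Z} {b : Z ⟶ W}
    {m : Y ⟶ W} (c : W ⟶ V) (hm : m = a ≫ b) (hd : d ≫ a = 0) : d ≫ m ≫ c = 0 := by
  rw [hm, Category.assoc, ← Category.assoc, hd, zero_comp]

/-- A short exact sequence given by linear maps. -/
structure SES (f : L →ₗ[A] M) (g : M →ₗ[A] N) : Prop where
  inj : Function.Injective f
  exact : Function.Exact f g
  surj : Function.Surjective g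

theorem ses_quot (K : Submodule A M) : SES K.subtype K.mkQ :=
  ⟨K.subtype_injective, LinearMap.exact_subtype_mkQ K, K.mkQ_surjective⟩

theorem ses_range {f : L →ₗ[A] M} (hf : Function.Injective f) : SES f (LinearMap.range f).mkQ :=
  ⟨hf, LinearMap.exact_map_mkQ_range f, Submodule.mkQ_surjective _⟩

variable {f : L →ₗ[A] M} {g : M →ₗ[A] N}

namespace SES

variable (h : SES f g)

/-- The associated short complex. -/
def sc : ShortComplex (ModuleCat.{u} A) :=
  ShortComplex.mk (ModuleCat.ofHom f) (ModuleCat.ofHom g) (ModuleCat.hom_ext h.exact.linearMap_comp_eq_zero)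

theorem shortExact : h.sc.ShortExact where
  exact := (ShortComplex.moduleCat_exact_iff _).2 fun w hw => (h.exact w).1 hw
  mono_f := (ModuleCat.mono_iff_injective _).2 h.inj
  epi_g := (ModuleCat.epi_iff_surjective _).2 h.surj

/-- The connecting map. -/
def delta (ω : Dual.D A) (hij : i + 1 = j) : T ω L i →ₗ[A] T ω N j where
  toFun x := h.shortExact.singleδ ≫ x⟦(1 : ℤ)⟧' ≫ (shiftFunctorAdd' (Dual.D A) i 1 j hij).inv.app ω
  map_add' x y := by
    erw [Functor.map_add, Preadditive.add_comp, Preadditive.comp_add]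
  map_smul' a x := by
    erw [Functor.map_smul, Linear.smul_comp, Linear.comp_smul]
    rfl

include h

theorem exact_mid (x : T ω M i) (hx : pre ω i f x = 0) : ∃ y, pre ω i g y = x := by
  obtain ⟨y, hy⟩ := Triangle.yoneda_exact₂ _ h.shortExact.singleTriangle_distinguished x hx
  exact ⟨y, hy.symm⟩

theorem exact_left (hij : i + 1 = j) (x : T ω L i) (hx : h.delta ω hij x = 0) : ∃ y, pre ω i f y = x := by
  have hT := rot_of_distTriang _ h.shortExact.singleTriangle_distinguished
  have hT2 := rot_of_distTriang _ hT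
  have h1 : h.shortExact.singleTriangle.mor₃ ≫ x⟦(1 : ℤ)⟧' = 0 := by
    have h2 : h.delta ω hij x = (h.shortExact.singleδ ≫ x⟦(1 : ℤ)⟧') ≫ (shiftFunctorAdd' (Dual.D A) i 1 j hij).inv.app ω :=
      (Category.assoc h.shortExact.singleδ (x⟦(1 : ℤ)⟧') ((shiftFunctorAdd' (Dual.D A) i 1 j hij).inv.app ω)).symm
    rw [hx] at h2
    exact (cancel_mono ((shiftFunctorAdd' (Dual.D A) i 1 j hij).inv.app ω)).1 (h2.symm.trans zero_comp.symm)
  obtain ⟨z, hz⟩ := Triangle.yoneda_exact₂ _ hT2 (x⟦(1 : ℤ)⟧') h1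
  obtain ⟨y, hy⟩ := (shiftFunctor (Dual.D A) (1 : ℤ)).map_surjective (-z)
  refine ⟨y, (shiftFunctor (Dual.D A) (1 : ℤ)).map_injective ?_⟩
  refine Eq.trans ?_ hz.symm
  rw [pre_apply]
  erw [Functor.map_comp, hy]
  show _ = (-(h.shortExact.singleTriangle.mor₁⟦(1 : ℤ)⟧')) ≫ z
  rw [Preadditive.neg_comp]
  erw [Preadditive.comp_neg]
  rfl

theorem exact_right (hij : i + 1 = j) (x : T ω N j) (hx : pre ω j g x = 0) : ∃ y, h.delta ω hij y = x := by
  obtain ⟨z, hz⟩ := Triangle.yoneda_exact₃ _ h.shortExact.singleTriangle_distinguished x hx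
  obtain ⟨y, hy⟩ := (shiftFunctor (Dual.D A) (1 : ℤ)).map_surjective
    (z ≫ (shiftFunctorAdd' (Dual.D A) i 1 j hij).hom.app ω)
  refine ⟨y, ?_⟩
  show h.shortExact.singleδ ≫ y⟦(1 : ℤ)⟧' ≫ (shiftFunctorAdd' (Dual.D A) i 1 j hij).inv.app ω = x
  exact aux_right (e := ((shiftFunctorAdd' (Dual.D A) i 1 j hij).app ω)) hy hz
theorem pre_f_g (x : T ω N i) : pre ω i f (pre ω i g x) = 0 := by
  rw [← pre_comp, h.exact.linearMap_comp_eq_zero, pre_zero]

theorem delta_pre (hij : i + 1 = j) (x : T ω M i) : h.delta ω hij (pre ω i f x) = 0 := by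
  show h.shortExact.singleδ ≫ (pre ω i f x)⟦(1 : ℤ)⟧' ≫ _ = 0
  exact aux_zero _ ((shiftFunctor (Dual.D A) (1 : ℤ)).map_comp ((DerivedCategory.singleFunctor (ModuleCat.{u} A) 0).map (ModuleCat.ofHom f)) x)
    (comp_distTriang_mor_zero₃₁ h.shortExact.singleTriangle h.shortExact.singleTriangle_distinguished)

theorem pre_delta (hij : i + 1 = j) (x : T ω L i) : pre ω j g (h.delta ω hij x) = 0 := by
  rw [pre_apply]
  show _ ≫ h.shortExact.singleδ ≫ _ = 0
  rw [← Category.assoc]
  have h0 : (DerivedCategory.singleFunctor (ModuleCat.{u} A) 0).map (ModuleCat.ofHom g) ≫ h.shortExact.singleδ = 0 :=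
    comp_distTriang_mor_zero₂₃ (h.shortExact.singleTriangle) h.shortExact.singleTriangle_distinguished
  erw [h0, zero_comp]

theorem subsingleton_mid (h₁ : Subsingleton (T ω L i)) (h₃ : Subsingleton (T ω N i)) : Subsingleton (T ω M i) :=
  subsingleton_of_forall_eq 0 fun x => by
    obtain ⟨y, rfl⟩ := h.exact_mid x (Subsingleton.elim _ _)
    rw [@Subsingleton.elim _ h₃ y 0, map_zero]

theorem subsingleton_left (h₂ : Subsingleton (T ω M i)) (h₃ : Subsingleton (T ω N j)) (hij : i + 1 = j) :
    Subsingleton (T ω L i) :=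
  subsingleton_of_forall_eq 0 fun x => by
    obtain ⟨y, rfl⟩ := h.exact_left hij x (Subsingleton.elim _ _)
    rw [@Subsingleton.elim _ h₂ y 0, map_zero]

theorem subsingleton_right (h₁ : Subsingleton (T ω L i)) (h₂ : Subsingleton (T ω M j)) (hij : i + 1 = j) :
    Subsingleton (T ω N j) :=
  subsingleton_of_forall_eq 0 fun x => by
    obtain ⟨y, rfl⟩ := h.exact_right hij x (Subsingleton.elim _ _)
    rw [@Subsingleton.elim _ h₁ y 0, map_zero]

end SES

end

end Groth.Agent.DualCx
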