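import Groth.Agent.DualCx.LocGlobal
import Groth.Agent.DualCx.Pointwise
import Groth.Agent.DualCx.RHomFinite
import Groth.Agent.CechX.KoszulBasic

/-!
Pointwise finite injective dimension kills `Hom_D(M, R[i])` in high degrees.
-/

set_option autoImplicit false
set_option maxHeartbeats 1000000
universe u

namespace Groth.Agent.DualCx

open CategoryTheory Limits DerivedCategory Pretriangulated

attribute [local instance] HasDerivedCategory.standard

noncomputable section

variable {A : Type u} [CommRing A]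

/-- Every element is killed by a power of `c`. -/
def Kil (c : A) (X : Type*) [AddCommGroup X] [Module A X] : Prop := ∀ x : X, ∃ e : ℕ, c ^ e • x = 0

theorem kil_of_subsingleton (c : A) {X : Type*} [AddCommGroup X] [Module A X] (h : Subsingleton X) : Kil c X :=
  fun _ => ⟨0, Subsingleton.elim _ _⟩

theorem kil_mid {c : A} {X Y Z : Type*} [AddCommGroup X] [Module A X] [AddCommGroup Y] [Module A Y] [AddCommGroup Z]
    [Module A Z] (f : X →ₗ[A] Y) (g : Y →ₗ[A] Z) (h : ∀ y, g y = 0 → ∃ x, f x = y) (hX : Kil c X) (hZ : Kil c Z) :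
    Kil c Y := fun y => by
  obtain ⟨e, he⟩ := hZ (g y)
  obtain ⟨x, hx⟩ := h (c ^ e • y) (by rw [map_smul, he])
  obtain ⟨e', he'⟩ := hX x
  exact ⟨e' + e, by rw [pow_add, mul_smul, ← hx, ← map_smul, he', map_zero]⟩

theorem kil_equiv {c : A} {X Y : Type*} [AddCommGroup X] [Module A X] [AddCommGroup Y] [Module A Y] (e : X ≃ₗ[A] Y)
    (hX : Kil c X) : Kil c Y := fun y => by
  obtain ⟨n, hn⟩ := hX (e.symm y)
  exact ⟨n, e.symm.injective (by rw [map_smul, hn, map_zero])⟩

theorem kil_T_of_killed {R : Dual.D A} {M : Type u} [AddCommGroup M] [Module A M] {c : A} (h : ∀ m : M, c • m = 0)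
    (i : ℤ) : Kil c (T R M i) :=
  fun x => ⟨1, by rw [pow_one]; exact smul_eq_zero_of_killed h x⟩

variable [IsNoetherianRing A]

/-- A finite module killed by `q` looks like copies of `A/q` near `q`. -/
theorem exists_kil_transfer (q : PrimeSpectrum A) (H : Type u) [AddCommGroup H] [Module A H] [Module.Finite A H]
    (hq : ∀ a ∈ q.asIdeal, ∀ x : H, a • x = 0) :
    ∃ c : A, c ∉ q.asIdeal ∧ ∀ (c' : A), c ∣ c' → ∀ (R : Dual.D A) (i : ℤ),
      Kil c' (T R (A ⧸ q.asIdeal) i) → Kil c' (T R H i) := by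
  revert hq
  refine IsNoetherianRing.induction_on_isQuotientEquivQuotientPrime (M := H)
    (motive := fun N _ _ _ => (∀ a ∈ q.asIdeal, ∀ x : N, a • x = 0) →
      ∃ c : A, c ∉ q.asIdeal ∧ ∀ (c' : A), c ∣ c' → ∀ (R : Dual.D A) (i : ℤ),
        Kil c' (T R (A ⧸ q.asIdeal) i) → Kil c' (T R N i)) A inferInstance ?_ ?_ ?_
  · intro N _ _ _ hN _
    exact ⟨1, fun h => q.isPrime.ne_top ((Ideal.eq_top_iff_one _).2 h),
      fun c' _ R i _ => kil_of_subsingleton c' subsingleton_of_subsingleton⟩
  · intro N _ _ _ p e hN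
    have hle : q.asIdeal ≤ p.asIdeal := fun a ha => by
      have h1 := congrArg e (hN a ha (e.symm (Submodule.Quotient.mk 1)))
      rw [map_smul, map_zero, LinearEquiv.apply_symm_apply, ← Submodule.Quotient.mk_smul,
        Submodule.Quotient.mk_eq_zero, smul_eq_mul, mul_one] at h1
      exact h1
    rcases hle.eq_or_lt with heq | hlt
    · refine ⟨1, fun h => q.isPrime.ne_top ((Ideal.eq_top_iff_one _).2 h), fun c' _ R i h => ?_⟩
      exact kil_equiv (congr R i (e.trans (Submodule.quotEquivOfEq _ _ heq.symm))) h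
    · obtain ⟨c, hcp, hcq⟩ := SetLike.exists_of_lt hlt
      refine ⟨c, hcq, fun c' hc' R i _ => kil_T_of_killed (fun w => ?_) i⟩
      obtain ⟨d, rfl⟩ := hc'
      apply e.injective
      obtain ⟨a, ha⟩ := Submodule.Quotient.mk_surjective _ (e w)
      rw [map_smul, map_zero, ← ha, ← Submodule.Quotient.mk_smul, Submodule.Quotient.mk_eq_zero]
      exact p.asIdeal.mul_mem_right a (p.asIdeal.mul_mem_right d hcp)
  · intro N₁ _ _ _ N₂ _ _ _ N₃ _ _ _ f g hf hg hfg h₁ h₃ hN
    obtain ⟨c₁, hc₁, h₁'⟩ := h₁ fun a ha w => hf (by rw [map_smul, hN a ha, map_zero])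
    obtain ⟨c₃, hc₃, h₃'⟩ := h₃ fun a ha w => by
      obtain ⟨v, rfl⟩ := hg w
      rw [← map_smul, hN a ha, map_zero]
    have hs : SES f g := ⟨hf, hfg, hg⟩
    refine ⟨c₁ * c₃, fun h => (q.isPrime.mem_or_mem h).elim hc₁ hc₃, fun c' hc' R i h => ?_⟩
    exact kil_mid (pre R i g) (pre R i f) (fun y hy => hs.exact_mid y hy)
      (h₃' c' ((dvd_mul_left c₃ c₁).trans hc') R i h) (h₁' c' ((dvd_mul_right c₁ c₃).trans hc') R i h)

omit [IsNoetherianRing A] in
theorem kil_of_amplitude {R : Dual.D A} {c : A} {lo : ℤ} :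
    ∀ (k : ℕ) (d : ℤ) (N : Dual.D A), d < lo + k →
      (∀ j, (j < lo ∨ d < j) → IsZero ((DerivedCategory.homologyFunctor (ModuleCat.{u} A) j).obj N)) →
      ∀ i : ℤ, (∀ j, lo ≤ j → j ≤ d → Kil c (T R ((DerivedCategory.homologyFunctor (ModuleCat.{u} A) j).obj N) (i + j))) →
      Kil c (N ⟶ R⟦i⟧) := by
  intro k
  induction k with
  | zero =>
    intro d N hd hz i _
    haveI : N.IsLE (lo - 1) := (DerivedCategory.isLE_iff N (lo - 1)).2 fun j _ => hz j (by lia)
    haveI : N.IsGE lo := (DerivedCategory.isGE_iff N lo).2 fun j hj => hz j (Or.inl hj)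
    exact kil_of_subsingleton c
      ⟨fun a b => (DerivedCategory.TStructure.t.isZero N (lo - 1) lo (by lia)).eq_of_src a b⟩
  | succ k ih =>
    intro d N hd hz i hi
    obtain ⟨X, B, f, g, w, hT, hX, hlt, ⟨e⟩⟩ := DRingKP.exists_top_triangle N d fun j hj => hz j (Or.inr (by lia))
    have hX' : ∀ j, (j < lo ∨ d - 1 < j) → IsZero ((DerivedCategory.homologyFunctor (ModuleCat.{u} A) j).obj X) := by
      intro j hj
      by_cases hj' : j < d
      · exact (hz j (by lia)).of_iso (hlt j hj').some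
      · exact hX j (by lia)
    have h1 : Kil c (X ⟶ R⟦i⟧) := ih (d - 1) X (by lia) hX' i fun j hcj hjd => by
      obtain ⟨e'⟩ := hlt j (by lia)
      exact kil_equiv (congr R (i + j) e'.toLinearEquiv) (hi j hcj (by lia))
    have h2 : Kil c (B ⟶ R⟦i⟧) := by
      refine kil_equiv ((Linear.homCongr A e (Iso.refl (R⟦i⟧))).trans (singleEquiv R _ d i)).symm ?_
      by_cases hld : lo ≤ d
      · exact hi d hld le_rfl
      · haveI := ModuleCat.subsingleton_of_isZero (hz d (Or.inl (by lia)))
        exact kil_of_subsingleton c subsingleton_of_subsingleton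
    exact kil_mid (Linear.leftComp A (R⟦i⟧) g) (Linear.leftComp A (R⟦i⟧) f)
      (fun y hy => by obtain ⟨x, hx⟩ := Triangle.yoneda_exact₂ _ hT y hy; exact ⟨x, hx.symm⟩) h2 h1

omit [IsNoetherianRing A] in
/-- The shift on the source. -/
theorem kil_shift_source {R X : Dual.D A} {c : A} {i : ℤ} (h : Kil c (X ⟶ R⟦i - 1⟧)) :
    Kil c (X⟦(1 : ℤ)⟧ ⟶ R⟦i⟧) := fun f => by
  obtain ⟨v, hv⟩ := (shiftFunctor (Dual.D A) (1 : ℤ)).map_surjective
    (f ≫ (shiftFunctorAdd' (Dual.D A) (i - 1) 1 i (by lia)).hom.app R)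
  obtain ⟨e, he⟩ := h v
  refine ⟨e, (cancel_mono ((shiftFunctorAdd' (Dual.D A) (i - 1) 1 i (by lia)).hom.app R)).1 ?_⟩
  rw [Linear.smul_comp, zero_comp]
  refine (congrArg ((c ^ e) • ·) hv.symm).trans ?_
  rw [← Functor.map_smul]
  erw [he, Functor.map_zero]

/-- A bounded complex with finite homology killed by `q`, with `A/q` on top, orthogonal to high shifts. -/
theorem exists_koszul {R : Dual.D A} {b : ℤ} (hb : ∀ j : ℤ, b < j → Subsingleton (Dual.HD A R j)) (q : Ideal A) :
    ∃ (r : ℕ) (N : Dual.D A), (∀ i : ℤ, b + r < i → Subsingleton (N ⟶ R⟦i⟧)) ∧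
      (∀ j : ℤ, (j < -(r : ℤ) ∨ 0 < j) → IsZero ((DerivedCategory.homologyFunctor (ModuleCat.{u} A) j).obj N)) ∧
      (∀ j : ℤ, Module.Finite A (Dual.HD A N j)) ∧
      (∀ j : ℤ, ∀ a ∈ q, ∀ x : Dual.HD A N j, a • x = 0) ∧
      Nonempty (((DerivedCategory.homologyFunctor (ModuleCat.{u} A) 0).obj N : Type u) ≃ₗ[A] (A ⧸ q)) := by
  obtain ⟨G, hG⟩ := (IsNoetherian.noetherian q : q.FG)
  let fs := G.toList
  have hfs : Ideal.ofList fs = q := by
    rw [Ideal.ofList, ← hG]
    exact congrArg Ideal.span (by ext x; simp [fs])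
  let M : ModuleCat.{u} A := ModuleCat.of A A
  let Kc : List A → Dual.D A := fun l => DerivedCategory.Q.obj (CohIII.koszulCx M l)
  have hstep : ∀ l : List A,
      (∀ i : ℤ, b + (l.length : ℕ) < i → Subsingleton (Kc l ⟶ R⟦i⟧)) ∧
      (∀ j : ℤ, (j < -(l.length : ℤ) ∨ 0 < j) → Subsingleton (Dual.HD A (Kc l) j)) ∧
      (∀ j : ℤ, Module.Finite A (Dual.HD A (Kc l) j)) := by
    intro l
    induction l with
    | nil =>
      let e : Dual.inD A A ≅ Kc [] := (DerivedCategory.singleFunctorIsoCompQ (ModuleCat.{u} A) 0).app M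
      refine ⟨fun i hi => ?_, fun j hj => ?_, fun j => ?_⟩
      · haveI : Subsingleton (T R A i) := (homEquiv R i).toEquiv.subsingleton_congr.2 (hb i (by simpa using hi))
        exact (Linear.homCongr A e (Iso.refl (R⟦i⟧))).toEquiv.subsingleton_congr.1 inferInstance
      · haveI := subsingleton_hd_inD (A := A) A (show j ≠ 0 by simp at hj; lia)
        exact (((DerivedCategory.homologyFunctor (ModuleCat.{u} A) j).mapIso e).toLinearEquiv.toEquiv.subsingleton_congr).1
          inferInstance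
      · haveI := finite_hd_inD (A := A) A j
        exact Module.Finite.equiv ((DerivedCategory.homologyFunctor (ModuleCat.{u} A) j).mapIso e).toLinearEquiv
    | cons f l ih =>
      obtain ⟨ih1, ih2, ih3⟩ := ih
      let φ := f • 𝟙 (CohIII.koszulCx M l)
      let S : Triangle (Dual.D A) := DerivedCategory.Q.mapTriangle.obj (CochainComplex.mappingCone.triangle φ)
      have hS : S ∈ distTriang (Dual.D A) := DerivedCategory.mappingCone_triangle_distinguished φ
      have hrot := rot_of_distTriang _ hS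
      refine ⟨fun i hi => subsingleton_of_forall_eq 0 fun x => ?_, fun j hj => ?_, fun j => ?_⟩
      · have h1 : S.mor₂ ≫ x = 0 := by
          haveI : Subsingleton (Kc l ⟶ R⟦i⟧) := ih1 i (by simp at hi; lia)
          exact Subsingleton.elim (α := Kc l ⟶ R⟦i⟧) _ _
        obtain ⟨y, hy⟩ := Triangle.yoneda_exact₃ S hS x h1
        have h2 : Subsingleton ((Kc l)⟦(1 : ℤ)⟧ ⟶ R⟦i⟧) := by
          refine subsingleton_of_forall_eq 0 fun v => ?_
          obtain ⟨w, hw⟩ := (shiftFunctor (Dual.D A) (1 : ℤ)).map_surjective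
            (v ≫ (shiftFunctorAdd' (Dual.D A) (i - 1) 1 i (by lia)).hom.app R)
          refine (cancel_mono ((shiftFunctorAdd' (Dual.D A) (i - 1) 1 i (by lia)).hom.app R)).1 (hw.symm.trans ?_)
          rw [show w = 0 from @Subsingleton.elim _ (ih1 (i - 1) (by simp at hi; lia)) _ _]
          erw [Functor.map_zero, zero_comp]
        rw [hy, show y = 0 from @Subsingleton.elim _ h2 _ _]
        exact comp_zero
      · refine (homEquiv (Kc (f :: l)) j).toEquiv.subsingleton_congr.1 ?_
        have hS' := Triangle.shift_distinguished _ hrot j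
        have h1 : Subsingleton (T (Kc l) A j) :=
          (homEquiv (Kc l) j).toEquiv.subsingleton_congr.2 (ih2 j (by simp at hj; lia))
        have h3 : Subsingleton (Dual.inD A A ⟶ ((Kc l)⟦(1 : ℤ)⟧)⟦j⟧) :=
          (shiftT (Kc l) (Dual.inD A A) 1 j (1 + j) rfl).toEquiv.subsingleton_congr.2
            ((homEquiv (Kc l) (1 + j)).toEquiv.subsingleton_congr.2 (ih2 (1 + j) (by simp at hj; lia)))
        refine subsingleton_of_forall_eq 0 fun x => ?_
        obtain ⟨y, hy⟩ := Triangle.coyoneda_exact₂ _ hS' x (@Subsingleton.elim _ h3 _ _)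
        rw [hy, show y = 0 from @Subsingleton.elim _ h1 _ _]
        exact zero_comp
      · haveI := ih3 j
        haveI := ih3 (1 + j)
        have h1 : Module.Finite A (T (Kc l) A j) := Module.Finite.equiv (homEquiv (Kc l) j).symm
        have h3 : Module.Finite A (Dual.inD A A ⟶ ((Kc l)⟦(1 : ℤ)⟧)⟦j⟧) :=
          Module.Finite.equiv ((shiftT (Kc l) (Dual.inD A A) 1 j (1 + j) rfl).trans (homEquiv (Kc l) (1 + j))).symm
        haveI : Module.Finite A (T (Kc (f :: l)) A j) :=
          finite_obj₂_cov (Triangle.shift_distinguished _ hrot j) (Dual.inD A A) h1 h3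
        exact Module.Finite.equiv (homEquiv (Kc (f :: l)) j)
  obtain ⟨h1, h2, h3⟩ := hstep fs
  let fac := fun j => (DerivedCategory.homologyFunctorFactors (ModuleCat.{u} A) j).app (CohIII.koszulCx M fs)
  refine ⟨fs.length, Kc fs, h1, fun j hj => ?_, h3, fun j a ha x => ?_, ?_⟩
  · haveI : Subsingleton ((DerivedCategory.homologyFunctor (ModuleCat.{u} A) j).obj (Kc fs)) := h2 j hj
    exact ModuleCat.isZero_of_subsingleton _
  · obtain ⟨sh, hsh⟩ := CechX.nullHtpy_of_mem_span M (fs := fs) (a := a) (by rw [← hfs] at ha; exact ha)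
    apply (fac j).toLinearEquiv.injective
    rw [map_smul, map_zero]
    obtain ⟨z, hz⟩ := CechX.hcls_surjective (K := CohIII.koszulCx M fs) j ((fac j).toLinearEquiv x)
    refine (congrArg (a • ·) hz.symm).trans ((map_smul _ a z).symm.trans ?_)
    refine (CechX.hcls_eq_zero_iff (K := CohIII.koszulCx M fs) j (j - 1) (sub_add_cancel j 1) (a • z)).2 ⟨sh j (j - 1) (sub_add_cancel j 1) z.1, ?_⟩
    have h4 := hsh (j - 1) j (j + 1) (sub_add_cancel j 1) rfl z.1
    rw [show (CohIII.koszulCx M fs).d j (j + 1) z.1 = 0 from z.2, map_zero, add_zero] at h4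
    exact h4
  · obtain ⟨e⟩ := CechX.nonempty_top_equiv M fs
    exact ⟨(fac 0).toLinearEquiv.trans (e.trans (Submodule.quotEquivOfEq _ _
      (by rw [hfs, Ideal.smul_eq_mul, Ideal.mul_top])))⟩

/-- High `Hom` groups vanish when all localizations have finite injective dimension. -/
theorem exists_bound_of_pointwise {R : Dual.D A} (hfin : ∀ i : ℤ, Module.Finite A (Dual.HD A R i)) {a b : ℤ}
    (hbdd : ∀ i : ℤ, (i < a ∨ b < i) → Subsingleton (Dual.HD A R i))
    (hpw : ∀ p : PrimeSpectrum A, DRing.HasFiniteInjDim (Localization.AtPrime p.asIdeal)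
      ((locD (algebraMap A (Localization.AtPrime p.asIdeal))).obj R))
    (M : Type u) [AddCommGroup M] [Module A M] [Module.Finite A M] :
    ∃ N : ℤ, ∀ i : ℤ, N < i → Subsingleton (T R M i) := by
  obtain ⟨hle, hge⟩ := isLE_isGE_of_bounded hbdd
  haveI := hle
  haveI := hge
  have hlow : ∀ i : ℤ, i < a → Subsingleton (Dual.HD A R i) := fun i hi => hbdd i (Or.inl hi)
  have Hq : ∀ q : PrimeSpectrum A, ∃ N : ℤ, ∀ i : ℤ, N < i → Subsingleton (T R (A ⧸ q.asIdeal) i) := by
    haveI := wellFoundedGT_spec (A := A)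
    intro q
    induction q using (wellFounded_gt (α := PrimeSpectrum A)).induction with
    | h q ih =>
      obtain ⟨r, K, hK1, hK2, hK3, hK4, ⟨eK⟩⟩ := exists_koszul (R := R) (fun j hj => hbdd j (Or.inr hj)) q.asIdeal
      -- the transfer element
      choose c hc hct using fun j : ℤ => haveI := hK3 j; exists_kil_transfer q (Dual.HD A K j) (hK4 j)
      let φ := algebraMap A (Localization.AtPrime q.asIdeal)
      obtain ⟨a', b', hamp⟩ := hpw q
      let b0 := max b b'
      -- finitely many degrees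
      have hloc : ∀ i : ℤ, b0 < i → ∀ x : T R (A ⧸ q.asIdeal) i, ∃ s ∈ q.asIdeal.primeCompl, s • x = 0 := by
        intro i hi x
        haveI := exists_isGE_shift R a i
        refine exists_smul_eq_zero_of_locD φ q.asIdeal.primeCompl (K := Dual.inD A (A ⧸ q.asIdeal)) 0 (a - i)
          (finite_hd_inD (A ⧸ q.asIdeal)) x ?_
        exact @Subsingleton.elim _ ((Iso.homCongr (locInD φ (A ⧸ q.asIdeal))
          (((locD φ).commShiftIso i).app R)).subsingleton_congr.2
            (DRingKP.ext_eq_zero_of_amp hamp _ i (Or.inr (by lia)))) _ _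
      have hkill : ∀ i : ℤ, b0 < i → ∃ s ∈ q.asIdeal.primeCompl, ∀ x : T R (A ⧸ q.asIdeal) i, s • x = 0 := by
        intro i hi
        haveI := finite_T_coh hfin hlow (A ⧸ q.asIdeal) i
        obtain ⟨G, hG⟩ := Module.finite_def.1 (inferInstance : Module.Finite A (T R (A ⧸ q.asIdeal) i))
        obtain ⟨s, hs, hQ⟩ := exists_common q.asIdeal.primeCompl G (fun x s => s • x = 0)
          (fun x s t _ hx => by rw [mul_smul, hx, smul_zero]) (fun x _ => hloc i hi x)
        refine ⟨s, hs, fun x => ?_⟩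
        have hx : x ∈ Submodule.span A (G : Set (T R (A ⧸ q.asIdeal) i)) := hG.symm ▸ Submodule.mem_top
        induction hx using Submodule.span_induction with
        | mem y hy => exact hQ y hy
        | zero => exact smul_zero s
        | add y z _ _ hy hz => rw [smul_add, hy, hz, add_zero]
        | smul t y _ hy => rw [smul_comm, hy, smul_zero]
      let k : ℕ := r + 2
      choose s hs hsx using fun n : ℕ => hkill (b0 + 1 + n) (by lia)
      let C : A := (∏ n ∈ Finset.range k, s n) * ∏ n ∈ Finset.range (r + 1), c (-(n : ℤ))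
      have hC : C ∉ q.asIdeal := fun h => by
        rcases q.isPrime.mem_or_mem h with h | h
        · obtain ⟨n, -, hn⟩ := q.isPrime.prod_mem_iff.1 h
          exact hs n hn
        · obtain ⟨n, -, hn⟩ := q.isPrime.prod_mem_iff.1 h
          exact hc _ hn
      have hwin : ∀ i : ℤ, b0 < i → i ≤ b0 + k → Kil C (T R (A ⧸ q.asIdeal) i) := fun i hi hi' => by
        obtain ⟨n, rfl⟩ : ∃ n : ℕ, i = b0 + 1 + n := ⟨(i - b0 - 1).toNat, by lia⟩
        obtain ⟨d, hd⟩ := (Finset.dvd_prod_of_mem s (show n ∈ Finset.range k by rw [Finset.mem_range]; lia)).trans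
          (dvd_mul_right _ (∏ n ∈ Finset.range (r + 1), c (-(n : ℤ))))
        exact fun x => ⟨1, by rw [pow_one, show C = s n * d from hd, mul_comm, mul_smul, hsx, smul_zero]⟩
      have hcd : ∀ j : ℤ, -(r : ℤ) ≤ j → j ≤ 0 → c j ∣ C := fun j h1 h2 => by
        obtain ⟨n, rfl⟩ : ∃ n : ℕ, j = -(n : ℤ) := ⟨(-j).toNat, by lia⟩
        exact (Finset.dvd_prod_of_mem (fun n : ℕ => c (-(n : ℤ))) (show n ∈ Finset.range (r + 1) by
          rw [Finset.mem_range]; lia)).trans (dvd_mul_left _ _)
      -- all high degrees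
      have hall : ∀ (n : ℕ) (i : ℤ), b0 < i → i ≤ b0 + k + n → Kil C (T R (A ⧸ q.asIdeal) i) := by
        intro n
        induction n with
        | zero => exact fun i hi hi' => hwin i hi (by lia)
        | succ n ihn =>
          intro i hi hi'
          by_cases hi2 : i ≤ b0 + k + n
          · exact ihn i hi hi2
          obtain ⟨X, B, f, g, w, hT, hX, hlt, ⟨e⟩⟩ :=
            DRingKP.exists_top_triangle K 0 fun j hj => hK2 j (Or.inr (by lia))
          have hXK : Kil C (X ⟶ R⟦i - 1⟧) := by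
            refine kil_of_amplitude (lo := -(r : ℤ)) r (-1) X (by lia) (fun j hj => ?_) (i - 1) fun j h1 h2 => ?_
            · by_cases hj' : j < 0
              · exact (hK2 j (by lia)).of_iso (hlt j hj').some
              · exact hX j (by lia)
            · obtain ⟨e'⟩ := hlt j (by lia)
              exact kil_equiv (congr R (i - 1 + j) e'.toLinearEquiv)
                (hct j C (hcd j h1 (by lia)) R (i - 1 + j) (ihn (i - 1 + j) (by lia) (by lia)))
          have hB : Kil C (B ⟶ R⟦i⟧) :=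
            kil_mid (Linear.leftComp A (R⟦i⟧) w) (Linear.leftComp A (R⟦i⟧) g)
              (fun y hy => by obtain ⟨x, hx⟩ := Triangle.yoneda_exact₃ _ hT y hy; exact ⟨x, hx.symm⟩)
              (kil_shift_source hXK) (kil_of_subsingleton C (hK1 i (by lia)))
          have h5 := kil_equiv (congr R (i + 0) eK).symm
            (kil_equiv ((Linear.homCongr A e (Iso.refl (R⟦i⟧))).trans (singleEquiv R _ 0 i)) hB)
          rwa [add_zero] at h5
      -- `C` is injective in high degrees
      obtain ⟨N', hN'⟩ : ∃ N' : ℤ, ∀ i : ℤ, N' < i → Subsingleton (T R ((A ⧸ q.asIdeal) ⧸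
          LinearMap.range (C • (LinearMap.id : (A ⧸ q.asIdeal) →ₗ[A] A ⧸ q.asIdeal))) i) := by
        refine IsNoetherianRing.induction_on_isQuotientEquivQuotientPrime
          (M := (A ⧸ q.asIdeal) ⧸ LinearMap.range (C • (LinearMap.id : (A ⧸ q.asIdeal) →ₗ[A] A ⧸ q.asIdeal)))
          (motive := fun N _ _ _ => (∀ t ∈ q.asIdeal ⊔ Ideal.span {C}, ∀ w : N, t • w = 0) →
            ∃ N' : ℤ, ∀ i : ℤ, N' < i → Subsingleton (T R N i)) A inferInstance ?_ ?_ ?_ ?_
        · intro N _ _ _ hN _
          exact ⟨0, fun i _ => subsingleton_of_subsingleton⟩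
        · intro N _ _ _ p e hN
          have hle : q.asIdeal ⊔ Ideal.span {C} ≤ p.asIdeal := fun t ht => by
            have h1 := congrArg e (hN t ht (e.symm (Submodule.Quotient.mk 1)))
            rw [map_smul, map_zero, LinearEquiv.apply_symm_apply, ← Submodule.Quotient.mk_smul,
              Submodule.Quotient.mk_eq_zero, smul_eq_mul, mul_one] at h1
            exact h1
          obtain ⟨N', hN'⟩ := ih p (lt_of_le_of_ne (le_sup_left.trans hle : q.asIdeal ≤ p.asIdeal) fun h =>
            hC (h.symm ▸ hle (Ideal.mem_sup_right (Ideal.mem_span_singleton_self C))))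
          exact ⟨N', fun i hi => (subsingleton_congr e).2 (hN' i hi)⟩
        · intro N₁ _ _ _ N₂ _ _ _ N₃ _ _ _ f g hf hg hfg h₁ h₃ hN
          obtain ⟨n₁, hn₁⟩ := h₁ fun t ht w => hf (by rw [map_smul, hN t ht, map_zero])
          obtain ⟨n₃, hn₃⟩ := h₃ fun t ht w => by
            obtain ⟨v, rfl⟩ := hg w
            rw [← map_smul, hN t ht, map_zero]
          exact ⟨max n₁ n₃, fun i hi =>
            (⟨hf, hfg, hg⟩ : SES f g).subsingleton_mid (hn₁ i (by lia)) (hn₃ i (by lia))⟩
        · intro t ht w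
          obtain ⟨u, hu, v, hv, rfl⟩ := Submodule.mem_sup.1 ht
          obtain ⟨z, rfl⟩ := Ideal.mem_span_singleton'.1 hv
          obtain ⟨w, rfl⟩ := Submodule.Quotient.mk_surjective _ w
          obtain ⟨w, rfl⟩ := Submodule.Quotient.mk_surjective _ w
          rw [← Submodule.Quotient.mk_smul, Submodule.Quotient.mk_eq_zero]
          refine ⟨z • Submodule.Quotient.mk w, ?_⟩
          rw [LinearMap.smul_apply, LinearMap.id_apply, smul_smul, add_smul,
            show u • (Submodule.Quotient.mk w : A ⧸ q.asIdeal) = 0 from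
              (Submodule.Quotient.mk_eq_zero _).2 (q.asIdeal.mul_mem_right w hu), zero_add, mul_comm C z]
      refine ⟨max b0 N', fun i hi => subsingleton_of_forall_eq 0 fun x => ?_⟩
      have hinj : ∀ x : T R (A ⧸ q.asIdeal) i, C • x = 0 → x = 0 := fun x hx => by
        obtain ⟨y, hy⟩ := (ses_mul hC).exact_mid x (by rw [pre_smul_id]; exact hx)
        rw [← hy, @Subsingleton.elim _ (hN' i (by lia)) y 0, map_zero]
      obtain ⟨e, he⟩ := hall (i - b0).toNat i (by lia) (by lia) x
      induction e generalizing x with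
      | zero => simpa using he
      | succ e ihe => exact hinj x (ihe (C • x) (by rw [← mul_smul, ← pow_succ]; exact he))
  refine IsNoetherianRing.induction_on_isQuotientEquivQuotientPrime (M := M)
    (motive := fun N _ _ _ => ∃ N' : ℤ, ∀ i : ℤ, N' < i → Subsingleton (T R N i)) A inferInstance ?_ ?_ ?_
  · intro N _ _ _ hN
    exact ⟨0, fun i _ => subsingleton_of_subsingleton⟩
  · intro N _ _ _ p e
    obtain ⟨N', hN'⟩ := Hq p
    exact ⟨N', fun i hi => (subsingleton_congr e).2 (hN' i hi)⟩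
  · intro N₁ _ _ _ N₂ _ _ _ N₃ _ _ _ f g hf hg hfg h₁ h₃
    obtain ⟨n₁, hn₁⟩ := h₁
    obtain ⟨n₃, hn₃⟩ := h₃
    exact ⟨max n₁ n₃, fun i hi =>
      (⟨hf, hfg, hg⟩ : SES f g).subsingleton_mid (hn₁ i (by lia)) (hn₃ i (by lia))⟩

end

end Groth.Agent.DualCx
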