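import Groth.Agent.DRingKP.BC
import Groth.Agent.DRingKP.InjAmp
import Groth.Agent.DRingKP.FlatBC
import Mathlib.Algebra.Module.FinitePresentation
import Mathlib.RingTheory.Localization.BaseChange
import Mathlib.Algebra.Homology.Linear

/-!
Morphisms in the derived category and localization of the ring.
-/

set_option autoImplicit false
set_option linter.style.haveILetI false
set_option backward.isDefEq.respectTransparency false
set_option maxHeartbeats 1000000
universe u

namespace Groth.Agent.DualCx.Loc

open CategoryTheory Limits DerivedCategory HomologicalComplex DRingKP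

attribute [local instance] HasDerivedCategory.standard

noncomputable section

variable {A B : Type u} [CommRing A] [CommRing B] [Algebra A B]

/-- `M ⟶ B ⊗ M`. -/
abbrev unitMap (M : ModuleCat.{u} A) : M ⟶ (ModuleCat.restrictScalars.{u} (algebraMap A B)).obj ((ModuleCat.extendScalars.{u, u, u} (algebraMap A B)).obj M) :=
  (ModuleCat.extendRestrictScalarsAdj (algebraMap A B)).unit.app M

theorem map_ext {M : ModuleCat.{u} A} {Y : ModuleCat.{u} B} {f g : (ModuleCat.extendScalars.{u, u, u} (algebraMap A B)).obj M ⟶ Y}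
    (h : ∀ x : M, f.hom ((unitMap M).hom x) = g.hom ((unitMap M).hom x)) : f = g :=
  ((ModuleCat.extendRestrictScalarsAdj (algebraMap A B)).homEquiv M Y).injective
    (by
      rw [Adjunction.homEquiv_unit, Adjunction.homEquiv_unit]
      exact ModuleCat.hom_ext (LinearMap.ext h))

theorem map_unit {M N : ModuleCat.{u} A} (g : M ⟶ N) (x : M) :
    ((ModuleCat.extendScalars.{u, u, u} (algebraMap A B)).map g).hom ((unitMap (B := B) M).hom x) = (unitMap N).hom (g.hom x) :=
  (LinearMap.congr_fun (ModuleCat.hom_ext_iff.1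
    ((ModuleCat.extendRestrictScalarsAdj (algebraMap A B)).unit.naturality g)) x).symm

theorem map_smul' {M N : ModuleCat.{u} A} (t : A) (g : M ⟶ N) :
    (ModuleCat.extendScalars.{u, u, u} (algebraMap A B)).map (t • g) = algebraMap A B t • (ModuleCat.extendScalars.{u, u, u} (algebraMap A B)).map g :=
  map_ext fun x => by
    rw [map_unit, ModuleCat.hom_smul, ModuleCat.hom_smul]
    erw [LinearMap.smul_apply, LinearMap.smul_apply]
    rw [map_unit]
    exact (unitMap N).hom.map_smul t (g.hom x)

variable (S : Submonoid A) [IsLocalization S B]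

include S in
theorem flat : (algebraMap A B).Flat :=
  RingHom.flat_algebraMap_iff.2 (IsLocalization.flat B S)

theorem isLocalized_unit (M : ModuleCat.{u} A) : IsLocalizedModule S (unitMap (B := B) M).hom := by
  let e : TensorProduct A B M →ₗ[A] ((ModuleCat.restrictScalars.{u} (algebraMap A B)).obj ((ModuleCat.extendScalars.{u, u, u} (algebraMap A B)).obj M)) :=
    { toFun := (DRingKP.extendTensorIso (A := A) (B := B) M).inv.hom
      map_add' := map_add _
      map_smul' := fun a x => by
        rw [RingHom.id_apply, ← algebraMap_smul B a x, map_smul]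
        rfl }
  have he : Function.Bijective e :=
    (DRingKP.extendTensorIso (A := A) (B := B) M).toLinearEquiv.symm.bijective
  haveI : IsLocalizedModule S (TensorProduct.mk A B M 1) :=
    (isLocalizedModule_iff_isBaseChange S B _).2 (TensorProduct.isBaseChange A M B)
  have h : (unitMap (B := B) M).hom = (LinearEquiv.ofBijective e he).toLinearMap ∘ₗ TensorProduct.mk A B M 1 :=
    LinearMap.ext fun x => by rfl
  rw [h]
  exact IsLocalizedModule.of_linearEquiv S _ _

theorem exists_lift_hom {M N : ModuleCat.{u} A} [Module.FinitePresentation A M] (ψ : (ModuleCat.extendScalars.{u, u, u} (algebraMap A B)).obj M ⟶ (ModuleCat.extendScalars.{u, u, u} (algebraMap A B)).obj N) :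
    ∃ (s : S) (g : M ⟶ N), (ModuleCat.extendScalars.{u, u, u} (algebraMap A B)).map g = algebraMap A B s • ψ := by
  haveI := isLocalized_unit (B := B) S N
  obtain ⟨h, s, hh⟩ := Module.FinitePresentation.exists_lift_of_isLocalizedModule S (unitMap (B := B) N).hom
    (unitMap M ≫ (ModuleCat.restrictScalars.{u} (algebraMap A B)).map ψ).hom
  refine ⟨s, ModuleCat.ofHom h, map_ext fun x => ?_⟩
  rw [map_unit]
  exact LinearMap.congr_fun hh x

theorem exists_kill_hom {M N : ModuleCat.{u} A} [Module.Finite A M] (g : M ⟶ N) (h : (ModuleCat.extendScalars.{u, u, u} (algebraMap A B)).map g = 0) :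
    ∃ s : S, (s : A) • g = 0 := by
  haveI := isLocalized_unit (B := B) S N
  obtain ⟨s, hs⟩ := Module.Finite.exists_smul_of_comp_eq_of_isLocalizedModule S (unitMap (B := B) N).hom g.hom 0
    (LinearMap.ext fun x => by
      show (unitMap N).hom (g.hom x) = (unitMap N).hom 0
      rw [← map_unit, h, map_zero]; rfl)
  exact ⟨s, ModuleCat.hom_ext (LinearMap.ext fun x => (LinearMap.congr_fun hs x).trans (smul_zero _))⟩

include S in
theorem injective_map [IsNoetherianRing A] (E : ModuleCat.{u} A) [hE : Injective E] : Injective ((ModuleCat.extendScalars.{u, u, u} (algebraMap A B)).obj E) := by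
  haveI : Module.Injective A E := (Module.injective_iff_injective_object A E).2 hE
  refine (Module.injective_iff_injective_object B _).1 (Module.Baer.injective fun I g => ?_)
  haveI := isLocalized_unit (B := B) S E
  let J : Ideal A := I.comap (algebraMap A B)
  let g' : J →ₗ[A] (ModuleCat.restrictScalars.{u} (algebraMap A B)).obj ((ModuleCat.extendScalars.{u, u, u} (algebraMap A B)).obj E) :=
    { toFun := fun x => g ⟨algebraMap A B x, x.2⟩
      map_add' := fun x y => by
        show g _ = g _ + g _
        rw [← map_add]; congr 1; exact Subtype.ext (map_add _ _ _)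
      map_smul' := fun a x => by
        show g _ = algebraMap A B a • g _
        rw [← map_smul]; congr 1; exact Subtype.ext (map_mul _ _ _) }
  haveI : Module.FinitePresentation A J := Module.finitePresentation_of_finite A J
  obtain ⟨h, s, hh⟩ := Module.FinitePresentation.exists_lift_of_isLocalizedModule S (unitMap (B := B) E).hom g'
  obtain ⟨h1, hh1⟩ := Module.Baer.of_injective ‹Module.Injective A E› J h
  obtain ⟨c, hc⟩ := (IsLocalization.map_units B s).exists_left_inv
  refine ⟨LinearMap.toSpanSingleton B ((ModuleCat.extendScalars.{u, u, u} (algebraMap A B)).obj E) (c • (unitMap (B := B) E).hom (h1 1)), fun z hz => ?_⟩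
  obtain ⟨a, t, rfl⟩ := IsLocalization.exists_mk'_eq S z
  have ha : algebraMap A B a ∈ I := by
    rw [← IsLocalization.mk'_spec B a t]; exact I.mul_mem_right _ hz
  have h2 : (unitMap (B := B) E).hom (h ⟨a, ha⟩) = algebraMap A B s • g ⟨algebraMap A B a, ha⟩ :=
    LinearMap.congr_fun hh ⟨a, ha⟩
  have h5 : h1 a = a • h1 1 := by rw [← map_smul, smul_eq_mul, mul_one]
  rw [← hh1 a ha, h5, map_smul] at h2
  have h3 : algebraMap A B a • (c • (unitMap (B := B) E).hom (h1 1) : (ModuleCat.extendScalars.{u, u, u} (algebraMap A B)).obj E) = g ⟨algebraMap A B a, ha⟩ := by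
    rw [smul_comm]
    refine (congrArg (fun v : (ModuleCat.extendScalars.{u, u, u} (algebraMap A B)).obj E => c • v) h2).trans ?_
    rw [smul_smul, hc, one_smul]
  erw [LinearMap.toSpanSingleton_apply]
  obtain ⟨d, hd⟩ := (IsLocalization.map_units B t).exists_left_inv
  have h4 : IsLocalization.mk' B a t = d * algebraMap A B a := by
    rw [← IsLocalization.mk'_spec B a t, mul_comm _ (algebraMap A B t), ← mul_assoc, hd, one_mul]
  have h6 : (⟨IsLocalization.mk' B a t, hz⟩ : I) = d • (⟨algebraMap A B a, ha⟩ : I) := Subtype.ext h4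
  rw [h6, map_smul]
  refine (congrArg (fun v : B => v • (c • (unitMap (B := B) E).hom (h1 1) :
    (ModuleCat.extendScalars.{u, u, u} (algebraMap A B)).obj E)) h4).trans ?_
  exact (mul_smul d (algebraMap A B a) _).trans (congrArg (d • ·) h3)

theorem common_denom {ι : Type*} (p : ι → A → Prop) (hmul : ∀ i a b, p i a → p i (b * a)) (I : Finset ι)
    (h : ∀ i, ∃ s : S, p i s) (ho : ∀ i ∉ I, ∀ a, p i a) : ∃ s : S, ∀ i, p i s := by
  classical
  choose f hf using h
  refine ⟨∏ i ∈ I, f i, fun i => ?_⟩
  by_cases hi : i ∈ I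
  · rw [← Finset.prod_erase_mul I f hi, Submonoid.coe_mul]
    exact hmul i _ _ (hf i)
  · exact ho i hi _

variable {P J : DRing.Cx A} {a b : ℤ} (hP : ∀ i, Module.FinitePresentation A (P.X i))
  (hb : DRing.VanishesAbove P b) (ha : ∀ i : ℤ, i < a → IsZero (J.X i))

include hP hb ha in
theorem exists_lift_cx (φ : (bc (algebraMap A B)).obj P ⟶ (bc (algebraMap A B)).obj J) :
    ∃ (s : S) (g : P ⟶ J), (bc (algebraMap A B)).map g = algebraMap A B s • φ := by
  have hz : ∀ i, i ∉ Finset.Icc a b → IsZero (P.X i) ∨ IsZero (J.X i) := fun i hi => by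
    rw [Finset.mem_Icc] at hi
    by_cases h : i < a
    · exact Or.inr (ha i h)
    · exact Or.inl (hb i (by lia))
  obtain ⟨s, hs⟩ := common_denom S (fun i x => ∃ g : P.X i ⟶ J.X i, (ModuleCat.extendScalars.{u, u, u} (algebraMap A B)).map g = algebraMap A B x • φ.f i)
    (fun i x y ⟨g, hg⟩ => ⟨y • g, by rw [map_smul', hg, smul_smul, map_mul]⟩) (Finset.Icc a b)
    (fun i => haveI := hP i; exists_lift_hom S (φ.f i))
    (fun i hi x => ⟨0, by
      rcases hz i hi with h | h
      · exact ((ModuleCat.extendScalars.{u, u, u} (algebraMap A B)).map_isZero h).eq_of_src _ _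
      · exact ((ModuleCat.extendScalars.{u, u, u} (algebraMap A B)).map_isZero h).eq_of_tgt _ _⟩)
  choose g hg using hs
  obtain ⟨t, ht⟩ := common_denom S (fun i x => x • (g i ≫ J.d i (i + 1) - P.d i (i + 1) ≫ g (i + 1)) = 0)
    (fun i x y h => by rw [mul_smul, h, smul_zero]) (Finset.Icc (a - 1) b)
    (fun i => haveI := hP i; exists_kill_hom (B := B) S _ (by
      rw [Functor.map_sub, Functor.map_comp, Functor.map_comp, hg, hg, Linear.smul_comp, Linear.comp_smul,
        ← smul_sub]
      have := φ.comm i (i + 1)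
      rw [show φ.f i ≫ (ModuleCat.extendScalars.{u, u, u} (algebraMap A B)).map (J.d i (i + 1)) = (ModuleCat.extendScalars.{u, u, u} (algebraMap A B)).map (P.d i (i + 1)) ≫ φ.f (i + 1) from this, sub_self,
        smul_zero]))
    (fun i hi x => by
      rw [Finset.mem_Icc] at hi
      by_cases h : i < a - 1
      · exact (ha (i + 1) (by lia)).eq_of_tgt _ _
      · exact (hb i (by lia)).eq_of_src _ _)
  refine ⟨t * s, { f := fun i => (t : A) • g i, comm' := ?_ }, ?_⟩
  · rintro i j (rfl : i + 1 = j)
    rw [Linear.smul_comp, Linear.comp_smul, ← sub_eq_zero, ← smul_sub, ht]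
  · refine HomologicalComplex.hom_ext _ _ fun i => ?_
    show (ModuleCat.extendScalars.{u, u, u} (algebraMap A B)).map ((t : A) • g i) = _
    rw [map_smul', hg, smul_smul, Submonoid.coe_mul, map_mul]
    rfl

include hP hb ha in
theorem exists_null (g : P ⟶ J) (h : Homotopy ((bc (algebraMap A B)).map g) 0) :
    ∃ s : S, Nonempty (Homotopy ((s : A) • g) 0) := by
  obtain ⟨s, hs⟩ := common_denom S (fun i x => ∃ k : P.X i ⟶ J.X (i - 1),
      (ModuleCat.extendScalars.{u, u, u} (algebraMap A B)).map k = algebraMap A B x • h.hom i (i - 1))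
    (fun i x y ⟨k, hk⟩ => ⟨y • k, by rw [map_smul', hk, smul_smul, map_mul]⟩) (Finset.Icc a (b + 1))
    (fun i => haveI := hP i; exists_lift_hom S _)
    (fun i hi x => ⟨0, by
      rw [Finset.mem_Icc] at hi
      by_cases h' : b < i
      · exact ((ModuleCat.extendScalars.{u, u, u} (algebraMap A B)).map_isZero (hb i h')).eq_of_src _ _
      · exact ((ModuleCat.extendScalars.{u, u, u} (algebraMap A B)).map_isZero (ha (i - 1) (by lia))).eq_of_tgt _ _⟩)
  choose k hk using hs
  let k' : ∀ i j : ℤ, (ComplexShape.up ℤ).Rel j i → (P.X i ⟶ J.X j) := fun i j hij =>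
    k i ≫ (J.XIsoOfEq (show i - 1 = j from by have : j + 1 = i := hij; lia)).hom
  let D : P ⟶ J := (s : A) • g - Homotopy.nullHomotopicMap' k'
  obtain ⟨t, ht⟩ := common_denom S (fun i x => x • D.f i = 0)
    (fun i x y h => by rw [mul_smul, h, smul_zero]) (Finset.Icc a b)
    (fun i => haveI := hP i; exists_kill_hom (B := B) S _ (by
      have hc := h.comm i
      rw [dNext_eq _ (show (ComplexShape.up ℤ).Rel i (i + 1) from rfl),
        prevD_eq _ (show (ComplexShape.up ℤ).Rel (i - 1) i by simp)] at hc
      have hk1 : ∀ i j (hij : (ComplexShape.up ℤ).Rel j i), (ModuleCat.extendScalars.{u, u, u} (algebraMap A B)).map (k' i j hij) = algebraMap A B s • h.hom i j := by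
        rintro i j hij
        obtain rfl : i - 1 = j := by have : j + 1 = i := hij; lia
        show (ModuleCat.extendScalars.{u, u, u} (algebraMap A B)).map (k i ≫ 𝟙 _) = _
        rw [Category.comp_id, hk]
      simp only [D, HomologicalComplex.sub_f_apply, HomologicalComplex.smul_f_apply,
        Homotopy.nullHomotopicMap'_f (show (ComplexShape.up ℤ).Rel (i - 1) i by simp)
          (show (ComplexShape.up ℤ).Rel i (i + 1) from rfl) k', Functor.map_sub, Functor.map_add,
        Functor.map_comp, map_smul', hk1, Linear.smul_comp, Linear.comp_smul]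
      rw [show (ModuleCat.extendScalars.{u, u, u} (algebraMap A B)).map (g.f i) = ((bc (algebraMap A B)).map g).f i from rfl, hc]
      simp [smul_add]))
    (fun i hi x => by
      rw [Finset.mem_Icc] at hi
      by_cases h : i < a
      · exact (ha i h).eq_of_tgt _ _
      · exact (hb i (by lia)).eq_of_src _ _)
  have heq : ((t * s : S) : A) • g = Homotopy.nullHomotopicMap' (fun i j hij => (t : A) • k' i j hij) := by
    refine HomologicalComplex.hom_ext _ _ fun i => ?_
    have h0 := ht i
    simp only [D, HomologicalComplex.sub_f_apply, HomologicalComplex.smul_f_apply, smul_sub, sub_eq_zero] at h0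
    rw [HomologicalComplex.smul_f_apply, Submonoid.coe_mul, mul_smul, h0,
      Homotopy.nullHomotopicMap'_f (show (ComplexShape.up ℤ).Rel (i - 1) i by simp)
          (show (ComplexShape.up ℤ).Rel i (i + 1) from rfl),
      Homotopy.nullHomotopicMap'_f (show (ComplexShape.up ℤ).Rel (i - 1) i by simp)
          (show (ComplexShape.up ℤ).Rel i (i + 1) from rfl)]
    simp [smul_add]
  exact ⟨t * s, ⟨(Homotopy.ofEq heq).trans (Homotopy.nullHomotopy' _)⟩⟩

variable [IsNoetherianRing A] (hJ : ∀ i, Injective (J.X i))

include S ha hJ in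
theorem isKInjective_bc : ((bc (algebraMap A B)).obj J).IsKInjective := by
  haveI : ∀ i, Injective (((bc (algebraMap A B)).obj J).X i) := fun i => haveI := hJ i; injective_map S (J.X i)
  haveI : ((bc (algebraMap A B)).obj J).IsStrictlyGE a :=
    (CochainComplex.isStrictlyGE_iff _ a).2 fun i hi => (ModuleCat.extendScalars.{u, u, u} (algebraMap A B)).map_isZero (ha i hi)
  exact CochainComplex.isKInjective_of_injective _ a

include hP hb ha hJ in
theorem hom_lift (f : DRing.toD ((bc (algebraMap A B)).obj P) ⟶ DRing.toD ((bc (algebraMap A B)).obj J)) :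
    ∃ (s : S) (g : P ⟶ J), DerivedCategory.Q.map ((bc (algebraMap A B)).map g) = algebraMap A B s • f := by
  haveI := isKInjective_bc (B := B) S ha hJ
  obtain ⟨φ, rfl⟩ := exists_lift_inj f
  obtain ⟨s, g, hg⟩ := exists_lift_cx S hP hb ha φ
  exact ⟨s, g, by rw [hg, Functor.map_smul]⟩

include hP hb ha hJ in
theorem hom_kill (g : P ⟶ J) (h : DerivedCategory.Q.map ((bc (algebraMap A B)).map g) = 0) :
    ∃ s : S, (s : A) • DerivedCategory.Q.map g = 0 := by
  haveI := isKInjective_bc (B := B) S ha hJ
  obtain ⟨ho⟩ := exists_homotopy_inj _ h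
  obtain ⟨s, ⟨k⟩⟩ := exists_null S hP hb ha g ho
  exact ⟨s, by rw [← Functor.map_smul, DerivedCategory.Q_map_eq_of_homotopy _ k, Functor.map_zero]⟩

end

end Groth.Agent.DualCx.Loc
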