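import Groth.Agent.DualCx.LocalizeDual
import Groth.Agent.DRingKP.Descend

/-!
Being dualizing can be checked after localization.
-/

set_option autoImplicit false
set_option linter.style.haveILetI false
set_option backward.isDefEq.respectTransparency false
set_option maxHeartbeats 1000000
universe u

namespace Groth.Agent.DualCx.Loc

open CategoryTheory Limits DerivedCategory HomologicalComplex DRingKP

attribute [local instance] HasDerivedCategory.standard

noncomputable section

variable {A : Type u} [CommRing A] [IsNoetherianRing A]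

theorem eq_top_of_forall {ι : Type*} (S : ι → Submonoid A)
    (hS : ∀ I : Ideal A, I.IsMaximal → ∃ i, ∀ s ∈ S i, s ∉ I) (I : Ideal A) (h : ∀ i, ∃ s ∈ S i, s ∈ I) :
    I = ⊤ := by
  by_contra hI
  obtain ⟨m, hm, hle⟩ := Ideal.exists_le_maximal I hI
  obtain ⟨i, hi⟩ := hS m hm
  obtain ⟨s, hs, hsI⟩ := h i
  exact hi s hs (hle hsI)

theorem pc_of_injAmp {J : DRing.Cx A} {a b : ℤ} (hz : ∀ i : ℤ, i < a ∨ b < i → IsZero (J.X i))
    (hfin : ∀ i, Module.Finite A (Dual.HD A (DRing.toD J) i)) : DRing.IsPseudoCoherent' A (DRing.toD J) :=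
  isPseudoCoherent'_of_bounded (b := b) (fun i hi => by
    exact ModuleCat.subsingleton_of_isZero (((HomologicalComplex.exactAt_iff_isZero_homology _ _).1
      (ShortComplex.exact_of_isZero_X₂ _ (hz i (Or.inr hi)))).of_iso
        ((DerivedCategory.homologyFunctorFactors (ModuleCat.{u} A) i).app J))) hfin

theorem isDualizing_of_cover (J : DRing.Cx A) (a b : ℤ) (hz : ∀ i : ℤ, i < a ∨ b < i → IsZero (J.X i))
    (hinj : ∀ i, Injective (J.X i)) (hfin : ∀ i, Module.Finite A (Dual.HD A (DRing.toD J) i))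
    {ι : Type*} (B : ι → Type u) [∀ i, CommRing (B i)] [∀ i, Algebra A (B i)] (S : ι → Submonoid A)
    [∀ i, IsLocalization (S i) (B i)] (hS : ∀ I : Ideal A, I.IsMaximal → ∃ i, ∀ s ∈ S i, s ∉ I)
    (h : ∀ i, Dual.IsDualizing (B i) (DRing.toD ((bc (algebraMap A (B i))).obj J))) :
    Dual.IsDualizing A (DRing.toD J) := by
  haveI := hinj
  have ha : ∀ i : ℤ, i < a → IsZero (J.X i) := fun i hi => hz i (Or.inl hi)
  haveI : J.IsStrictlyGE a := (CochainComplex.isStrictlyGE_iff J a).2 ha
  haveI := CochainComplex.isKInjective_of_injective J a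
  obtain ⟨E, c, hEb, hEf, ⟨e⟩⟩ := pc_of_injAmp hz hfin
  obtain ⟨α, hα⟩ := exists_lift_inj e.hom
  have hP := finitePresentation_X hEf
  haveI hαi : IsIso (DerivedCategory.Q.map α) := hα ▸ inferInstance
  have hfid : DRing.HasInjAmplitudeIn A a b (DRing.toD J) :=
    ⟨J, hz, fun i => (Module.injective_iff_injective_object A _).2 (hinj i), ⟨Iso.refl _⟩⟩
  refine ⟨inferInstance, ⟨a, b, fun M _ _ i hi => ext_eq_zero_of_amp hfid (ModuleCat.of A M) i hi⟩, hfin,
    ⟨fun x y hxy => ?_, fun f => ?_⟩, fun n hn => ?_⟩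
  · rw [← sub_eq_zero]
    have hd : (x - y) • 𝟙 (DRing.toD J) = 0 := by
      rw [sub_smul]; exact sub_eq_zero.2 hxy
    have htop := eq_top_of_forall S hS (LinearMap.ker (LinearMap.toSpanSingleton A A (x - y))) fun i => by
      have h1 : algebraMap A (B i) (x - y) • 𝟙 (DRing.toD ((bc (algebraMap A (B i))).obj J)) = 0 := by
        have h2 := Q_bc_congr (B := B i) (g := (x - y) • 𝟙 J) (h := 0)
          (by rw [Functor.map_smul, CategoryTheory.Functor.map_id, hd, Functor.map_zero])
        rw [bc_map_smul, CategoryTheory.Functor.map_id, Functor.map_smul, CategoryTheory.Functor.map_id,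
          Functor.map_zero, Functor.map_zero] at h2
        exact h2
      have h3 : algebraMap A (B i) (x - y) = 0 := (h i).toEnd_bijective.1 (h1.trans (zero_smul _ _).symm)
      obtain ⟨s, hs⟩ := (IsLocalization.map_eq_zero_iff (S i) (B i) _).1 h3
      exact ⟨s, s.2, by simpa using hs⟩
    have h4 : (1 : A) ∈ LinearMap.ker (LinearMap.toSpanSingleton A A (x - y)) := htop ▸ Submodule.mem_top
    simpa using h4
  · let L : A →ₗ[A] (DRing.toD J ⟶ DRing.toD J) := LinearMap.toSpanSingleton A _ (𝟙 _)
    obtain ⟨g, hg⟩ := exists_lift_inj (e.hom ≫ f)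
    have htop := eq_top_of_forall S hS ((LinearMap.range L).comap (LinearMap.toSpanSingleton A _ f)) fun i => by
      haveI := isIso_Q_bc (B := B i) (S i) α hαi
      let β := DerivedCategory.Q.map ((bc (algebraMap A (B i))).map α)
      obtain ⟨y, hy⟩ := (h i).toEnd_bijective.2 (inv β ≫ DerivedCategory.Q.map ((bc (algebraMap A (B i))).map g))
      obtain ⟨x, s, rfl⟩ := IsLocalization.exists_mk'_eq (S i) y
      have h1 : DerivedCategory.Q.map ((bc (algebraMap A (B i))).map ((s : A) • g - x • α)) = 0 := by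
        have h2 : DerivedCategory.Q.map ((bc (algebraMap A (B i))).map g) = IsLocalization.mk' (B i) x s • β := by
          have := congrArg (β ≫ ·) hy
          simpa using this.symm
        rw [Functor.map_sub, bc_map_smul, bc_map_smul, Functor.map_sub, Functor.map_smul, Functor.map_smul, h2,
          smul_smul, mul_comm, IsLocalization.mk'_spec, sub_self]
      obtain ⟨t, ht⟩ := hom_kill (B := B i) (S i) hP hEb ha hinj _ h1
      refine ⟨(t * s : S i), (t * s).2, (t : A) * x, ?_⟩
      show ((t : A) * x) • 𝟙 (DRing.toD J) = ((t * s : S i) : A) • f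
      rw [Functor.map_sub, Functor.map_smul, Functor.map_smul, hg, hα, smul_sub, sub_eq_zero, smul_smul, smul_smul] at ht
      have := congrArg (e.inv ≫ ·) ht
      simpa using this.symm
    obtain ⟨x, hx⟩ : (1 : A) ∈ (LinearMap.range L).comap (LinearMap.toSpanSingleton A _ f) := htop ▸ Submodule.mem_top
    exact ⟨x, hx.trans (one_smul A f)⟩
  · let Jn := (shiftFunctor (DRing.Cx A) n).obj J
    haveI : ∀ i, Injective (Jn.X i) := fun i => inferInstanceAs (Injective (J.X (i + n)))
    have ha' : ∀ i : ℤ, i < a - n → IsZero (Jn.X i) := fun i hi => ha (i + n) (by lia)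
    haveI : Jn.IsStrictlyGE (a - n) := (CochainComplex.isStrictlyGE_iff Jn _).2 ha'
    haveI := CochainComplex.isKInjective_of_injective Jn (a - n)
    suffices Subsingleton (DRing.toD E ⟶ DRing.toD Jn) from @Equiv.subsingleton _ _
      (Iso.homCongr e ((DerivedCategory.Q.commShiftIso n).app J)).symm this
    refine subsingleton_of_forall_eq 0 fun f => ?_
    obtain ⟨g, rfl⟩ := exists_lift_inj f
    have htop := eq_top_of_forall S hS (LinearMap.ker (LinearMap.toSpanSingleton A _ (DerivedCategory.Q.map g)))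
      fun i => by
      haveI := isIso_Q_bc (B := B i) (S i) α hαi
      haveI : Subsingleton (DRing.toD ((bc (algebraMap A (B i))).obj E) ⟶
          DRing.toD ((bc (algebraMap A (B i))).obj Jn)) :=
        @Equiv.subsingleton _ _ (Iso.homCongr (asIso (DerivedCategory.Q.map ((bc (algebraMap A (B i))).map α)))
          (DerivedCategory.Q.mapIso (((bc (algebraMap A (B i))).commShiftIso n).app J) ≪≫
            (DerivedCategory.Q.commShiftIso n).app ((bc (algebraMap A (B i))).obj J))) ((h i).ext_self_subsingleton n hn)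
      obtain ⟨t, ht⟩ := hom_kill (B := B i) (S i) hP hEb ha' (fun i => inferInstance) g (Subsingleton.elim _ _)
      exact ⟨t, t.2, ht⟩
    have h4 : (1 : A) ∈ LinearMap.ker (LinearMap.toSpanSingleton A _ (DerivedCategory.Q.map g)) :=
      htop ▸ Submodule.mem_top
    simpa using h4

/-- Form for `LBaseChange`. -/
theorem isDualizing_of_injAmp_of_cover {K : Dual.D A} {a b : ℤ} (hK : DRing.HasInjAmplitudeIn A a b K)
    (hfin : ∀ i, Module.Finite A (Dual.HD A K i))
    {ι : Type*} (B : ι → Type u) [∀ i, CommRing (B i)] [∀ i, Algebra A (B i)] (S : ι → Submonoid A)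
    [∀ i, IsLocalization (S i) (B i)] (hS : ∀ I : Ideal A, I.IsMaximal → ∃ i, ∀ s ∈ S i, s ∉ I)
    (h : ∀ i, ∃ _ : DRing.HasLBaseChange (algebraMap A (B i)),
      Dual.IsDualizing (B i) ((DRing.LBaseChange (algebraMap A (B i))).obj K)) :
    Dual.IsDualizing A K := by
  obtain ⟨J, hz, hinj, ⟨e⟩⟩ := hK
  have hfin' : ∀ i, Module.Finite A (Dual.HD A (DRing.toD J) i) := fun i => haveI := hfin i
    Module.Finite.equiv ((DerivedCategory.homologyFunctor (ModuleCat.{u} A) i).mapIso e.symm).toLinearEquiv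
  refine isDualizing_of_iso e (isDualizing_of_cover J a b hz
    (fun i => (Module.injective_iff_injective_object A (J.X i)).1 (hinj i)) hfin' B S hS fun i => ?_)
  obtain ⟨hB, hd⟩ := h i
  obtain ⟨E, c, hEb, hEf, ⟨e'⟩⟩ := pc_of_injAmp hz hfin'
  obtain ⟨e₁⟩ := lbIso (B := B i) (S i) e ⟨E, c, hEb, hEf, ⟨e' ≪≫ e⟩⟩
  exact isDualizing_of_iso e₁.symm hd

end

end Groth.Agent.DualCx.Loc
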