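import Groth.Agent.DualCx.Apps
import Groth.Agent.DualCx.Canonical
import Mathlib.RingTheory.Ideal.AssociatedPrime.Localization

/-!
The top `Ext` into a normalized dualizing complex.
-/

set_option autoImplicit false
set_option linter.style.haveILetI false
set_option maxHeartbeats 1000000
universe u

namespace Groth.Agent.DualCx

open CategoryTheory Limits DerivedCategory Pretriangulated IsLocalRing

attribute [local instance] HasDerivedCategory.standard

noncomputable section

variable {A : Type u} [CommRing A] [IsLocalRing A] [IsNoetherianRing A] {ω : Dual.D A} (hω : Dual.IsDualizing A ω)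
  (hn : Dual.IsNormalized A ω) {M : Type u} [AddCommGroup M] [Module A M] [Module.Finite A M]
include hω hn

theorem del_le_of_supportDim {d : ℕ} (hd : Module.supportDim A M = (d : WithBot ℕ∞)) :
    ∀ r ∈ Module.support A M, del hω r ≤ d := fun r hr => by
  have h1 := (supportDim_localized_le_iff hω M (closedPoint A) d).1
    (by rw [supportDim_eq_localized, hd]) r hr (le_maximalIdeal r.isPrime.ne_top)
  rw [del_closed hω hn] at h1
  lia

theorem minimal_of_del_eq {d : ℕ} (hd : Module.supportDim A M = (d : WithBot ℕ∞)) {r : PrimeSpectrum A}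
    (hr : r ∈ Module.support A M) (hdel : del hω r = d) :
    r ∈ Module.support A (T ω M (-(d : ℤ))) ∧ r.asIdeal ∈ (Module.annihilator A M).minimalPrimes := by
  have hmin : ∀ s ∈ Module.support A M, s ≤ r → s = r := fun s hs hsr => by
    rcases hsr.eq_or_lt with h | h
    · exact h
    · have := del_lt hω h
      have := del_le_of_supportDim hω hn hd s hs
      lia
  refine ⟨?_, ⟨r.isPrime, Module.annihilator_le_of_mem_support hr⟩, fun s hs hsr => ?_⟩
  · rw [mem_support_iff_not_van, ← hdel]
    exact not_van_minimal hω hr hmin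
  · have := hmin ⟨s, hs.1⟩ (Module.mem_support_iff_of_finite.2 hs.2) hsr
    exact (congrArg PrimeSpectrum.asIdeal this).ge

theorem supportDim_T_top {d : ℕ} (hd : Module.supportDim A M = (d : WithBot ℕ∞)) [Nontrivial M] :
    Module.supportDim A (T ω M (-(d : ℤ))) = (d : WithBot ℕ∞) := by
  refine le_antisymm ((supportDim_T_le hω hn _).trans_eq (by simp)) ?_
  obtain ⟨r, hr, hdel⟩ : ∃ r ∈ Module.support A M, del hω r = d := by
    obtain ⟨d', hd', hv, -⟩ := exists_max hω (q := closedPoint A) (M := M) (by
      obtain ⟨p, hp⟩ := Module.nonempty_support_of_nontrivial (R := A) (M := M)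
      exact Module.mem_support_mono (show p.asIdeal ≤ maximalIdeal A from le_maximalIdeal p.isPrime.ne_top) hp)
    rw [supportDim_eq_localized, hd] at hd'
    obtain rfl : d = d' := by exact_mod_cast hd'
    obtain ⟨p, hp, -, h1, -⟩ := exists_of_not_van hω hv
    rw [del_closed hω hn] at h1
    have := del_le_of_supportDim hω hn hd p hp
    exact ⟨p, hp, by lia⟩
  rw [supportDim_maximal]
  exact le_krullDim hω (fun _ _ h ha => Module.mem_support_mono h ha) (minimal_of_del_eq hω hn hd hr hdel).1
    (le_maximalIdeal r.isPrime.ne_top) d (by rw [hdel, del_closed hω hn]; lia)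

theorem associatedPrimes_T_top {d : ℕ} (hd : Module.supportDim A M = (d : WithBot ℕ∞)) :
    associatedPrimes A (T ω M (-(d : ℤ))) = {p | p ∈ associatedPrimes A M ∧ ringKrullDim (A ⧸ p) = (d : WithBot ℕ∞)} := by
  haveI := finite_T hω M (-(d : ℤ))
  have h0 : ∀ r : PrimeSpectrum A, 0 ≤ del hω r := fun r => by
    have := del_le hω (show r ≤ closedPoint A from le_maximalIdeal r.isPrime.ne_top)
    have := del_closed hω hn
    lia
  have hdim : ∀ r : PrimeSpectrum A, ringKrullDim (A ⧸ r.asIdeal) = (d : WithBot ℕ∞) ↔ del hω r = d := fun r => by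
    rw [ringKrullDim_quotient_eq hω hn r]
    have := h0 r
    constructor
    · intro h
      have : (del hω r).toNat = d := by exact_mod_cast h
      lia
    · intro h
      rw [h]; simp
  have hsupp : ∀ r, r ∈ Module.support A (T ω M (-(d : ℤ))) → r ∈ Module.support A M := fun r hr => by
    by_contra h
    exact (mem_support_iff_not_van r _).1 hr (van_of_notMem_support h _)
  have hall := del_le_of_supportDim hω hn hd
  ext p
  constructor
  · intro hp
    obtain ⟨hp', x, hx⟩ := isAssociatedPrime_iff.1 hp
    let r : PrimeSpectrum A := ⟨p, hp'⟩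
    have hxne : x ≠ 0 := fun h => hp'.ne_top (by rw [hx, h]; simp)
    have hrM : r ∈ Module.support A M :=
      hsupp r (Module.mem_support_iff_of_finite.2 (by rw [← Submodule.annihilator_top]; exact IsAssociatedPrime.annihilator_le hp))
    have hdel : del hω r = d := by
      by_contra hne
      have hfin : {q ∈ (Module.annihilator A M).minimalPrimes | ∀ h : q.IsPrime, del hω ⟨q, h⟩ = (d : ℤ)}.Finite :=
        (Ideal.finite_minimalPrimes_of_isNoetherianRing A _).subset (Set.sep_subset _ _)
      obtain ⟨y, hy, hy'⟩ : ∃ y ∈ p, ∀ q ∈ hfin.toFinset, y ∉ q := by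
        by_contra hcon
        push Not at hcon
        obtain ⟨q, hq, hle⟩ := (Ideal.subset_union_prime (s := hfin.toFinset) (f := id) ⊥ ⊥
          (fun i hi _ _ => (hfin.mem_toFinset.1 hi).1.1.1)).1
          (show (p : Set A) ⊆ _ from fun z hz => by
            obtain ⟨q, hq, hzq⟩ := hcon z hz
            exact Set.mem_iUnion₂.2 ⟨q, hq, hzq⟩)
        obtain ⟨hq1, hq2⟩ := hfin.mem_toFinset.1 hq
        have := del_le hω (show r ≤ (⟨q, hq1.1.1⟩ : PrimeSpectrum A) from hle)
        have := hq2 hq1.1.1
        have := hall r hrM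
        lia
      have hyx : y • x = 0 := by
        rw [hx] at hy
        simpa using hy
      obtain ⟨u, hu, hux⟩ := regular_top hω (q := closedPoint A) (M := M) (y := y) (e := (d : ℤ))
        (fun s hs _ => hall s hs) (fun s hs _ hys => by
          refine lt_of_le_of_ne (hall s hs) fun hsd => hy' s.asIdeal (hfin.mem_toFinset.2
            ⟨(minimal_of_del_eq hω hn hd hs hsd).2, fun _ => hsd⟩) hys)
        x ⟨1, (closedPoint A).isPrime.one_notMem, by rw [one_smul, hyx]⟩
      exact hxne ((IsUnit.smul_eq_zero (not_not.1 hu)).1 hux)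
    exact ⟨Module.associatedPrimes.minimalPrimes_annihilator_subset_associatedPrimes A M
      (minimal_of_del_eq hω hn hd hrM hdel).2, (hdim r).2 hdel⟩
  · rintro ⟨hp, hpd⟩
    have hp' := IsAssociatedPrime.isPrime hp
    let r : PrimeSpectrum A := ⟨p, hp'⟩
    have hrM : r ∈ Module.support A M := Module.mem_support_iff_of_finite.2 (by rw [← Submodule.annihilator_top]; exact IsAssociatedPrime.annihilator_le hp)
    obtain ⟨h1, h2⟩ := minimal_of_del_eq hω hn hd hrM ((hdim r).1 hpd)
    refine Module.associatedPrimes.minimalPrimes_annihilator_subset_associatedPrimes A _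
      ⟨⟨hp', Module.annihilator_le_of_mem_support h1⟩, fun s hs hsr => h2.2 ⟨hs.1, ?_⟩ hsr⟩
    exact Module.annihilator_le_of_mem_support (p := ⟨s, hs.1⟩)
      (hsupp ⟨s, hs.1⟩ (Module.mem_support_iff_of_finite.2 hs.2))

end

end Groth.Agent.DualCx
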