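import Groth.Agent.DualCx.Matlis
import Groth.Agent.LocH.Sequence
import Groth.Agent.FlatDepth.Basic

/-!
The pairing `Hⁱ_𝔪(M) × Hom_D(M, ω[-i]) → E`.
-/

set_option autoImplicit false
set_option maxHeartbeats 1000000
universe u

namespace Groth.Agent.DualCx

open CategoryTheory Limits DerivedCategory Pretriangulated Abelian IsLocalRing

attribute [local instance] HasDerivedCategory.standard

noncomputable section

variable {A : Type u} [CommRing A] {ω : Dual.D A} {X M N : ModuleCat.{u} A} {i : ℕ} {a : ℤ}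

theorem shifted_zero_comp {C : Type*} [Category C] [Preadditive C] [HasShift C ℤ] [∀ n : ℤ, (shiftFunctor C n).Additive]
    {X Y Z : C} {a b c : ℤ} (g : ShiftedHom Y Z b) (h : b + a = c) :
    ((0 : ShiftedHom X Y a)).comp g h = 0 := by
  simp [ShiftedHom.comp]

/-- Composition of a class in `Extⁱ(X, M)` with a morphism `M → ω[-i]`. -/
def pair (e : Ext X M i) (ha : a + (i : ℤ) = 0) : T ω M a →ₗ[A] T ω X 0 where
  toFun x := e.hom.comp x ha
  map_add' x y := ShiftedHom.comp_add _ _ _ _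
  map_smul' c x := ShiftedHom.comp_smul _ _ _ _

theorem pair_apply (e : Ext X M i) (ha : a + (i : ℤ) = 0) (x : T ω M a) : pair e ha x = e.hom.comp x ha := rfl

theorem pair_add (e e' : Ext X M i) (ha : a + (i : ℤ) = 0) (x : T ω M a) :
    pair (e + e') ha x = pair e ha x + pair e' ha x := by
  simp only [pair_apply, Ext.add_hom]
  exact ShiftedHom.add_comp _ _ _ _

theorem pair_smul (c : A) (e : Ext X M i) (ha : a + (i : ℤ) = 0) (x : T ω M a) :
    pair (c • e) ha x = c • pair e ha x := by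
  simp only [pair_apply, Ext.smul_hom]
  exact ShiftedHom.smul_comp _ _ _ _

theorem pair_pre {X' : ModuleCat.{u} A} (g : X' ⟶ X) (e : Ext X M i) (ha : a + (i : ℤ) = 0) (x : T ω M a) :
    pair ((Ext.mk₀ g).comp e (zero_add i)) ha x = pre ω 0 g.hom (pair e ha x) := by
  simp only [pair_apply, Ext.comp_hom, Ext.mk₀_hom]
  rw [ShiftedHom.comp_assoc _ _ _ (show (i : ℤ) + ((0 : ℕ) : ℤ) = i by simp) ha (by simp [ha]), ShiftedHom.mk₀_comp]
  rfl

theorem pair_map (f : M ⟶ N) (e : Ext X M i) (ha : a + (i : ℤ) = 0) (x : T ω N a) :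
    pair (e.comp (Ext.mk₀ f) (add_zero i)) ha x = pair e ha (pre ω a f.hom x) := by
  simp only [pair_apply, Ext.comp_hom, Ext.mk₀_hom]
  rw [ShiftedHom.comp_assoc _ _ _ (show ((0 : ℕ) : ℤ) + (i : ℤ) = i by simp)
    (show a + ((0 : ℕ) : ℤ) = a by simp) (by simp [ha]), ShiftedHom.mk₀_comp]
  rfl

theorem pair_extClass {L M' N' : Type u} [AddCommGroup L] [Module A L] [AddCommGroup M'] [Module A M']
    [AddCommGroup N'] [Module A N'] {f : L →ₗ[A] M'} {g : M' →ₗ[A] N'} (h : SES f g)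
    (e : Ext X (ModuleCat.of A N') i) {b : ℤ} (hab : a + 1 = b) (hb : b + (i : ℤ) = 0)
    (ha : a + ((i + 1 : ℕ) : ℤ) = 0) (x : T ω L a) :
    pair (e.comp h.shortExact.extClass rfl : Ext X (ModuleCat.of A L) (i + 1)) ha x = pair e hb (h.delta ω hab x) := by
  have h1 := ShiftedHom.comp_assoc (C := Dual.D A) (M := ℤ) (a₁₂ := ((i + 1 : ℕ) : ℤ)) (a₂₃ := b) (a := (0 : ℤ))
    e.hom (h.shortExact.extClass).hom x (show ((1 : ℕ) : ℤ) + (i : ℤ) = ((i + 1 : ℕ) : ℤ) by push_cast; ring)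
    (show a + ((1 : ℕ) : ℤ) = b by push_cast; exact hab) (show a + ((1 : ℕ) : ℤ) + (i : ℤ) = 0 by push_cast; lia)
  have h2 : h.delta ω hab x = (h.shortExact.extClass).hom.comp x (show a + ((1 : ℕ) : ℤ) = b by push_cast; exact hab) := by
    rw [h.shortExact.extClass_hom]
    rfl
  show (e.comp h.shortExact.extClass rfl).hom.comp x ha = e.hom.comp (h.delta ω hab x) hb
  rw [h2, Ext.comp_hom]
  exact h1

variable [IsLocalRing A] {E : Type u} [AddCommGroup E] [Module A E]

/-- A compatible family of embeddings of the duals of `A/𝔪ⁿ`. -/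
structure Fam (ω : Dual.D A) (E : Type u) [AddCommGroup E] [Module A E] where
  φ : (n : ℕ) → T ω (Q A (n + 1)) 0 →ₗ[A] E
  inj : ∀ n, Function.Injective (φ n)
  compat : ∀ n x, φ (n + 1) (pre ω 0 (tr (Nat.le_succ (n + 1))) x) = φ n x

variable (Φ : Fam ω E)

theorem Fam.compat_le {n k : ℕ} (h : n ≤ k) (x : T ω (Q A (n + 1)) 0) :
    Φ.φ k (pre ω 0 (tr (Nat.succ_le_succ h)) x) = Φ.φ n x := by
  induction k, h using Nat.le_induction with
  | base =>
    rw [show tr (A := A) (Nat.succ_le_succ (le_refl n)) = LinearMap.id from Submodule.linearMap_qext _ rfl, pre_id]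
  | succ k hk ih =>
    rw [show tr (A := A) (Nat.succ_le_succ (Nat.le_succ_of_le hk)) =
        (tr (A := A) (Nat.succ_le_succ hk)).comp (tr (Nat.le_succ (k + 1))) from
      Submodule.linearMap_qext _ (LinearMap.ext fun c => by simp [tr]), pre_comp, Φ.compat, ih]

/-- The functional attached to a class at level `n`. -/
def Fam.theta0 {n : ℕ} (e : Ext (LocH.quotObj (maximalIdeal A) n) M i) (ha : a + (i : ℤ) = 0) : T ω M a →ₗ[A] E :=
  (Φ.φ n).comp ((pre ω 0 (tr (Nat.le_succ n))).comp (pair e ha))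

theorem Fam.theta0_trans {n k : ℕ} (h : n ≤ k) (e : Ext (LocH.quotObj (maximalIdeal A) n) M i) (ha : a + (i : ℤ) = 0) :
    Φ.theta0 ((Ext.mk₀ (LocH.trans (maximalIdeal A) h)).comp e (zero_add i)) ha = Φ.theta0 e ha := by
  refine LinearMap.ext fun x => ?_
  show Φ.φ k (pre ω 0 (tr (Nat.le_succ k)) (pair ((Ext.mk₀ (LocH.trans (maximalIdeal A) h)).comp e (zero_add i)) ha x)) =
    Φ.φ n (pre ω 0 (tr (Nat.le_succ n)) (pair e ha x))
  rw [pair_pre, ← Φ.compat_le h, ← pre_comp, ← pre_comp]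
  congr 1
  refine congrArg (fun g => pre ω 0 g (pair e ha x)) ?_
  exact Submodule.linearMap_qext _ (LinearMap.ext fun c => by simp [tr, LocH.trans])

theorem Fam.theta0_add {n : ℕ} (e e' : Ext (LocH.quotObj (maximalIdeal A) n) M i) (ha : a + (i : ℤ) = 0) :
    Φ.theta0 (e + e') ha = Φ.theta0 e ha + Φ.theta0 e' ha :=
  LinearMap.ext fun x => by
    simp only [Fam.theta0, LinearMap.comp_apply, LinearMap.add_apply]
    erw [pair_add, map_add, map_add]

theorem Fam.theta0_smul {n : ℕ} (c : A) (e : Ext (LocH.quotObj (maximalIdeal A) n) M i) (ha : a + (i : ℤ) = 0) :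
    Φ.theta0 (c • e) ha = c • Φ.theta0 e ha :=
  LinearMap.ext fun x => by
    simp only [Fam.theta0, LinearMap.comp_apply, LinearMap.smul_apply]
    erw [pair_smul, map_smul, map_smul]

theorem Fam.theta0_congr {n k : ℕ} {α : Ext (LocH.quotObj (maximalIdeal A) n) M i}
    {β : Ext (LocH.quotObj (maximalIdeal A) k) M i} (ha : a + (i : ℤ) = 0)
    (h : LocH.hι (maximalIdeal A) M i n α = LocH.hι (maximalIdeal A) M i k β) :
    Φ.theta0 α ha = Φ.theta0 β ha := by
  rw [← LocH.hι_trans (le_max_left n k) α, ← LocH.hι_trans (le_max_right n k) β, ← sub_eq_zero, ← map_sub,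
    LocH.hι_eq_zero_iff] at h
  obtain ⟨l, hl, h0⟩ := h
  rw [← Φ.theta0_trans (le_max_left n k), ← Φ.theta0_trans (le_max_right n k) β, ← sub_eq_zero]
  rw [sub_eq_add_neg, ← neg_one_smul A (Φ.theta0 _ ha), ← Φ.theta0_smul, ← Φ.theta0_add, neg_one_smul,
    ← sub_eq_add_neg, ← Φ.theta0_trans hl, h0]
  refine LinearMap.ext fun x => ?_
  have : pair (0 : Ext (LocH.quotObj (maximalIdeal A) l) M i) ha x = 0 := by
    show (0 : Ext (LocH.quotObj (maximalIdeal A) l) M i).hom.comp x ha = 0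
    rw [Ext.zero_hom]
    exact shifted_zero_comp x ha
  simp only [Fam.theta0, LinearMap.comp_apply, LinearMap.zero_apply]
  erw [this, map_zero, map_zero]

/-- The duality map. -/
def Fam.theta (M : ModuleCat.{u} A) (i : ℕ) (ha : a + (i : ℤ) = 0) :
    ↑((localCohomology (maximalIdeal A) i).obj M) →ₗ[A] (T ω M a →ₗ[A] E) where
  toFun y := Φ.theta0 (LocH.exists_hι y).choose_spec.choose ha
  map_add' y z := by
    obtain ⟨n, α, hα⟩ := LocH.exists_hι y
    obtain ⟨k, β, hβ⟩ := LocH.exists_hι z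
    rw [← LocH.hι_trans (le_max_left n k) α] at hα
    rw [← LocH.hι_trans (le_max_right n k) β] at hβ
    rw [Φ.theta0_congr ha ((LocH.exists_hι (y + z)).choose_spec.choose_spec.trans
        ((congrArg₂ (· + ·) hα hβ).symm.trans (map_add _ _ _).symm)),
      Φ.theta0_congr ha ((LocH.exists_hι y).choose_spec.choose_spec.trans hα.symm),
      Φ.theta0_congr ha ((LocH.exists_hι z).choose_spec.choose_spec.trans hβ.symm), Φ.theta0_add]
  map_smul' c y := by
    obtain ⟨n, α, hα⟩ := LocH.exists_hι y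
    rw [RingHom.id_apply, Φ.theta0_congr ha ((LocH.exists_hι (c • y)).choose_spec.choose_spec.trans
        ((congrArg (c • ·) hα).symm.trans (map_smul _ c α).symm)),
      Φ.theta0_congr ha ((LocH.exists_hι y).choose_spec.choose_spec.trans hα.symm), Φ.theta0_smul]

theorem Fam.theta_hι (ha : a + (i : ℤ) = 0) {n : ℕ} (α : Ext (LocH.quotObj (maximalIdeal A) n) M i) :
    Φ.theta M i ha (LocH.hι (maximalIdeal A) M i n α) = Φ.theta0 α ha :=
  Φ.theta0_congr ha (LocH.exists_hι _).choose_spec.choose_spec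

theorem Fam.theta_map (ha : a + (i : ℤ) = 0) (f : M ⟶ N) (y : ↑((localCohomology (maximalIdeal A) i).obj M))
    (x : T ω N a) :
    Φ.theta N i ha ((localCohomology (maximalIdeal A) i).map f y) x = Φ.theta M i ha y (pre ω a f.hom x) := by
  obtain ⟨n, α, rfl⟩ := LocH.exists_hι y
  rw [LocH.map_hι, Φ.theta_hι, Φ.theta_hι]
  simp only [Fam.theta0, LinearMap.comp_apply]
  erw [pair_map]

theorem Fam.theta_delta {L M' N' : Type u} [AddCommGroup L] [Module A L] [AddCommGroup M'] [Module A M']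
    [AddCommGroup N'] [Module A N'] {f : L →ₗ[A] M'} {g : M' →ₗ[A] N'} (h : SES f g) {b : ℤ} (hab : a + 1 = b)
    (hb : b + (i : ℤ) = 0) (ha : a + ((i + 1 : ℕ) : ℤ) = 0)
    (y : ↑((localCohomology (maximalIdeal A) i).obj (ModuleCat.of A N'))) (x : T ω L a) :
    Φ.theta (ModuleCat.of A L) (i + 1) ha (LocH.delta h.shortExact i y) x =
      Φ.theta (ModuleCat.of A N') i hb y (h.delta ω hab x) := by
  obtain ⟨n, α, rfl⟩ := LocH.exists_hι y
  have h1 := LocH.delta_hι h.shortExact i α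
  erw [h1, Φ.theta_hι, Φ.theta_hι]
  simp only [Fam.theta0, LinearMap.comp_apply]
  erw [pair_extClass h α hab hb ha x]

end

end Groth.Agent.DualCx
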