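import Groth.Agent.DualCx.PolyModule
import Groth.Agent.DualCx.LocalizeGlobal
import Groth.Agent.KInj.Adjunction

/-!
A dualizing complex stays dualizing over the polynomial ring.
-/

set_option autoImplicit false
set_option linter.style.haveILetI false
set_option backward.isDefEq.respectTransparency false
set_option maxHeartbeats 1000000
universe u

namespace Groth.Agent.DualCx.Poly

open CategoryTheory Limits DerivedCategory HomologicalComplex DRingKP Polynomial
open scoped TensorProduct

attribute [local instance] HasDerivedCategory.standard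

noncomputable section

variable {A : Type u} [CommRing A]

/-- extension of complexes -/
abbrev FC (A : Type u) [CommRing A] : DRing.Cx A ⥤ DRing.Cx A[X] := bc (algebraMap A A[X])

/-- restriction of complexes -/
abbrev RC (A : Type u) [CommRing A] : DRing.Cx A[X] ⥤ DRing.Cx A :=
  (R A).mapHomologicalComplex (ComplexShape.up ℤ)

/-- the adjunction on complexes -/
abbrev adjC (A : Type u) [CommRing A] : FC A ⊣ RC A := KInj.mapHomologicalComplexAdj (adj A) _

theorem flat_map : (algebraMap A A[X]).Flat :=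
  RingHom.flat_algebraMap_iff.2 inferInstance

/-- coefficient of complexes -/
def projC (k : ℕ) (J : DRing.Cx A) : (RC A).obj ((FC A).obj J) ⟶ J where
  f i := proj k (J.X i)
  comm' i j _ := (proj_natural k (J.d i j)).symm

/-- inclusion of complexes -/
def inclC (k : ℕ) (J : DRing.Cx A) : J ⟶ (RC A).obj ((FC A).obj J) :=
  (adjC A).unit.app J ≫ (RC A).map ((X : A[X]) ^ k • 𝟙 ((FC A).obj J))

theorem inclC_f (k : ℕ) (J : DRing.Cx A) (i : ℤ) : (inclC k J).f i = incl k (J.X i) := rfl

theorem exists_finsetC {E J : DRing.Cx A} {a b : ℤ} (hE : ∀ i, Module.Finite A (E.X i))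
    (hb : DRing.VanishesAbove E b) (ha : ∀ i : ℤ, i < a → IsZero (J.X i))
    (ψ : E ⟶ (RC A).obj ((FC A).obj J)) :
    ∃ s : Finset ℕ, ψ = ∑ k ∈ s, ψ ≫ projC k J ≫ inclC k J := by
  classical
  choose t ht using fun i => haveI := hE i; exists_finset (J.X i) (ψ.f i)
  refine ⟨(Finset.Icc a b).biUnion t, HomologicalComplex.hom_ext _ _ fun i => ?_⟩
  by_cases hi : i ∈ Finset.Icc a b
  · exact (ht i _ (fun k hk => Finset.mem_biUnion.2 ⟨i, hi, hk⟩)).symm.trans
      ((map_sum (AddMonoidHom.mk' (fun φ : E ⟶ (RC A).obj ((FC A).obj J) => φ.f i) fun _ _ => rfl)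
        (fun k => ψ ≫ projC k J ≫ inclC k J) _).symm.trans rfl)
  · rw [Finset.mem_Icc] at hi
    by_cases h : i < a
    · exact ((R A).map_isZero ((F A).map_isZero (ha i h))).eq_of_tgt _ _
    · exact (hb i (by lia)).eq_of_src _ _

/-- homotopic to zero -/
def Null {B : Type u} [CommRing B] {E J : DRing.Cx B} (f : E ⟶ J) : Prop := Nonempty (Homotopy f 0)

theorem null_sum {E J : DRing.Cx A} (s : Finset ℕ) (f : ℕ → (E ⟶ J)) (h : ∀ k ∈ s, Null (f k)) :
    Null (∑ k ∈ s, f k) := by
  classical
  induction s using Finset.induction with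
  | empty => rw [Finset.sum_empty]; exact ⟨Homotopy.refl 0⟩
  | insert k s hk ih =>
    rw [Finset.sum_insert hk]
    obtain ⟨h1⟩ := h k (Finset.mem_insert_self k s)
    obtain ⟨h2⟩ := ih fun j hj => h j (Finset.mem_insert_of_mem hj)
    exact ⟨(h1.add h2).trans (Homotopy.ofEq (add_zero 0))⟩

theorem null_adjunct {E : DRing.Cx A} {Y : DRing.Cx A[X]} (φ : (FC A).obj E ⟶ Y)
    (h : Null ((adjC A).unit.app E ≫ (RC A).map φ)) : Null φ := by
  obtain ⟨h⟩ := h
  have e : φ = (FC A).map ((adjC A).unit.app E ≫ (RC A).map φ) ≫ (adjC A).counit.app Y :=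
    (((adjC A).homEquiv E Y).symm_apply_apply φ).symm.trans
      (by rw [(adjC A).homEquiv_counit E Y, (adjC A).homEquiv_unit E Y φ])
  rw [e]
  refine ⟨(((F A).mapHomotopy h).compRight ((adjC A).counit.app Y)).trans (Homotopy.ofEq ?_)⟩
  rw [Functor.map_zero, Limits.zero_comp]

theorem null_of_comps {E J : DRing.Cx A} {a b : ℤ} (hE : ∀ i, Module.Finite A (E.X i))
    (hb : DRing.VanishesAbove E b) (ha : ∀ i : ℤ, i < a → IsZero (J.X i))
    (φ : (FC A).obj E ⟶ (FC A).obj J)
    (h : ∀ k, Null (((adjC A).unit.app E ≫ (RC A).map φ) ≫ projC k J)) : Null φ := by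
  refine null_adjunct φ ?_
  obtain ⟨s, hs⟩ := exists_finsetC hE hb ha ((adjC A).unit.app E ≫ (RC A).map φ)
  rw [hs]
  refine null_sum s _ fun k _ => ?_
  obtain ⟨hk⟩ := h k
  refine ⟨((Homotopy.ofEq (Category.assoc _ _ _).symm).trans (hk.compRight (inclC k J))).trans
    (Homotopy.ofEq Limits.zero_comp)⟩

theorem adjunct_pow {E J : DRing.Cx A} (α : E ⟶ J) (c : A) (k : ℕ) :
    (adjC A).unit.app E ≫ (RC A).map (monomial k c • (FC A).map α) = (c • α) ≫ inclC k J := by
  have h : monomial k c • (FC A).map α = (FC A).map (c • α) ≫ ((X : A[X]) ^ k • 𝟙 _) := by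
    rw [Linear.comp_smul, Category.comp_id, Loc.bc_map_smul, smul_smul]
    congr 1
    rw [Polynomial.algebraMap_eq, mul_comm, C_mul_X_pow_eq_monomial]
  rw [h, Functor.map_comp, inclC, ← Category.assoc, ← Category.assoc]
  exact congrArg (· ≫ _) ((adjC A).unit.naturality (c • α)).symm

theorem incl_proj (k j : ℕ) (N : ModuleCat.{u} A) :
    incl k N ≫ proj j N = if k = j then 𝟙 N else 0 := by
  refine ModuleCat.hom_ext (LinearMap.ext fun x => ?_)
  show (proj j N).hom ((incl k N).hom x) = _
  rw [show (incl k N).hom x = (toTensor N).symm (((X : A[X]) ^ k) ⊗ₜ x) from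
    (toTensor N).injective (by rw [LinearEquiv.apply_symm_apply, incl_apply]), proj_apply_tmul, coeff_X_pow]
  by_cases h : k = j
  · rw [if_pos h, if_pos h.symm, one_smul]; rfl
  · rw [if_neg h, if_neg (Ne.symm h), zero_smul]; rfl

theorem inclC_projC (k j : ℕ) (J : DRing.Cx A) : inclC k J ≫ projC j J = if k = j then 𝟙 J else 0 :=
  HomologicalComplex.hom_ext _ _ fun i => by
    rw [HomologicalComplex.comp_f, inclC_f]
    refine (incl_proj k j (J.X i)).trans ?_
    by_cases h : k = j <;> simp [h]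

variable [IsNoetherianRing A]

theorem injective_res (J : DRing.Cx A) (hinj : ∀ i, Injective (J.X i)) (i : ℤ) :
    Injective (((RC A).obj ((FC A).obj J)).X i) :=
  haveI := hinj i; injective_res_map (J.X i)

theorem null_of_amp {P Y : DRing.Cx A} [P.IsKProjective] (N : Type u) [AddCommGroup N] [Module A N]
    (eP : DRing.toD P ≅ Dual.inD A N) {a b : ℤ} (hz : ∀ i, i < a ∨ b < i → IsZero (Y.X i))
    (hinj : ∀ i, Injective (Y.X i)) (h0 : (0 : ℤ) < a ∨ b < 0) (ψ : P ⟶ Y) : Null ψ := by
  have hamp : DRing.HasInjAmplitudeIn A a b (DRing.toD Y) :=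
    ⟨Y, hz, fun i => (Module.injective_iff_injective_object A _).2 (hinj i), ⟨Iso.refl _⟩⟩
  haveI : Subsingleton (DRing.toD P ⟶ DRing.toD Y) := @Equiv.subsingleton _ _
    (Iso.homCongr eP ((shiftFunctorZero (Dual.D A) ℤ).app (DRing.toD Y)).symm)
    (ext_eq_zero_of_amp hamp (ModuleCat.of A N) 0 h0)
  haveI := hinj
  haveI : Y.IsStrictlyGE a := (CochainComplex.isStrictlyGE_iff Y a).2 fun i hi => hz i (Or.inl hi)
  haveI := CochainComplex.isKInjective_of_injective Y a
  exact exists_homotopy_inj ψ (Subsingleton.elim _ _)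

theorem subsingleton_induced (J : DRing.Cx A) (a b : ℤ) (hz : ∀ i : ℤ, i < a ∨ b < i → IsZero (J.X i))
    (hinj : ∀ i, Injective (J.X i)) (N : Type u) [AddCommGroup N] [Module A N] {n : ℤ} (hn : n < a ∨ b < n) :
    Subsingleton (Dual.inD A[X] (A[X] ⊗[A] N) ⟶ (DRing.toD ((FC A).obj J))⟦n⟧) := by
  obtain ⟨P, c, hc, hP, ⟨eP⟩⟩ := exists_proj_rep_le (Dual.inD A N) ⟨1, fun i hi =>
    (DerivedCategory.isLE_iff _ 0).1 inferInstance i (by lia)⟩
  haveI := isKProjective_of_vanishesAbove hc hP
  let Jn := (shiftFunctor (DRing.Cx A) n).obj J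
  haveI : ((FC A).obj P).IsKProjective := isKProjective_of_vanishesAbove (b := c)
    (fun i hi => (F A).map_isZero (hc i hi)) fun i => haveI := hP i; (adj A).map_projective _ (hP i)
  suffices Subsingleton (DRing.toD ((FC A).obj P) ⟶ DRing.toD ((FC A).obj Jn)) from @Equiv.subsingleton _ _
    (Iso.homCongr (bcSingleIso N eP)
      (DerivedCategory.Q.mapIso (((FC A).commShiftIso n).app J) ≪≫ (DerivedCategory.Q.commShiftIso n).app _)).symm this
  refine subsingleton_of_forall_eq 0 fun f => ?_
  obtain ⟨φ, rfl⟩ := PerfLocal.exists_lift f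
  obtain ⟨h⟩ := null_adjunct φ (null_of_amp N eP (a := a - n) (b := b - n) (Y := (RC A).obj ((FC A).obj Jn))
    (fun i hi => (R A).map_isZero ((F A).map_isZero (hz (i + n) (by lia))))
    (fun i => injective_res Jn (fun i => hinj (i + n)) i) (by lia) _)
  rw [DerivedCategory.Q_map_eq_of_homotopy _ h, Functor.map_zero]

/-- The polynomial ring. -/
theorem isDualizing_poly (J : DRing.Cx A) (a b : ℤ) (hz : ∀ i : ℤ, i < a ∨ b < i → IsZero (J.X i))
    (hinj : ∀ i, Injective (J.X i)) (h : Dual.IsDualizing A (DRing.toD J)) :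
    Dual.IsDualizing A[X] (DRing.toD ((FC A).obj J)) := by
  haveI := hinj
  have ha : ∀ i : ℤ, i < a → IsZero (J.X i) := fun i hi => hz i (Or.inl hi)
  haveI : J.IsStrictlyGE a := (CochainComplex.isStrictlyGE_iff J a).2 ha
  haveI := CochainComplex.isKInjective_of_injective J a
  obtain ⟨E, c, hEb, hEf, ⟨e⟩⟩ := Loc.pc_of_injAmp hz h.finite_cohomology
  obtain ⟨α, hα⟩ := exists_lift_inj e.hom
  have hE : ∀ i, Module.Finite A (E.X i) := fun i => (hEf i).1
  haveI : ((FC A).obj E).IsKProjective := isKProjective_of_vanishesAbove (b := c)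
    (fun i hi => (F A).map_isZero (hEb i hi))
    (projective_X (termwiseFiniteProjective_of_free fun i => extendScalars_finiteFree _ (hEf i)))
  haveI : PreservesFiniteLimits (F A) := ModuleCat.preservesFiniteLimits_extendScalars_of_flat flat_map
  haveI : PreservesFiniteColimits (F A) := inferInstance
  haveI : IsIso (DerivedCategory.Q.map α) := hα ▸ inferInstance
  haveI : QuasiIso α := (DerivedCategory.isIso_Q_map_iff_quasiIso _ α).1 inferInstance
  haveI : QuasiIso ((FC A).map α) := inferInstance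
  let β := DerivedCategory.Q.map ((FC A).map α)
  haveI : IsIso β := inferInstance
  -- comparison of components
  have hcomp : ∀ (p : A[X]) (k : ℕ),
      ((adjC A).unit.app E ≫ (RC A).map (p • (FC A).map α)) ≫ projC k J = p.coeff k • α := by
    intro p k
    induction p using Polynomial.induction_on' with
    | add p q hp hq =>
      rw [add_smul, Functor.map_add, Preadditive.comp_add, Preadditive.add_comp, hp, hq, coeff_add, add_smul]
    | monomial j d =>
      rw [adjunct_pow, Category.assoc, inclC_projC, coeff_monomial]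
      by_cases hj : j = k <;> simp [hj]
  refine ⟨inferInstance, ⟨a, b + 1, fun M _ _ i hi => ?_⟩, fun i => ?_, ⟨fun p q hpq => ?_, fun f => ?_⟩,
    fun n hn => ?_⟩
  · letI : Module A M := Module.compHom M (algebraMap A A[X])
    haveI : IsScalarTower A A[X] M := IsScalarTower.of_algebraMap_smul fun _ _ => rfl
    obtain ⟨f, g, hfg⟩ := exists_ses (A := A) M
    exact hfg.subsingleton_right (i := i - 1) (j := i)
      (subsingleton_induced J a b hz hinj M (n := i - 1) (by lia))
      (subsingleton_induced J a b hz hinj M (n := i) (by lia)) (by lia)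
  · have h1 : DRing.IsPseudoCoherent A[X] (i - 1) (DRing.toD ((FC A).obj J)) :=
      pc_bc_of_flat _ flat_map J (i - 1) (pc_of_pc' ⟨E, c, hEb, hEf, ⟨e⟩⟩ (i - 1))
    haveI := (pc_finite_fp isCoh_of_noetherian h1).2 i (by lia)
    exact inferInstanceAs (Module.Finite A[X] ((DerivedCategory.homologyFunctor (ModuleCat.{u} A[X]) i).obj _))
  · rw [← sub_eq_zero]
    ext k
    have h0 : DerivedCategory.Q.map ((p - q) • (FC A).map α) = 0 := by
      rw [Functor.map_smul, show (p - q) • β = β ≫ ((p - q) • 𝟙 _) by simp, sub_smul,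
        show p • 𝟙 _ = q • 𝟙 _ from hpq, sub_self, Limits.comp_zero]
    obtain ⟨ho⟩ := DRingKP.exists_homotopy _ h0
    have h1 : DerivedCategory.Q.map ((p - q).coeff k • α) = 0 := by
      rw [← hcomp, DerivedCategory.Q_map_eq_of_homotopy _
        ((((R A).mapHomotopy ho).compLeft ((adjC A).unit.app E)).compRight (projC k J))]
      simp
    rw [Functor.map_smul, hα] at h1
    have h2 : (p - q).coeff k • 𝟙 (DRing.toD J) = 0 := by
      have := congrArg (e.inv ≫ ·) h1
      simpa using this
    rw [coeff_zero]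
    exact h.toEnd_bijective.1 (h2.trans (zero_smul A _).symm)
  · obtain ⟨φ, hφ⟩ := PerfLocal.exists_lift (β ≫ f)
    obtain ⟨s, hs⟩ := exists_finsetC hE hEb ha ((adjC A).unit.app E ≫ (RC A).map φ)
    choose x hx using fun k : ℕ => h.toEnd_bijective.2
      (e.inv ≫ DerivedCategory.Q.map (((adjC A).unit.app E ≫ (RC A).map φ) ≫ projC k J))
    let p : A[X] := ∑ k ∈ s, monomial k (x k)
    have hnull : Null (φ - p • (FC A).map α) := by
      refine null_adjunct _ ?_
      rw [Functor.map_sub, Preadditive.comp_sub, hs]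
      simp only [p, Finset.sum_smul, Functor.map_sum, Preadditive.comp_sum, adjunct_pow, ← Finset.sum_sub_distrib]
      refine null_sum s _ fun k _ => ?_
      rw [← Category.assoc, ← Preadditive.sub_comp]
      obtain ⟨ho⟩ := exists_homotopy_inj ((((adjC A).unit.app E ≫ (RC A).map φ) ≫ projC k J : E ⟶ J) - x k • α) (by
        rw [Functor.map_sub, Functor.map_smul, hα, sub_eq_zero]
        have := congrArg (e.hom ≫ ·) (hx k)
        simpa using this.symm)
      exact ⟨(ho.compRight (inclC k J)).trans (Homotopy.ofEq Limits.zero_comp)⟩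
    obtain ⟨ho⟩ := hnull
    have h3 := DerivedCategory.Q_map_eq_of_homotopy _ ho
    rw [Functor.map_zero, Functor.map_sub, sub_eq_zero, hφ, Functor.map_smul] at h3
    refine ⟨p, (cancel_epi β).1 ?_⟩
    show β ≫ (p • 𝟙 (DRing.toD ((FC A).obj J))) = β ≫ f
    rw [Linear.comp_smul, Category.comp_id, h3]
  · let Jn := (shiftFunctor (DRing.Cx A) n).obj J
    haveI : ∀ i, Injective (Jn.X i) := fun i => inferInstanceAs (Injective (J.X (i + n)))
    have ha' : ∀ i : ℤ, i < a - n → IsZero (Jn.X i) := fun i hi => ha (i + n) (by lia)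
    haveI : Jn.IsStrictlyGE (a - n) := (CochainComplex.isStrictlyGE_iff Jn _).2 ha'
    haveI := CochainComplex.isKInjective_of_injective Jn (a - n)
    haveI : Subsingleton (DRing.toD E ⟶ DRing.toD Jn) := @Equiv.subsingleton _ _
      (Iso.homCongr e ((DerivedCategory.Q.commShiftIso n).app J)) (h.ext_self_subsingleton n hn)
    suffices Subsingleton (DRing.toD ((FC A).obj E) ⟶ DRing.toD ((FC A).obj Jn)) from @Equiv.subsingleton _ _
      (Iso.homCongr (asIso β)
        (DerivedCategory.Q.mapIso (((FC A).commShiftIso n).app J) ≪≫ (DerivedCategory.Q.commShiftIso n).app _)).symm this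
    refine subsingleton_of_forall_eq 0 fun f => ?_
    obtain ⟨φ, rfl⟩ := PerfLocal.exists_lift f
    obtain ⟨ho⟩ := null_of_comps hE hEb ha' φ fun k => exists_homotopy_inj _ (Subsingleton.elim (α := DRing.toD E ⟶ DRing.toD Jn) _ _)
    rw [DerivedCategory.Q_map_eq_of_homotopy _ ho, Functor.map_zero]

/-- Polynomial ring, `LBaseChange` form. -/
theorem isDualizing_lBaseChange [DRing.HasLBaseChange (algebraMap A A[X])] {ω : Dual.D A}
    (hω : Dual.IsDualizing A ω) : Dual.IsDualizing A[X] ((DRing.LBaseChange (algebraMap A A[X])).obj ω) := by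
  obtain ⟨R'⟩ := nonempty_rep hω
  have hJ := Loc.isDualizing_of_iso R'.iso.symm hω
  obtain ⟨E, c, hEb, hEf, ⟨e⟩⟩ := Loc.pc_of_injAmp R'.zero hJ.finite_cohomology
  haveI := isKProjective_of_vanishesAbove hEb (projective_X (termwiseFiniteProjective_of_free hEf))
  exact Loc.isDualizing_of_iso
    (bcDIso (algebraMap A A[X]) flat_map e.symm ≪≫ (lBaseChangeIso (algebraMap A A[X]) E).symm ≪≫
      (DRing.LBaseChange (algebraMap A A[X])).mapIso (e ≪≫ R'.iso))
    (isDualizing_poly R'.J R'.a R'.b R'.zero R'.inj hJ)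

end

end Groth.Agent.DualCx.Poly
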