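import Groth.Agent.DualCx.Localize
import Groth.Agent.DualCx.Hom
import Mathlib.Algebra.Polynomial.AlgebraMap

/-!
Extension of scalars to a polynomial ring, coefficient by coefficient.
-/

set_option autoImplicit false
set_option linter.style.haveILetI false
set_option backward.isDefEq.respectTransparency false
universe u

namespace Groth.Agent.DualCx.Poly

open CategoryTheory Polynomial
open scoped TensorProduct

noncomputable section

variable {A : Type u} [CommRing A]

/-- `ext`. -/
abbrev F (A : Type u) [CommRing A] : ModuleCat.{u} A ⥤ ModuleCat.{u} A[X] :=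
  ModuleCat.extendScalars.{u, u, u} (algebraMap A A[X])

/-- `res`. -/
abbrev R (A : Type u) [CommRing A] : ModuleCat.{u} A[X] ⥤ ModuleCat.{u} A :=
  ModuleCat.restrictScalars.{u} (algebraMap A A[X])

/-- the adjunction -/
abbrev adj (A : Type u) [CommRing A] : F A ⊣ R A := ModuleCat.extendRestrictScalarsAdj (algebraMap A A[X])

/-- identification with the tensor product -/
def toTensor (N : ModuleCat.{u} A) : (R A).obj ((F A).obj N) ≃ₗ[A] A[X] ⊗[A] N where
  toFun := (DRingKP.extendTensorIso (A := A) (B := A[X]) N).hom.hom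
  invFun := (DRingKP.extendTensorIso (A := A) (B := A[X]) N).inv.hom
  left_inv x := (DRingKP.extendTensorIso (A := A) (B := A[X]) N).toLinearEquiv.symm_apply_apply x
  right_inv x := (DRingKP.extendTensorIso (A := A) (B := A[X]) N).toLinearEquiv.apply_symm_apply x
  map_add' := map_add _
  map_smul' a x := by
    rw [RingHom.id_apply, ← algebraMap_smul A[X] a ((DRingKP.extendTensorIso (A := A) (B := A[X]) N).hom.hom x),
      ← map_smul]
    rfl

theorem toTensor_unit (N : ModuleCat.{u} A) (x : N) : toTensor N (((adj A).unit.app N).hom x) = 1 ⊗ₜ x := by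
  rfl

theorem toTensor_smul (N : ModuleCat.{u} A) (p : A[X]) (y : (R A).obj ((F A).obj N)) :
    toTensor N ((p • 𝟙 ((F A).obj N)).hom y) = p • toTensor N y := by
  show (DRingKP.extendTensorIso (A := A) (B := A[X]) N).hom.hom ((p • 𝟙 ((F A).obj N)).hom y) = _
  rw [ModuleCat.hom_smul, ModuleCat.hom_id]
  exact map_smul _ p _

theorem toTensor_map {N N' : ModuleCat.{u} A} (f : N ⟶ N') (y : (R A).obj ((F A).obj N)) :
    toTensor N' (((R A).map ((F A).map f)).hom y) = LinearMap.lTensor A[X] f.hom (toTensor N y) := by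
  obtain ⟨t, rfl⟩ := (toTensor N).symm.surjective y
  rw [LinearEquiv.apply_symm_apply]
  induction t using TensorProduct.induction_on with
  | zero => rw [map_zero, map_zero, map_zero, map_zero]
  | tmul p x => rfl
  | add a b ha hb => rw [map_add, map_add, map_add, ha, hb, map_add]

/-- The `k`-th coefficient. -/
def proj (k : ℕ) (N : ModuleCat.{u} A) : (R A).obj ((F A).obj N) ⟶ N :=
  ModuleCat.homLinearEquiv (S := A).symm (((TensorProduct.lid A N).toLinearMap ∘ₗ LinearMap.rTensor N (lcoeff A k)) ∘ₗ
    (toTensor N).toLinearMap)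

/-- `x ↦ Xᵏ ⊗ x`. -/
def incl (k : ℕ) (N : ModuleCat.{u} A) : N ⟶ (R A).obj ((F A).obj N) :=
  (adj A).unit.app N ≫ (R A).map ((X : A[X]) ^ k • 𝟙 ((F A).obj N))

theorem proj_natural (k : ℕ) {N N' : ModuleCat.{u} A} (f : N ⟶ N') :
    (R A).map ((F A).map f) ≫ proj k N' = proj k N ≫ f := by
  refine ModuleCat.hom_ext (LinearMap.ext fun y => ?_)
  show TensorProduct.lid A N' (LinearMap.rTensor N' (lcoeff A k) (toTensor N' (((R A).map ((F A).map f)).hom y))) =
    f.hom (TensorProduct.lid A N (LinearMap.rTensor N (lcoeff A k) (toTensor N y)))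
  rw [toTensor_map]
  generalize toTensor N y = t
  induction t using TensorProduct.induction_on with
  | zero => simp
  | tmul p x => simp
  | add a b ha hb => simp only [map_add, ha, hb]

theorem proj_apply_tmul (k : ℕ) (N : ModuleCat.{u} A) (p : A[X]) (x : N) :
    (proj k N).hom ((toTensor N).symm (p ⊗ₜ x)) = p.coeff k • x := by
  show TensorProduct.lid A N (LinearMap.rTensor N (lcoeff A k) (toTensor N ((toTensor N).symm (p ⊗ₜ x)))) = _
  rw [LinearEquiv.apply_symm_apply]
  simp

theorem incl_apply (k : ℕ) (N : ModuleCat.{u} A) (x : N) :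
    toTensor N ((incl k N).hom x) = ((X : A[X]) ^ k) ⊗ₜ x := by
  show toTensor N ((((X : A[X]) ^ k) • 𝟙 ((F A).obj N)).hom (((adj A).unit.app N).hom x)) = _
  rw [toTensor_smul, toTensor_unit, TensorProduct.smul_tmul', smul_eq_mul, mul_one]

theorem sum_proj (N : ModuleCat.{u} A) (y : (R A).obj ((F A).obj N)) :
    ∃ s : Finset ℕ, (∀ k ∉ s, (proj k N).hom y = 0) ∧
      ∀ s' : Finset ℕ, s ⊆ s' → ∑ k ∈ s', (incl k N).hom ((proj k N).hom y) = y := by
  classical
  obtain ⟨t, rfl⟩ := (toTensor N).symm.surjective y
  induction t using TensorProduct.induction_on with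
  | zero => exact ⟨∅, fun k _ => by simp, fun s' _ => by simp⟩
  | tmul p x =>
    refine ⟨p.support, fun k hk => by rw [proj_apply_tmul, notMem_support_iff.1 hk, zero_smul],
      fun s' hs => (toTensor N).injective ?_⟩
    rw [map_sum, LinearEquiv.apply_symm_apply]
    simp only [proj_apply_tmul, map_smul, incl_apply]
    conv_rhs => rw [p.as_sum_support, TensorProduct.sum_tmul]
    rw [← Finset.sum_subset hs (fun k _ hk => by rw [notMem_support_iff.1 hk, zero_smul])]
    refine Finset.sum_congr rfl fun k _ => ?_
    rw [TensorProduct.smul_tmul', smul_eq_C_mul, ← C_mul_X_pow_eq_monomial]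
  | add a b ha hb =>
    obtain ⟨s, hs, hs'⟩ := ha
    obtain ⟨t, ht, ht'⟩ := hb
    refine ⟨s ∪ t, fun k hk => ?_, fun s' hst => ?_⟩
    · rw [Finset.notMem_union] at hk
      rw [map_add, map_add, hs k hk.1, ht k hk.2, add_zero]
    · conv_rhs => rw [map_add, ← hs' s' (Finset.union_subset_iff.1 hst).1, ← ht' s' (Finset.union_subset_iff.1 hst).2,
        ← Finset.sum_add_distrib]
      simp only [map_add]

/-- A map out of a finite module has finitely many coefficients. -/
theorem exists_finset {M : ModuleCat.{u} A} [Module.Finite A M] (N : ModuleCat.{u} A)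
    (g : M ⟶ (R A).obj ((F A).obj N)) :
    ∃ s : Finset ℕ, ∀ s' : Finset ℕ, s ⊆ s' → ∑ k ∈ s', g ≫ proj k N ≫ incl k N = g := by
  classical
  obtain ⟨n, v, hv⟩ := Module.Finite.exists_fin (R := A) (M := M)
  choose t ht ht' using fun i => sum_proj N (g.hom (v i))
  refine ⟨Finset.univ.biUnion t, fun s' hs => ModuleCat.hom_ext (LinearMap.ext_on hv ?_)⟩
  rintro _ ⟨i, rfl⟩
  rw [ModuleCat.hom_sum, LinearMap.sum_apply]
  exact ht' i s' (fun k hk => hs (Finset.mem_biUnion.2 ⟨i, Finset.mem_univ _, hk⟩))

theorem injective_of_baer {Z : ModuleCat.{u} A} (h : Module.Baer A Z) : Injective Z :=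
  haveI : Module.Injective A Z := h.injective
  (Module.injective_iff_injective_object A Z).1 this

theorem injective_res_map [IsNoetherianRing A] (N : ModuleCat.{u} A) [hN : Injective N] :
    Injective ((R A).obj ((F A).obj N)) := by
  haveI : Module.Injective A N := (Module.injective_iff_injective_object A N).2 hN
  refine injective_of_baer fun I g => ?_
  obtain ⟨s, hs⟩ := exists_finset (M := ModuleCat.of A I) N ((ModuleCat.homLinearEquiv (S := A)).symm g)
  choose h hh using fun k => Module.Baer.of_injective ‹Module.Injective A N› I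
    ((proj k N).hom ∘ₗ g)
  refine ⟨∑ k ∈ s, (incl k N).hom ∘ₗ h k, fun x hx => ?_⟩
  conv_rhs => rw [show g ⟨x, hx⟩ = ((ModuleCat.homLinearEquiv (M := ModuleCat.of A I) (N := (R A).obj ((F A).obj N)) (S := A)).symm g).hom ⟨x, hx⟩ from rfl, ← hs s subset_rfl]
  rw [ModuleCat.hom_sum, LinearMap.sum_apply, LinearMap.sum_apply]
  exact Finset.sum_congr rfl fun k _ => congrArg (incl k N).hom (hh k x hx)

/-- Every module over the polynomial ring is a cokernel of induced modules. -/
theorem exists_ses (M : Type u) [AddCommGroup M] [Module A M] [Module A[X] M] [IsScalarTower A A[X] M] :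
    ∃ (f : A[X] ⊗[A] M →ₗ[A[X]] A[X] ⊗[A] M) (g : A[X] ⊗[A] M →ₗ[A[X]] M), DualCx.SES f g := by
  let m : M →ₗ[A] M := LinearMap.restrictScalars A (((X : A[X]) • LinearMap.id : M →ₗ[A[X]] M))
  let f : A[X] ⊗[A] M →ₗ[A[X]] A[X] ⊗[A] M :=
    (X : A[X]) • LinearMap.id - LinearMap.baseChange A[X] m
  let g : A[X] ⊗[A] M →ₗ[A[X]] M := LinearMap.liftBaseChange A[X] LinearMap.id
  have hgf : ∀ y, g (f y) = 0 := fun y => by
    induction y using TensorProduct.induction_on with
    | zero => rw [map_zero, map_zero]
    | tmul p x =>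
      simp only [f, LinearMap.sub_apply, LinearMap.smul_apply, LinearMap.id_apply, map_sub, map_smul,
        LinearMap.baseChange_tmul, g, LinearMap.liftBaseChange_tmul, m, LinearMap.restrictScalars_apply]
      rw [smul_smul, smul_smul, mul_comm, sub_self]
    | add a b ha hb => rw [map_add, map_add, ha, hb, add_zero]
  have key : ∀ y, ∃ z, y - (1 : A[X]) ⊗ₜ[A] (g y) = f z := by
    intro y
    induction y using TensorProduct.induction_on with
    | zero => exact ⟨0, by simp⟩
    | tmul p x =>
      induction p using Polynomial.induction_on' generalizing x with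
      | add p q hp hq =>
        obtain ⟨z, hz⟩ := hp x
        obtain ⟨w, hw⟩ := hq x
        refine ⟨z + w, ?_⟩
        rw [map_add, ← hz, ← hw, TensorProduct.add_tmul, map_add, TensorProduct.tmul_add]
        abel
      | monomial k a =>
        induction k generalizing x with
        | zero =>
          refine ⟨0, ?_⟩
          rw [map_zero, sub_eq_zero]
          simp only [g, LinearMap.liftBaseChange_tmul, LinearMap.id_apply, monomial_zero_left]
          rw [← Polynomial.algebraMap_eq, algebraMap_smul, TensorProduct.tmul_smul, TensorProduct.smul_tmul',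
            Algebra.smul_def, mul_one]
        | succ k ih =>
          obtain ⟨z, hz⟩ := ih (m x)
          refine ⟨z + monomial k a ⊗ₜ x, ?_⟩
          rw [map_add, ← hz]
          simp only [f, g, LinearMap.sub_apply, LinearMap.smul_apply, LinearMap.id_apply, LinearMap.baseChange_tmul,
            LinearMap.liftBaseChange_tmul, TensorProduct.smul_tmul', smul_eq_mul, X_mul_monomial, m,
            LinearMap.restrictScalars_apply, smul_smul]
          rw [← monomial_mul_X]
          abel
    | add a b ha hb =>
      obtain ⟨z, hz⟩ := ha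
      obtain ⟨w, hw⟩ := hb
      refine ⟨z + w, ?_⟩
      rw [map_add f, ← hz, ← hw, map_add, TensorProduct.tmul_add]
      abel
  refine ⟨f, g, ⟨(injective_iff_map_eq_zero f).2 fun y hy => ?_, fun y => ⟨fun hy => ?_, ?_⟩,
    fun x => ⟨(1 : A[X]) ⊗ₜ x, by simp [g]⟩⟩⟩
  · let c : ℕ → (A[X] ⊗[A] M →ₗ[A] M) := fun k =>
      (TensorProduct.lid A M).toLinearMap ∘ₗ LinearMap.rTensor M (lcoeff A k)
    have hc : ∀ k t, c (k + 1) (f t) = c k t - m (c (k + 1) t) := fun k t => by
      induction t using TensorProduct.induction_on with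
      | zero => simp
      | tmul p x => simp [c, f, TensorProduct.smul_tmul', coeff_X_mul, m]
      | add a b ha hb => rw [map_add, map_add, ha, hb, map_add, map_add, map_add]; abel
    obtain ⟨s, hs, hs'⟩ := sum_proj (ModuleCat.of A M) ((toTensor (ModuleCat.of A M)).symm y)
    have hp : ∀ k, (proj k (ModuleCat.of A M)).hom ((toTensor (ModuleCat.of A M)).symm y) = c k y := fun k => by
      show TensorProduct.lid A M (LinearMap.rTensor M (lcoeff A k) (toTensor (ModuleCat.of A M) ((toTensor (ModuleCat.of A M)).symm y))) = _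
      rw [LinearEquiv.apply_symm_apply]; rfl
    have hzero : ∀ j k, s.sup id < k + j → c k y = 0 := by
      intro j
      induction j with
      | zero =>
        intro k hk
        rw [← hp]
        exact hs k fun hks => absurd (Finset.le_sup (f := id) hks) (not_le.2 (by simpa using hk))
      | succ j ih =>
        intro k hk
        have h1 := hc k y
        rw [hy, map_zero, ih (k + 1) (by lia), map_zero, sub_zero] at h1
        exact h1.symm
    have h2 := hs' s subset_rfl
    rw [Finset.sum_eq_zero (fun k _ => by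
      rw [hp, hzero (s.sup id + 1) k (by lia), map_zero])] at h2
    exact (toTensor (ModuleCat.of A M)).symm.injective (h2.symm.trans (map_zero _).symm)
  · obtain ⟨z, hz⟩ := key y
    rw [hy, TensorProduct.tmul_zero, sub_zero] at hz
    exact ⟨z, hz.symm⟩
  · rintro ⟨z, rfl⟩
    exact hgf z

end

end Groth.Agent.DualCx.Poly
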