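import Groth.Agent.DualCx.Apps

/-!
Serre's conditions over a ring with a dualizing complex.
-/

set_option autoImplicit false
set_option maxHeartbeats 1000000
universe u

namespace Groth.Agent.DualCx

open CategoryTheory Limits DerivedCategory Pretriangulated IsLocalRing

attribute [local instance] HasDerivedCategory.standard

noncomputable section

variable {A : Type u} [CommRing A] [IsNoetherianRing A] {ω : Dual.D A}

theorem finite_exceptional (hω : Dual.IsDualizing A ω) (M : Type u) [AddCommGroup M] [Module A M] [Module.Finite A M]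
    (k : ℕ) (hM : LocCoh.HasSk k A M) :
    Set.Finite {p : PrimeSpectrum A | LocCoh.depth (Localization.AtPrime p.asIdeal) (LocalizedModule p.asIdeal.primeCompl M) = k ∧
      (k : WithBot ℕ∞) < Module.supportDim (Localization.AtPrime p.asIdeal) (LocalizedModule p.asIdeal.primeCompl M)} := by
  obtain ⟨a, b, hab⟩ := exists_bound hω
  let J : ℤ × ℤ → Ideal A := fun x => Module.annihilator A (T ω M x.1) ⊔ Module.annihilator A (T ω M x.2)
  have hJ : ∀ (x : ℤ × ℤ) (r : PrimeSpectrum A), J x ≤ r.asIdeal ↔ ¬ Van ω r.asIdeal M x.1 ∧ ¬ Van ω r.asIdeal M x.2 := by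
    intro x r
    haveI := finite_T hω M x.1
    haveI := finite_T hω M x.2
    rw [sup_le_iff, ← Module.mem_support_iff_of_finite, ← Module.mem_support_iff_of_finite, mem_support_iff_not_van,
      mem_support_iff_not_van]
  refine Set.Finite.subset (s := PrimeSpectrum.asIdeal ⁻¹' (⋃ x ∈ Finset.Icc a b ×ˢ Finset.Icc a b, (J x).minimalPrimes))
    (Set.Finite.preimage (fun p _ q _ h => PrimeSpectrum.ext h)
      ((Finset.Icc a b ×ˢ Finset.Icc a b).finite_toSet.biUnion fun x _ => Ideal.finite_minimalPrimes_of_isNoetherianRing A _)) ?_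
  rintro p ⟨hdep, hdim⟩
  by_cases hp : p ∈ Module.support A M
  swap
  · haveI : Subsingleton (LocalizedModule p.asIdeal.primeCompl M) := Module.notMem_support_iff.1 hp
    rw [FlatDepth.depth_eq_top] at hdep
    exact absurd hdep (ENat.top_ne_coe k)
  obtain ⟨hlt, hne⟩ := (depth_eq_iff hω p k).1 hdep
  obtain ⟨d, hd, hdv, -⟩ := exists_max hω hp
  rw [hd] at hdim
  have hkd : k < d := by exact_mod_cast hdim
  have hb : ∀ j, ¬ Van ω p.asIdeal M j → a ≤ j ∧ j ≤ b := fun j hj => by
    by_contra h; exact hj (van_of_subsingleton p.isPrime.ne_top (hab M j (by lia)))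
  let x : ℤ × ℤ := (-del hω p - k, -del hω p - d)
  refine Set.mem_iUnion₂.2 ⟨x, Finset.mem_product.2 ⟨Finset.mem_Icc.2 (hb _ hne), Finset.mem_Icc.2 (hb _ hdv)⟩,
    ⟨p.isPrime, (hJ x p).2 ⟨hne, hdv⟩⟩, fun r hr hrp => ?_⟩
  rcases eq_or_lt_of_le hrp with h | h
  · exact h.ge
  exfalso
  haveI := hr.1
  let r' : PrimeSpectrum A := ⟨r, hr.1⟩
  obtain ⟨h1, h2⟩ := (hJ x r').1 hr.2
  have hr' : r' ∈ Module.support A M := by
    by_contra hn
    exact h1 (van_of_notMem_support hn _)
  obtain ⟨j, hj, hjlt, hjne⟩ := exists_depth hω hr'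
  have hlt' : del hω p < del hω r' := del_lt hω (show r' < p from h)
  have hjk : j < k := by
    obtain ⟨c, -, -, -, hc⟩ := exists_of_not_van hω h1
    by_contra hge
    refine h1 ?_
    have := hjlt (del hω p + k - del hω r').toNat (by lia)
    rwa [show -del hω r' - (((del hω p + k - del hω r').toNat : ℕ) : ℤ) = x.1 by simp only [x]; lia] at this
  have hsk := hM r
  rw [show LocCoh.depth (Localization.AtPrime r) (LocalizedModule r.primeCompl M) = (j : ℕ∞) from hj] at hsk
  obtain ⟨e, he, -, -⟩ := exists_max hω hr'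
  rw [show Module.supportDim (Localization.AtPrime r) (LocalizedModule r.primeCompl M) = (e : WithBot ℕ∞) from he] at hsk
  have hke : e ≤ j := by
    rcases min_le_iff.1 hsk with h' | h'
    · have : k ≤ j := by exact_mod_cast h'
      lia
    · exact_mod_cast h'
  have hje : j ≤ e := by
    obtain ⟨c, hc, hcr, hc1, -⟩ := exists_of_not_van hω hjne
    have := (supportDim_localized_le_iff hω M r' e).1 he.le c hc hcr
    lia
  have hcm : LocCoh.IsCohenMacaulayModule (Localization.AtPrime r'.asIdeal) (LocalizedModule r'.asIdeal.primeCompl M) := by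
    rw [LocCoh.IsCohenMacaulayModule, he, hj, show e = j by lia]
    rfl
  have := (isCohenMacaulay_iff hω r').1 (Or.inr hcm) _ _ h1 h2
  simp only [x] at this
  lia

end

end Groth.Agent.DualCx
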