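import Groth.Agent.DualCx.SkLocus

/-!
`(S_k)` from a dualizing complex, without a local hypothesis.
-/

set_option autoImplicit false
set_option linter.style.haveILetI false
set_option maxHeartbeats 1000000
universe u v

namespace Groth.Agent.DualCx

open CategoryTheory Limits DerivedCategory Pretriangulated IsLocalRing

attribute [local instance] HasDerivedCategory.standard

noncomputable section

variable {A : Type u} [CommRing A] [IsNoetherianRing A] {ω : Dual.D A} (hω : Dual.IsDualizing A ω)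
  {M : Type u} [AddCommGroup M] [Module A M] [Module.Finite A M]
include hω

theorem hasSk_iff_gap (k : ℕ) :
    LocCoh.HasSk k A M ↔ ∀ (i j : ℤ), j < i → ∀ p : PrimeSpectrum A, p ∈ Module.support A (T ω M i) →
      p ∈ Module.support A (T ω M j) → (((k : ℤ) + i - j).toNat : WithBot ℕ∞) ≤
        Module.supportDim (Localization.AtPrime p.asIdeal) (LocalizedModule p.asIdeal.primeCompl M) := by
  have hsk : LocCoh.HasSk k A M ↔ ∀ q : PrimeSpectrum A, FlatDepth.SkIneq k A M q.asIdeal :=
    ⟨fun h q => h q.asIdeal, fun h p hp => h ⟨p, hp⟩⟩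
  rw [hsk]
  constructor
  · intro h i j hji p hi hj
    rw [mem_support_iff_not_van] at hi hj
    have hp : p ∈ Module.support A M := by
      by_contra hp
      exact hi (van_of_notMem_support hp i)
    obtain ⟨d, hd, -, hmax⟩ := exists_max hω hp
    have hjd : -del hω p - (d : ℤ) ≤ j := by
      by_contra hc
      exact hj (hmax j (by lia))
    have hk : (k : ℤ) + i ≤ -del hω p := by
      by_contra hc
      exact (not_skIneq_iff hω k p).2 ⟨i, j, hji, by lia, hi, hj⟩ (h p)
    rw [hd]
    exact_mod_cast (show ((k : ℤ) + i - j).toNat ≤ d by lia)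
  · intro h q
    by_contra hbad
    have hq : q ∈ Module.support A M := by
      obtain ⟨i, j, -, -, hi, -⟩ := (not_skIneq_iff hω k q).1 hbad
      by_contra hq
      exact hi (van_of_notMem_support hq i)
    obtain ⟨n, hn, -, hnv⟩ := exists_depth hω hq
    obtain ⟨d, hd, hdv, -⟩ := exists_max hω hq
    rw [FlatDepth.SkIneq, hn, hd, not_le, lt_min_iff] at hbad
    have h1 : n < k := by exact_mod_cast hbad.1
    have h2 : n < d := by exact_mod_cast hbad.2
    have h3 := h (-del hω q - n) (-del hω q - d) (by lia) q ((mem_support_iff_not_van q _).2 hnv)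
      ((mem_support_iff_not_van q _).2 hdv)
    rw [hd] at h3
    have h4 : ((k : ℤ) + (-del hω q - n) - (-del hω q - d)).toNat ≤ d := by exact_mod_cast h3
    lia

theorem supportDim_le_iff_del {N : Type v} [AddCommGroup N] [Module A N] (h0 : ∀ q : PrimeSpectrum A, q.asIdeal.IsMaximal → del hω q = 0) (m : ℕ) :
    Module.supportDim A N ≤ (m : WithBot ℕ∞) ↔ ∀ q ∈ Module.support A N, del hω q ≤ m := by
  have hS : ∀ ⦃a b : PrimeSpectrum A⦄, a ≤ b → a ∈ Module.support A N → b ∈ Module.support A N :=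
    fun _ _ h ha => Module.mem_support_mono h ha
  have hnn : ∀ q : PrimeSpectrum A, 0 ≤ del hω q := fun q => by
    obtain ⟨m₀, hm₀, hq⟩ := Ideal.exists_le_maximal q.asIdeal q.isPrime.ne_top
    have := del_le hω (show q ≤ (⟨m₀, hm₀.isPrime⟩ : PrimeSpectrum A) from hq)
    have := h0 ⟨m₀, hm₀.isPrime⟩ hm₀
    lia
  constructor
  · intro h q hq
    obtain ⟨m₀, hm₀, hqm⟩ := Ideal.exists_le_maximal q.asIdeal q.isPrime.ne_top
    obtain ⟨s, -, hl⟩ := exists_series hω hS hq (show q ≤ (⟨m₀, hm₀.isPrime⟩ : PrimeSpectrum A) from hqm)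
    have h0' := h0 ⟨m₀, hm₀.isPrime⟩ hm₀
    let s' : LTSeries ↥(Module.support A N) := s.map (fun r => ⟨r.1, r.2.1⟩) fun a b hab => hab
    have h1 : s'.length ≤ m := by exact_mod_cast (Order.LTSeries.length_le_krullDim s').trans h
    have h2 : s'.length = s.length := rfl
    lia
  · intro h
    refine iSup_le fun s => ?_
    have h1 : ∀ i : Fin (s.length + 1), del hω (s i : PrimeSpectrum A) + (i : ℕ) ≤ del hω (s.head : PrimeSpectrum A) := by
      intro i
      induction i using Fin.induction with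
      | zero => simp [RelSeries.head]
      | succ j ihj =>
        have := del_lt hω (show (s j.castSucc : PrimeSpectrum A) < s j.succ from s.step j)
        simp only [Fin.val_succ, Fin.val_castSucc] at ihj ⊢
        lia
    have h2 := h1 (Fin.last _)
    have h3 := hnn (s (Fin.last _) : PrimeSpectrum A)
    have h4 := h _ s.head.2
    simp only [Fin.val_last] at h2
    exact_mod_cast (show s.length ≤ m by lia)

theorem hasSk_iff_self_equidim (h0 : ∀ q : PrimeSpectrum A, q.asIdeal.IsMaximal → del hω q = 0)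
    (hEq : EGA4.IsEquidim A) (n : ℕ) (hd : ringKrullDim A = n) (k : ℕ) :
    (∀ i : ℕ, n < i → Subsingleton (T ω A (-(i : ℤ)))) ∧
    (LocCoh.HasSk k A A ↔ ∀ i : ℕ, i ≠ n → (i < k → Subsingleton (T ω A (-(i : ℤ)))) ∧
      (k ≤ i → Module.supportDim A (T ω A (-(i : ℤ))) ≤ ((i - k : ℕ) : WithBot ℕ∞))) := by
  have hsupp : ∀ q : PrimeSpectrum A, q ∈ Module.support A A := fun q => by
    rw [Module.support_eq_zeroLocus, PrimeSpectrum.mem_zeroLocus]
    intro a ha
    have := Module.mem_annihilator.1 ha (1 : A)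
    rw [smul_eq_mul, mul_one] at this
    rw [this]; exact q.asIdeal.zero_mem
  have hmax : ∀ q : PrimeSpectrum A, del hω q ≤ n := fun q =>
    (supportDim_le_iff_del hω (N := A) h0 n).1
      (by rw [Module.supportDim_self_eq_ringKrullDim, hd]) q (hsupp q)
  have hfull : ∀ q : PrimeSpectrum A, ∃ r : PrimeSpectrum A, r ≤ q ∧ del hω r = n := fun q => by
    obtain ⟨r, hr, hrq⟩ := Ideal.exists_minimalPrimes_le (bot_le : (⊥ : Ideal A) ≤ q.asIdeal)
    refine ⟨⟨r, hr.1.1⟩, hrq, le_antisymm (hmax _) ?_⟩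
    by_contra hlt
    have h1 := (supportDim_le_iff_del hω (N := A ⧸ r) h0 (del hω ⟨r, hr.1.1⟩).toNat).2 fun p hp => by
      rw [Module.support_eq_zeroLocus, Ideal.annihilator_quotient, PrimeSpectrum.mem_zeroLocus] at hp
      have := del_le hω (show (⟨r, hr.1.1⟩ : PrimeSpectrum A) ≤ p from hp)
      lia
    rw [Module.supportDim_quotient_eq_ringKrullDim, hEq r hr, hd] at h1
    have : n ≤ (del hω ⟨r, hr.1.1⟩).toNat := by exact_mod_cast h1
    obtain ⟨m₀, hm₀, hq⟩ := Ideal.exists_le_maximal r hr.1.1.ne_top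
    have := del_le hω (show (⟨r, hr.1.1⟩ : PrimeSpectrum A) ≤ ⟨m₀, hm₀.isPrime⟩ from hq)
    have := h0 ⟨m₀, hm₀.isPrime⟩ hm₀
    lia
  have hnn : ∀ q : PrimeSpectrum A, 0 ≤ del hω q := fun q => by
    obtain ⟨m₀, hm₀, hq⟩ := Ideal.exists_le_maximal q.asIdeal q.isPrime.ne_top
    have := del_le hω (show q ≤ (⟨m₀, hm₀.isPrime⟩ : PrimeSpectrum A) from hq)
    have := h0 ⟨m₀, hm₀.isPrime⟩ hm₀
    lia
  have hrange : ∀ (j : ℤ) (q : PrimeSpectrum A), q ∈ Module.support A (T ω A j) →
      -(n : ℤ) ≤ j ∧ j ≤ -del hω q := fun j q hq => by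
    obtain ⟨p, -, -, hp1, hp2⟩ := exists_of_not_van hω ((mem_support_iff_not_van q j).1 hq)
    have := hmax p
    exact ⟨by lia, hp2⟩
  have hsub : ∀ j : ℤ, (∀ q, q ∉ Module.support A (T ω A j)) → Subsingleton (T ω A j) := fun j h =>
    Module.support_eq_empty_iff.1 (Set.eq_empty_of_forall_notMem h)
  refine ⟨fun i hi => hsub _ fun q hq => by have := (hrange _ q hq).1; lia, ?_⟩
  have hdim : ∀ q : PrimeSpectrum A,
      Module.supportDim (Localization.AtPrime q.asIdeal) (LocalizedModule q.asIdeal.primeCompl A) =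
        ((n - del hω q).toNat : WithBot ℕ∞) := fun q => by
    obtain ⟨r, hrq, hr⟩ := hfull q
    refine le_antisymm ((supportDim_localized_le_iff hω A q _).2 fun p _ _ => ?_)
      (le_supportDim_localized hω (hsupp r) hrq _ ?_)
    · have := hmax p; lia
    · have := hmax q; lia
  rw [hasSk_iff_gap hω k]
  constructor
  · intro h i hi
    have key : ∀ q ∈ Module.support A (T ω A (-(i : ℤ))), (k : ℤ) + del hω q ≤ i := fun q hq => by
      obtain ⟨hin, -⟩ := hrange _ q hq
      have hn : q ∈ Module.support A (T ω A (-(n : ℤ))) := by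
        rw [mem_support_iff_not_van]
        obtain ⟨d, hd', hdv, -⟩ := exists_max hω (hsupp q)
        rw [hdim q] at hd'
        have : ((n : ℤ) - del hω q).toNat = d := by exact_mod_cast hd'
        have := hmax q
        rwa [show -del hω q - (d : ℤ) = -(n : ℤ) by lia] at hdv
      have h1 := h (-(i : ℤ)) (-(n : ℤ)) (by lia) q hq hn
      rw [hdim q] at h1
      have h2 : ((k : ℤ) + -(i : ℤ) - -(n : ℤ)).toNat ≤ ((n : ℤ) - del hω q).toNat := by exact_mod_cast h1
      have := hmax q
      lia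
    refine ⟨fun hik => hsub _ fun q hq => ?_, fun hki => (supportDim_le_iff_del hω h0 _).2 fun q hq => ?_⟩
    · have := key q hq
      have := hnn q
      lia
    · have := key q hq
      lia
  · intro h i j hji q hi hj
    obtain ⟨hjn, -⟩ := hrange _ q hj
    obtain ⟨-, hiq⟩ := hrange _ q hi
    have := hnn q
    obtain ⟨l, hl⟩ : ∃ l : ℕ, i = -(l : ℤ) := ⟨(-i).toNat, by lia⟩
    subst hl
    obtain ⟨h1, h2⟩ := h l (by lia)
    have hkl : k ≤ l := by
      by_contra hlt
      rw [Module.support_eq_empty_iff.2 (h1 (by lia))] at hi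
      exact hi
    have h3 := (supportDim_le_iff_del hω h0 _).1 (h2 hkl) q hi
    rw [hdim q]
    exact_mod_cast (show ((k : ℤ) + -(l : ℤ) - j).toNat ≤ ((n : ℤ) - del hω q).toNat by lia)

end

end Groth.Agent.DualCx
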