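import Groth.Agent.DualCx.Local
import Groth.Agent.FlatDepth.SkTensor
import Groth.Agent.Dim.Loci

/-!
The locus of `(S_k)` from a dualizing complex.
-/

set_option autoImplicit false
set_option linter.style.haveILetI false
set_option maxHeartbeats 1000000
universe u

namespace Groth.Agent.DualCx

open CategoryTheory Limits DerivedCategory Pretriangulated IsLocalRing

attribute [local instance] HasDerivedCategory.standard

noncomputable section

variable {A : Type u} [CommRing A] [IsNoetherianRing A] {ω : Dual.D A} (hω : Dual.IsDualizing A ω)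
  {M : Type u} [AddCommGroup M] [Module A M] [Module.Finite A M]
include hω

theorem not_skIneq_iff (k : ℕ) (q : PrimeSpectrum A) :
    ¬ FlatDepth.SkIneq k A M q.asIdeal ↔
      ∃ i j : ℤ, j < i ∧ -del hω q < i + k ∧ ¬ Van ω q.asIdeal M i ∧ ¬ Van ω q.asIdeal M j := by
  constructor
  · intro h
    by_cases hq : q ∈ Module.support A M
    swap
    · haveI : Subsingleton (LocalizedModule q.asIdeal.primeCompl M) := Module.notMem_support_iff.1 hq
      refine absurd ?_ h
      rw [FlatDepth.SkIneq, FlatDepth.depth_eq_top]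
      exact le_top
    obtain ⟨n, hn, -, hnv⟩ := exists_depth hω hq
    obtain ⟨d, hd, hdv, -⟩ := exists_max hω hq
    rw [FlatDepth.SkIneq, hn, hd, not_le, lt_min_iff] at h
    have h1 : n < k := by exact_mod_cast h.1
    have h2 : n < d := by exact_mod_cast h.2
    exact ⟨_, _, by lia, by lia, hnv, hdv⟩
  · rintro ⟨i, j, hji, hk, hi, hj⟩ h
    have hq : q ∈ Module.support A M := by
      by_contra hq
      exact hi (van_of_notMem_support hq i)
    obtain ⟨n, hn, hlt, -⟩ := exists_depth hω hq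
    obtain ⟨d, hd, -, hmax⟩ := exists_max hω hq
    obtain ⟨p, -, -, -, hiq⟩ := exists_of_not_van hω hi
    have hni : (n : ℤ) ≤ -del hω q - i := by
      by_contra hc
      have := hlt (-del hω q - i).toNat (by lia)
      rw [show -del hω q - ((-del hω q - i).toNat : ℤ) = i by lia] at this
      exact hi this
    have hdj : -del hω q - (d : ℤ) ≤ j := by
      by_contra hc
      exact hj (hmax j (by lia))
    rw [FlatDepth.SkIneq, hn, hd] at h
    rcases min_le_iff.1 h with h' | h'
    · have : k ≤ n := by exact_mod_cast h'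
      lia
    · have : d ≤ n := by exact_mod_cast h'
      lia

variable (M) in
theorem isOpen_hasSkAt (k : ℕ) : IsOpen {p : PrimeSpectrum A | EGA4.HasSkAt k A M p.asIdeal} := by
  obtain ⟨a, b, hab⟩ := exists_bound hω
  let J : ℤ × ℤ → Ideal A := fun x => Module.annihilator A (T ω M x.1) ⊔ Module.annihilator A (T ω M x.2)
  have hJ : ∀ (x : ℤ × ℤ) (r : PrimeSpectrum A), J x ≤ r.asIdeal ↔ ¬ Van ω r.asIdeal M x.1 ∧ ¬ Van ω r.asIdeal M x.2 := by
    intro x r
    haveI := finite_T hω M x.1
    haveI := finite_T hω M x.2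
    rw [sup_le_iff, ← Module.mem_support_iff_of_finite, ← Module.mem_support_iff_of_finite, mem_support_iff_not_van,
      mem_support_iff_not_van]
  refine Dim.isOpen_of_finite_bad _ {η : PrimeSpectrum A | ∃ x : ℤ × ℤ, x ∈ Finset.Icc a b ×ˢ Finset.Icc a b ∧
    η.asIdeal ∈ (J x).minimalPrimes ∧ x.2 < x.1 ∧ -del hω η < x.1 + k} ?_ fun p => ?_
  · refine Set.Finite.subset (s := PrimeSpectrum.asIdeal ⁻¹' (⋃ x ∈ Finset.Icc a b ×ˢ Finset.Icc a b, (J x).minimalPrimes))
      (Set.Finite.preimage (fun p _ q _ h => PrimeSpectrum.ext h)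
        ((Finset.Icc a b ×ˢ Finset.Icc a b).finite_toSet.biUnion fun x _ => Ideal.finite_minimalPrimes_of_isNoetherianRing A _)) ?_
    rintro η ⟨x, hx, hη, -, -⟩
    exact Set.mem_iUnion₂.2 ⟨x, hx, hη⟩
  rw [Set.mem_ofPred_eq, FlatDepth.hasSkAt_iff]
  push Not
  constructor
  · rintro ⟨Q, hQ, hQp, hbad⟩
    let q : PrimeSpectrum A := ⟨Q, hQ⟩
    obtain ⟨i, j, hji, hk, hi, hj⟩ := (not_skIneq_iff hω k q).1 hbad
    have hb : ∀ j, ¬ Van ω q.asIdeal M j → a ≤ j ∧ j ≤ b := fun j hj => by
      by_contra h; exact hj (van_of_subsingleton q.isPrime.ne_top (hab M j (by lia)))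
    obtain ⟨r, hr, hrq⟩ := Ideal.exists_minimalPrimes_le ((hJ (i, j) q).2 ⟨hi, hj⟩)
    refine ⟨⟨r, hr.1.1⟩, ⟨(i, j), Finset.mem_product.2 ⟨Finset.mem_Icc.2 (hb _ hi), Finset.mem_Icc.2 (hb _ hj)⟩, hr, hji, ?_⟩,
      hrq.trans hQp⟩
    have := del_le hω (show (⟨r, hr.1.1⟩ : PrimeSpectrum A) ≤ q from hrq)
    lia
  · rintro ⟨η, ⟨x, -, hη, hlt, hk⟩, hηp⟩
    obtain ⟨h1, h2⟩ := (hJ x η).1 hη.1.2
    exact ⟨η.asIdeal, η.isPrime, hηp, (not_skIneq_iff hω k η).2 ⟨_, _, hlt, hk, h1, h2⟩⟩

variable [IsLocalRing A]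

theorem hasSk_iff_supportDim_T (hn : Dual.IsNormalized A ω) (hM : EGA4.IsEquidimModule A M) (δ : ℕ)
    (hδ : Module.supportDim A M = δ) (k : ℕ) :
    LocCoh.HasSk k A M ↔
      ∀ j : ℤ, j ≠ -(δ : ℤ) →
        (-j - (k : ℤ) < 0 → Subsingleton (Dual.inD A M ⟶ ω⟦j⟧)) ∧
        (0 ≤ -j - (k : ℤ) → Module.supportDim A (Dual.inD A M ⟶ ω⟦j⟧) ≤ ((-j - (k : ℤ)).toNat : WithBot ℕ∞)) := by
  have hc := del_closed hω hn
  have hle : ∀ q : PrimeSpectrum A, q ≤ closedPoint A := fun q => le_maximalIdeal q.isPrime.ne_top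
  have h0 : ∀ q : PrimeSpectrum A, 0 ≤ del hω q := fun q => by
    have := del_le hω (hle q); lia
  have hmax : ∀ q ∈ Module.support A M, del hω q ≤ δ := fun q hq => by
    have := (supportDim_localized_le_iff hω M (closedPoint A) δ).1 (by rw [supportDim_eq_localized, hδ]) q hq (hle q)
    lia
  have hfull : ∀ q ∈ Module.support A M, ∃ r ∈ Module.support A M, r ≤ q ∧ del hω r = δ := fun q hq => by
    obtain ⟨r, hr, hrq⟩ := Ideal.exists_minimalPrimes_le (Module.mem_support_iff_of_finite.1 hq)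
    refine ⟨⟨r, hr.1.1⟩, Module.mem_support_iff_of_finite.2 hr.1.2, hrq, ?_⟩
    have h1 := hM r hr
    rw [show ringKrullDim (A ⧸ r) = _ from ringKrullDim_quotient_eq hω hn ⟨r, hr.1.1⟩, hδ] at h1
    have h2 : (del hω ⟨r, hr.1.1⟩).toNat = δ := by exact_mod_cast h1
    have := h0 ⟨r, hr.1.1⟩
    lia
  have key : (∀ q : PrimeSpectrum A, FlatDepth.SkIneq k A M q.asIdeal) ↔
      ∀ j : ℤ, j ≠ -(δ : ℤ) → ∀ q ∈ Module.support A (T ω M j), del hω q ≤ -j - k := by
    constructor
    · intro h j hj q hq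
      rw [mem_support_iff_not_van] at hq
      by_contra hcon
      have hqM : q ∈ Module.support A M := by
        by_contra hq'
        exact hq (van_of_notMem_support hq' j)
      obtain ⟨p, hp, -, hpj, -⟩ := exists_of_not_van hω hq
      have := hmax p hp
      obtain ⟨r, hr, hrq, hrδ⟩ := hfull q hqM
      obtain ⟨d, hd, hdv, -⟩ := exists_max hω hqM
      have hd1 : (d : ℤ) = δ - del hω q := by
        have hqr := del_le hω hrq
        refine le_antisymm ?_ ?_
        · have := (supportDim_localized_le_iff hω M q (δ - del hω q).toNat).2 fun r' hr' _ => by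
            have := hmax r' hr'
            lia
          rw [hd] at this
          have : d ≤ (δ - del hω q).toNat := by exact_mod_cast this
          lia
        · have := le_supportDim_localized hω hr hrq (δ - del hω q).toNat (by lia)
          rw [hd] at this
          have : (δ - del hω q).toNat ≤ d := by exact_mod_cast this
          lia
      exact (not_skIneq_iff hω k q).2 ⟨j, _, by lia, by lia, hq, hdv⟩ (h q)
    · intro h q
      by_contra hbad
      obtain ⟨i, j, hji, hk, hi, hj⟩ := (not_skIneq_iff hω k q).1 hbad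
      obtain ⟨p, hp, -, hpj, -⟩ := exists_of_not_van hω hj
      have := hmax p hp
      have := h i (by lia) q ((mem_support_iff_not_van q i).2 hi)
      lia
  have hsk : LocCoh.HasSk k A M ↔ ∀ q : PrimeSpectrum A, FlatDepth.SkIneq k A M q.asIdeal :=
    ⟨fun h q => h q.asIdeal, fun h p hp => h ⟨p, hp⟩⟩
  rw [hsk, key]
  refine forall₂_congr fun j _ => ⟨fun h => ⟨fun hneg => ?_, fun hnn => ?_⟩, fun h q hq => ?_⟩
  · by_contra hne
    rw [not_subsingleton_iff_nontrivial] at hne
    obtain ⟨q, hq⟩ := Module.nonempty_support_iff (R := A).2 hne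
    have := h q hq
    have := h0 q
    lia
  · rw [supportDim_maximal]
    exact (krullDim_le_iff hω (fun x y hxy hx => Module.mem_support_mono hxy hx) _ _).2 fun q hq _ => by
      have := h q hq; lia
  · by_cases hneg : -j - (k : ℤ) < 0
    · exact absurd hq (by rw [Module.support_eq_empty_iff.2 (h.1 hneg)]; exact Set.notMem_empty q)
    · have h2 := h.2 (not_lt.1 hneg)
      rw [supportDim_maximal] at h2
      have := (krullDim_le_iff hω (fun x y hxy hx => Module.mem_support_mono hxy hx) _ _).1 h2 q hq (hle q)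
      lia

end

end Groth.Agent.DualCx
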