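import Groth.Agent.RingBidual.Main
import Groth.Agent.RHomMod.Derived
import Groth.Agent.DRingKP.InjAmp
import Groth.Agent.DRingKP.KProj
import Groth.Agent.DualCx.Rep
import Mathlib.RingTheory.Flat.EquationalCriterion
import Mathlib.Algebra.Category.ModuleCat.Injective

/-! For a dualizing complex `ω`, finite Tor dimension of `G` is finite injective dimension of `RHom(G, ω)`. -/

set_option autoImplicit false
set_option linter.style.haveILetI false
set_option backward.isDefEq.respectTransparency false
set_option backward.isDefEq.respectTransparency.types false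
universe u

namespace Groth.Agent.DualCx

open CategoryTheory Limits CochainComplex HomComplex HomologicalComplex TensorProduct

attribute [local instance] HasDerivedCategory.standard

variable {A : Type u} [CommRing A]

/-- the module of maps from a flat module to an injective one is injective -/
theorem injective_hom_flat (F E : Type u) [AddCommGroup F] [Module A F] [AddCommGroup E] [Module A E]
    [Module.Flat A F] [Module.Injective A E] : Module.Injective A (F →ₗ[A] E) := by
  refine ⟨fun X Y _ _ _ _ f hf g => ?_⟩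
  obtain ⟨h, hh⟩ := Module.Injective.out (f.rTensor F) (Module.Flat.rTensor_preserves_injective_linearMap f hf)
    (TensorProduct.lift g)
  refine ⟨(TensorProduct.mk A Y F).compr₂ h, fun x => LinearMap.ext fun z => ?_⟩
  exact (hh (x ⊗ₜ z)).trans (TensorProduct.lift.tmul x z)

/-- over a Noetherian ring the maps between injective modules form a flat module -/
theorem flat_hom_injective [IsNoetherianRing A] (E E' : Type u) [AddCommGroup E] [Module A E]
    [AddCommGroup E'] [Module A E'] [Module.Injective A E] [Module.Injective A E'] :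
    Module.Flat A (E →ₗ[A] E') := by
  refine Module.Flat.of_forall_isTrivialRelation fun {l f h} hrel => ?_
  let fA : (Fin l → A) →ₗ[A] A := ∑ i, f i • LinearMap.proj i
  obtain ⟨m, r, hr⟩ := Submodule.fg_iff_exists_fin_generating_family.1
    (IsNoetherian.noetherian (LinearMap.ker fA))
  let β : (Fin l → E) →ₗ[A] (Fin m → E) := LinearMap.pi fun j => ∑ i, r j i • LinearMap.proj i
  let H : (Fin l → E) →ₗ[A] E' := ∑ i, (h i).comp (LinearMap.proj i)
  have hker : LinearMap.ker β ≤ LinearMap.ker H := fun x hx => by
    let φ : (Fin l → A) →ₗ[A] E := ∑ i, (LinearMap.proj i).smulRight (x i)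
    have hle : LinearMap.ker fA ≤ LinearMap.ker φ := by
      rw [← hr, Submodule.span_le]
      rintro _ ⟨j, rfl⟩
      have := congrFun (LinearMap.mem_ker.1 hx) j
      simpa [φ, β] using this
    obtain ⟨e, he⟩ := Module.Injective.out ((LinearMap.ker fA).liftQ fA le_rfl)
      (LinearMap.ker_eq_bot.1 (Submodule.ker_liftQ_eq_bot _ _ _ le_rfl)) ((LinearMap.ker fA).liftQ φ hle)
    have hx' : ∀ i, f i • e 1 = x i := fun i => by
      have := he (Submodule.Quotient.mk (Pi.single i (1 : A)))
      simp only [Submodule.liftQ_apply, fA, φ, LinearMap.sum_apply, LinearMap.smul_apply,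
        LinearMap.smulRight_apply, LinearMap.proj_apply, Pi.single_apply] at this
      simp only [smul_eq_mul, mul_ite, mul_one, mul_zero, Finset.sum_ite_eq', Finset.mem_univ, if_true, ite_smul,
        one_smul, zero_smul] at this
      rw [← map_smul, smul_eq_mul, mul_one]
      exact this
    rw [LinearMap.mem_ker]
    have : (∑ i, f i • h i) (e 1) = 0 := by rw [hrel]; rfl
    simp only [LinearMap.sum_apply, LinearMap.smul_apply] at this
    simp only [H, LinearMap.sum_apply, LinearMap.comp_apply, LinearMap.proj_apply, ← hx', map_smul]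
    exact this
  obtain ⟨g, hg⟩ := Module.Injective.out ((LinearMap.ker β).liftQ β le_rfl)
    (LinearMap.ker_eq_bot.1 (Submodule.ker_liftQ_eq_bot _ _ _ le_rfl)) ((LinearMap.ker β).liftQ H hker)
  refine ⟨m, fun i j => r j i, fun j => g.comp (LinearMap.single A (fun _ : Fin m => E) j), fun i => ?_, fun j => ?_⟩
  · refine LinearMap.ext fun x => ?_
    have := hg (Submodule.Quotient.mk (Pi.single i x))
    simp only [Submodule.liftQ_apply, H, LinearMap.sum_apply, LinearMap.comp_apply, LinearMap.proj_apply,
      Pi.single_apply, apply_ite, map_zero, Finset.sum_ite_eq', Finset.mem_univ, if_true] at this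
    simp only [LinearMap.sum_apply, LinearMap.smul_apply, LinearMap.comp_apply, LinearMap.single_apply, ← map_smul,
      ← map_sum]
    refine this.symm.trans (congrArg g (funext fun j => ?_))
    simp [β, Pi.single_apply]
  · have hj : r j ∈ LinearMap.ker fA := hr ▸ Submodule.subset_span (Set.mem_range_self j)
    simpa [fA] using hj

noncomputable section

variable (K L : DRing.Cx A)

/-- the terms of the Hom complex out of a bounded complex -/
def evalEquiv (a b : ℤ) (hK : DRing.VanishesOutside K a b) (n : ℤ) :
    (DRing.homCx K L).X n ≃ₗ[A] ((p : Finset.Icc a b) → (K.X p →ₗ[A] L.X (p + n))) :=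
  LinearEquiv.ofBijective
    ({ toFun := fun z p => ((show Cochain K L n from z).v p (p + n) rfl).hom
       map_add' := fun _ _ => funext fun _ => by simp
       map_smul' := fun _ _ => funext fun _ => by simp } :
      Cochain K L n →ₗ[A] ((p : Finset.Icc a b) → (K.X p →ₗ[A] L.X (p + n))))
    ⟨fun z z' h => Cochain.ext _ _ fun p q hpq => by
      obtain rfl : q = p + n := hpq.symm
      by_cases hp : p ∈ Finset.Icc a b
      · exact ModuleCat.hom_ext (congrFun h ⟨p, hp⟩)
      · exact (hK p (by rw [Finset.mem_Icc] at hp; omega)).eq_of_src _ _,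
    fun φ => ⟨Cochain.mk fun p q hpq => if hp : p ∈ Finset.Icc a b then
      ModuleCat.ofHom (φ ⟨p, hp⟩) ≫ eqToHom (congrArg L.X hpq) else 0, funext fun p => by
        simp [Finset.mem_Icc.1 p.2]⟩⟩

theorem injective_homCx (a b : ℤ) (hK : DRing.VanishesOutside K a b) (hf : DRing.TermwiseFlat K)
    (hL : DRing.TermwiseInjective L) : DRing.TermwiseInjective (DRing.homCx K L) := fun n => by
  haveI : ∀ p : Finset.Icc a b, Module.Injective A (K.X p →ₗ[A] L.X (p + n)) := fun p => by
    haveI := hf (p : ℤ)
    haveI := hL (p + n)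
    exact injective_hom_flat _ _
  exact Module.Injective.of_ringEquiv (RingEquiv.refl A) (evalEquiv K L a b hK n).symm

theorem flat_homCx [IsNoetherianRing A] (a b : ℤ) (hK : DRing.VanishesOutside K a b)
    (hi : DRing.TermwiseInjective K) (hL : DRing.TermwiseInjective L) :
    DRing.TermwiseFlat (DRing.homCx K L) := fun n => by
  haveI : ∀ p : Finset.Icc a b, Module.Flat A (K.X p →ₗ[A] L.X (p + n)) := fun p => by
    haveI := hi (p : ℤ)
    haveI := hL (p + n)
    exact flat_hom_injective _ _
  exact Module.Flat.of_linearEquiv ((evalEquiv K L a b hK n).trans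
    (DirectSum.linearEquivFunOnFintype A (Finset.Icc a b) _).symm)

theorem vanishes_homCx (a b c d : ℤ) (hK : DRing.VanishesOutside K a b) (hL : DRing.VanishesOutside L c d) :
    DRing.VanishesOutside (DRing.homCx K L) (c - b) (d - a) := fun n hn => by
  haveI : Subsingleton (Cochain K L n) := ⟨fun z z' => Cochain.ext _ _ fun p q hpq => by
    by_cases hp : p < a ∨ b < p
    · exact (hK p hp).eq_of_src _ _
    · exact (hL q (by omega)).eq_of_tgt _ _⟩
  exact ModuleCat.isZero_of_subsingleton (ModuleCat.of A (Cochain K L n))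

/-- the two dimensions agree -/
theorem finTor_iff_finInj [IsNoetherianRing A] {ω : Dual.D A} (hω : Dual.IsDualizing A ω) (G : DRing.Cx A)
    [DRing.HasRHomCx G] (hfin : ∀ i, Module.Finite A (Dual.HD A (DRing.toD G) i)) :
    DRing.HasFiniteTorDimCx A (DRing.toD G) ↔ DRing.HasFiniteInjDim A ((DRing.RHomCx G).obj ω) := by
  obtain ⟨R⟩ := nonempty_rep hω
  haveI := R.isKInjective
  have hRi : DRing.TermwiseInjective R.J := fun i => by
    haveI := R.inj i
    exact (Module.injective_iff_injective_object A (R.J.X i)).2 this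
  obtain ⟨P, c, hP, hc⟩ := DRingKP.exists_kProj_resolution G
  haveI := RHomMod.quasiIso_preMap c R.J
  obtain ⟨e₁⟩ := RHomMod.nonempty_RHomCx_iso G c R.iso
  let e : (DRing.RHomCx G).obj ω ≅ DRing.toD (DRing.homCx G R.J) :=
    e₁ ≪≫ (asIso (DerivedCategory.Q.map (RHomMod.preMap c R.J))).symm
  constructor
  · rintro ⟨a, b, E, hE, hEf, ⟨α⟩⟩
    obtain ⟨G', hG', ⟨γ⟩⟩ := RHomMod.exists_rep (DRing.toD G)
    haveI := hG'
    obtain ⟨f, hf⟩ := DRingKP.exists_lift_inj (E := E) (F := G') (α ≪≫ γ).hom
    obtain ⟨g, hg⟩ := DRingKP.exists_lift_inj (E := G) (F := G') γ.hom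
    haveI : QuasiIso f := (DerivedCategory.isIso_Q_map_iff_quasiIso _ _).1 (hf ▸ inferInstance)
    haveI : QuasiIso g := (DerivedCategory.isIso_Q_map_iff_quasiIso _ _).1 (hg ▸ inferInstance)
    haveI := RHomMod.quasiIso_preMap f R.J
    haveI := RHomMod.quasiIso_preMap g R.J
    exact ⟨R.a - b, R.b - a, DRing.homCx E R.J, vanishes_homCx E R.J a b _ _ hE R.zero,
      injective_homCx E R.J a b hE hEf hRi,
      ⟨(asIso (DerivedCategory.Q.map (RHomMod.preMap f R.J))).symm ≪≫
        asIso (DerivedCategory.Q.map (RHomMod.preMap g R.J)) ≪≫ e.symm⟩⟩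
  · rintro ⟨a, b, I, hI, hIi, ⟨α⟩⟩
    haveI : I.IsStrictlyGE a := (CochainComplex.isStrictlyGE_iff I a).2 fun j hj => hI j (Or.inl hj)
    haveI : ∀ i, Injective (I.X i) := fun i => by
      haveI := hIi i
      exact Module.injective_object_of_injective_module A (I.X i)
    haveI : I.IsKInjective := CochainComplex.isKInjective_of_injective I a
    obtain ⟨f, hf⟩ := DRingKP.exists_lift_inj (E := DRing.homCx G R.J) (F := I) (e.symm ≪≫ α.symm).hom
    haveI : QuasiIso f := (DerivedCategory.isIso_Q_map_iff_quasiIso _ _).1 (hf ▸ inferInstance)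
    haveI := RHomMod.quasiIso_preMap f R.J
    haveI : R.J.IsStrictlyGE R.a := (CochainComplex.isStrictlyGE_iff _ _).2 fun j hj => R.zero j (Or.inl hj)
    haveI : R.J.IsStrictlyLE R.b := (CochainComplex.isStrictlyLE_iff _ _).2 fun j hj => R.zero j (Or.inr hj)
    haveI hK : ∀ i, Module.Finite A (G.homology i) := fun i => by
      haveI : Module.Finite A ((DerivedCategory.Q ⋙ DerivedCategory.homologyFunctor (ModuleCat.{u} A) i).obj G) := hfin i
      exact Module.Finite.equiv ((DerivedCategory.homologyFunctorFactors (ModuleCat.{u} A) i).app G).toLinearEquiv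
    haveI : QuasiIso (RingBidual.ev R.J G) := ⟨fun i => by
      rw [quasiIsoAt_iff_isIso_homologyMap]
      exact RingBidual.good_of_finite R.J R.inj R.a R.b R.iso hω G hK i⟩
    exact ⟨R.a - b, R.b - a, DRing.homCx I R.J, vanishes_homCx I R.J a b _ _ hI R.zero,
      flat_homCx I R.J a b hI hIi hRi,
      ⟨asIso (DerivedCategory.Q.map (RHomMod.preMap f R.J)) ≪≫
        (asIso (DerivedCategory.Q.map (RingBidual.ev R.J G))).symm⟩⟩

end

end Groth.Agent.DualCx
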