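import Groth.Agent.DualFlat.Twist
import Groth.Agent.DualCx.Unique
import Groth.Agent.DualCx.RHomFinite
import Groth.Agent.QFDualLib.Synt
import Mathlib.RingTheory.Localization.BaseChange

/-!
Dualizing complexes over a connected base agree up to a twist by an invertible module and a shift.
-/

set_option autoImplicit false
set_option linter.style.haveILetI false
set_option maxHeartbeats 1000000
set_option backward.isDefEq.respectTransparency false
universe u v w

namespace Groth.Agent.DualCx.TwistU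

open CategoryTheory Limits DerivedCategory Pretriangulated TensorProduct MonoidalCategory

attribute [local instance] HasDerivedCategory.standard

noncomputable section

variable {A : Type u} [CommRing A]

/-- `π` is a basis of `M` at `p`. -/
def IsGenAt (p : Ideal A) {M : Type v} [AddCommGroup M] [Module A M] (π : M) : Prop :=
  (∀ g : M, ∃ s ∉ p, ∃ a : A, s • g = a • π) ∧ ∀ a : A, a • π = 0 → ∃ t ∉ p, t * a = 0

theorem IsGenAt.equiv {p : Ideal A} {M : Type v} [AddCommGroup M] [Module A M] {M' : Type w} [AddCommGroup M']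
    [Module A M'] (e : M ≃ₗ[A] M') {π : M} (h : IsGenAt p π) : IsGenAt p (e π) := by
  refine ⟨fun g => ?_, fun a ha => h.2 a (e.injective (by rw [map_smul, ha, map_zero]))⟩
  obtain ⟨s, hs, a, ha⟩ := h.1 (e.symm g)
  exact ⟨s, hs, a, by rw [← map_smul, ← ha, map_smul, e.apply_symm_apply]⟩

theorem bijective_of_genAt {M : Type v} [AddCommGroup M] [Module A M] {M' : Type w} [AddCommGroup M'] [Module A M']
    (γ : M →ₗ[A] M') (h : ∀ p : Ideal A, p.IsMaximal → ∃ x : M, IsGenAt p x ∧ IsGenAt p (γ x)) :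
    Function.Bijective γ := by
  refine ⟨(injective_iff_map_eq_zero γ).2 fun z hz => ?_, fun y => ?_⟩
  · by_contra hne
    have hI : (LinearMap.ker (LinearMap.toSpanSingleton A M z) : Ideal A) ≠ ⊤ := fun htop => hne (by
      have h1 : (1 : A) ∈ LinearMap.ker (LinearMap.toSpanSingleton A M z) := by rw [htop]; trivial
      simpa using h1)
    obtain ⟨p, hp, hle⟩ := Ideal.exists_le_maximal _ hI
    obtain ⟨x, hx, hγx⟩ := h p hp
    obtain ⟨s, hs, a, ha⟩ := hx.1 z
    obtain ⟨t, ht, hta⟩ := hγx.2 a (by rw [← map_smul, ← ha, map_smul, hz, smul_zero])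
    refine (hp.isPrime.mul_notMem ht hs) (hle ?_)
    simp [LinearMap.toSpanSingleton_apply, mul_smul, ha, ← mul_smul t a, hta]
  · by_contra hne
    have hI : ((LinearMap.range γ).comap (LinearMap.toSpanSingleton A M' y) : Ideal A) ≠ ⊤ := fun htop => hne (by
      have h1 : (1 : A) ∈ (LinearMap.range γ).comap (LinearMap.toSpanSingleton A M' y) := by rw [htop]; trivial
      simpa using h1)
    obtain ⟨p, hp, hle⟩ := Ideal.exists_le_maximal _ hI
    obtain ⟨x, -, hγx⟩ := h p hp
    obtain ⟨s, hs, a, ha⟩ := hγx.1 y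
    refine hs (hle ?_)
    show s • y ∈ LinearMap.range γ
    exact ⟨a • x, by rw [map_smul, ha]⟩

theorem exists_genAt_of_invertible {P : Type v} [AddCommGroup P] [Module A P] [Module.Invertible A P] (p : Ideal A)
    [p.IsPrime] : ∃ x : P, IsGenAt p x := by
  obtain ⟨e⟩ := Module.Invertible.free_iff_linearEquiv.1
    (inferInstance : Module.Free (Localization.AtPrime p) (Localization.AtPrime p ⊗[A] P))
  let f := TensorProduct.mk A (Localization.AtPrime p) P 1
  obtain ⟨⟨x, σ⟩, hx⟩ := IsLocalizedModule.surj p.primeCompl f (e.symm 1)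
  have hu : IsUnit (e (f x)) := by
    rw [← hx, Submonoid.smul_def, ← IsScalarTower.algebraMap_smul (Localization.AtPrime p) (σ : A) (e.symm 1), map_smul,
      e.apply_symm_apply, smul_eq_mul, mul_one]
    exact IsLocalization.map_units _ σ
  refine ⟨x, fun g => ?_, fun a ha => ?_⟩
  · obtain ⟨⟨a, s⟩, hs⟩ := IsLocalization.surj p.primeCompl (e (f g) * ↑hu.unit⁻¹)
    have h1 : f ((s : A) • g) = f (a • x) := e.injective (by
      rw [f.map_smul, f.map_smul, ← IsScalarTower.algebraMap_smul (Localization.AtPrime p) (s : A),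
        ← IsScalarTower.algebraMap_smul (Localization.AtPrime p) a, map_smul, map_smul, smul_eq_mul, smul_eq_mul, ← hs]
      calc _ = algebraMap A _ (s : A) * e (f g) * (↑hu.unit⁻¹ * e (f x)) := by rw [IsUnit.val_inv_mul, mul_one]
        _ = _ := by ring)
    obtain ⟨c, hc⟩ := IsLocalizedModule.exists_of_eq (S := p.primeCompl) (f := f) h1
    exact ⟨c * s, Ideal.IsPrime.mul_notMem ‹_› c.2 s.2, c * a, by rw [mul_smul, mul_smul]; exact hc⟩
  · have h1 : algebraMap A (Localization.AtPrime p) a = 0 := by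
      have h2 : e (f (a • x)) = 0 := by rw [ha, map_zero, map_zero]
      rw [f.map_smul, ← IsScalarTower.algebraMap_smul (Localization.AtPrime p) a, map_smul, smul_eq_mul] at h2
      exact hu.mul_left_eq_zero.1 h2
    obtain ⟨c, hc⟩ := (IsLocalization.map_eq_zero_iff p.primeCompl _ a).1 h1
    exact ⟨c, c.2, hc⟩

theorem nonempty_equiv_of_genAt {N : Type u} [AddCommGroup N] [Module A N] (p : Ideal A) [p.IsPrime] {x : N}
    (hx : IsGenAt p x) :
    Nonempty (Localization.AtPrime p ⊗[A] N ≃ₗ[Localization.AtPrime p] Localization.AtPrime p) := by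
  let f := TensorProduct.mk A (Localization.AtPrime p) N 1
  let g : Localization.AtPrime p →ₗ[Localization.AtPrime p] Localization.AtPrime p ⊗[A] N :=
    LinearMap.toSpanSingleton _ _ (f x)
  have key : ∀ z : N, ∃ b, g b = f z := fun z => by
    obtain ⟨s, hs, a, ha⟩ := hx.1 z
    have hu := IsLocalization.map_units (Localization.AtPrime p) (⟨s, hs⟩ : p.primeCompl)
    refine ⟨↑hu.unit⁻¹ * algebraMap A _ a, ?_⟩
    rw [LinearMap.toSpanSingleton_apply, mul_smul, IsScalarTower.algebraMap_smul, ← map_smul f, ← ha, map_smul,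
      ← IsScalarTower.algebraMap_smul (Localization.AtPrime p) s (f z), smul_smul, IsUnit.val_inv_mul, one_smul]
  refine ⟨(LinearEquiv.ofBijective g ⟨(injective_iff_map_eq_zero g).2 fun b hb => ?_, fun y => ?_⟩).symm⟩
  · obtain ⟨⟨a, s⟩, hs⟩ := IsLocalization.surj p.primeCompl b
    have h1 : f (a • x) = f 0 := by
      rw [map_zero, map_smul, ← IsScalarTower.algebraMap_smul (Localization.AtPrime p) a (f x), ← hs, mul_comm, mul_smul]
      rw [LinearMap.toSpanSingleton_apply] at hb
      rw [hb, smul_zero]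
    obtain ⟨c, hc⟩ := IsLocalizedModule.exists_of_eq (S := p.primeCompl) (f := f) h1
    obtain ⟨t, ht, hta⟩ := hx.2 ((c : A) * a) (by rw [mul_smul]; exact hc.trans (smul_zero _))
    have h2 : algebraMap A (Localization.AtPrime p) a = 0 :=
      (IsLocalization.map_eq_zero_iff p.primeCompl _ a).2
        ⟨⟨t * c, Ideal.IsPrime.mul_notMem ‹_› ht c.2⟩, by show t * c * a = 0; rw [mul_assoc, hta]⟩
    rw [h2] at hs
    exact (IsLocalization.map_units _ s).mul_left_eq_zero.1 hs
  · obtain ⟨⟨z, σ⟩, hz⟩ := IsLocalizedModule.surj p.primeCompl f y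
    obtain ⟨b, hb⟩ := key z
    have hu := IsLocalization.map_units (Localization.AtPrime p) σ
    refine ⟨↑hu.unit⁻¹ * b, ?_⟩
    rw [← smul_eq_mul, map_smul, hb, ← hz, Submonoid.smul_def,
      ← IsScalarTower.algebraMap_smul (Localization.AtPrime p) (σ : A) y, smul_smul, IsUnit.val_inv_mul, one_smul]

/-! ### Twisting -/

section Twist

variable (P : Type u) [AddCommGroup P] [Module A P]

/-- The complex twisted by `P`. -/
abbrev tw (C : CochainComplex (ModuleCat.{u} A) ℤ) : CochainComplex (ModuleCat.{u} A) ℤ :=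
  ((tensorRight (ModuleCat.of A P)).mapHomologicalComplex (ComplexShape.up ℤ)).obj C

variable {P} (C : CochainComplex (ModuleCat.{u} A) ℤ)

/-- `x ↦ x ⊗ v` -/
def ins (v : P) : C ⟶ tw P C where
  f i := ModuleCat.ofHom ((TensorProduct.mk A (C.X i) P).flip v)
  comm' i j _ := ModuleCat.hom_ext (LinearMap.ext fun _ => rfl)

/-- `x ⊗ w ↦ l w • x` -/
def ev (l : P →ₗ[A] A) : tw P C ⟶ C where
  f i := ModuleCat.ofHom (TensorProduct.lift ((LinearMap.lsmul A (C.X i)).comp l).flip)
  comm' i j _ := ModuleCat.hom_ext (TensorProduct.ext' fun x w => (map_smul (C.d i j).hom (l w) x))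

theorem ins_ev (v : P) (l : P →ₗ[A] A) : ins C v ≫ ev C l = l v • 𝟙 C :=
  HomologicalComplex.hom_ext _ _ fun _ => ModuleCat.hom_ext (LinearMap.ext fun _ => rfl)

theorem ev_ins (v : P) (l : P →ₗ[A] A) (s : A) (h : ∀ w, l w • v = s • w) : ev C l ≫ ins C v = s • 𝟙 (tw P C) :=
  HomologicalComplex.hom_ext _ _ fun i => ModuleCat.hom_ext (TensorProduct.ext' fun x w => by
    show (l w • x) ⊗ₜ[A] v = s • (x ⊗ₜ[A] w)
    rw [TensorProduct.smul_tmul, h, TensorProduct.tmul_smul])

theorem ins_add (v v' : P) : ins C (v + v') = ins C v + ins C v' :=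
  HomologicalComplex.hom_ext _ _ fun _ => ModuleCat.hom_ext (LinearMap.ext fun x => TensorProduct.tmul_add x v v')

theorem ins_smul (a : A) (v : P) : ins C (a • v) = a • ins C v :=
  HomologicalComplex.hom_ext _ _ fun _ => ModuleCat.hom_ext (LinearMap.ext fun x => TensorProduct.tmul_smul a x v)

/-- `v ↦ (ω ⟶ ω ⊗ P)` -/
def insMap {K : Dual.D A} (eC : DerivedCategory.Q.obj C ≅ K) : P →ₗ[A] (K ⟶ DerivedCategory.Q.obj (tw P C)) where
  toFun v := eC.inv ≫ DerivedCategory.Q.map (ins C v)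
  map_add' v v' := by rw [ins_add, Functor.map_add, Preadditive.comp_add]
  map_smul' a v := by rw [ins_smul, Functor.map_smul, Linear.comp_smul, RingHom.id_apply]

theorem exists_dual_basis [Module.Invertible A P] : ∃ (k : ℕ) (l : Fin k → (P →ₗ[A] A)) (x : Fin k → P),
    ∀ v, v = ∑ j, l j v • x j := by
  obtain ⟨k, f, hf⟩ := Module.Finite.exists_fin' A P
  obtain ⟨σ, hσ⟩ := Module.projective_lifting_property f (LinearMap.id (R := A) (M := P)) hf
  refine ⟨k, fun j => (LinearMap.proj j).comp σ, fun j => f (Pi.single j 1), fun v => ?_⟩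
  conv_lhs => rw [show v = f (σ v) from (LinearMap.congr_fun hσ v).symm, pi_eq_sum_univ' (σ v)]
  simp

theorem exists_coord [Module.Invertible A P] {p : Ideal A} [p.IsPrime] {v : P} (hv : IsGenAt p v) :
    ∃ l : P →ₗ[A] A, ∃ s ∉ p, (∀ w, l w • v = s • w) ∧ l v ∉ p := by
  obtain ⟨k, l, x, hlx⟩ := exists_dual_basis (A := A) (P := P)
  choose s hs a ha using fun j => hv.1 (x j)
  classical
  refine ⟨∑ j, ((∏ i ∈ Finset.univ.erase j, s i) * a j) • l j, ∏ j, s j, ?_, ?_⟩
  · exact fun hmem => by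
      obtain ⟨j, -, hj⟩ := (Ideal.IsPrime.prod_mem_iff (hp := ‹_›)).1 hmem
      exact hs j hj
  have key : ∀ w, (∑ j, ((∏ i ∈ Finset.univ.erase j, s i) * a j) • l j) w • v = (∏ j, s j) • w := fun w => by
    conv_rhs => rw [hlx w, Finset.smul_sum]
    rw [LinearMap.sum_apply, Finset.sum_smul]
    refine Finset.sum_congr rfl fun j _ => ?_
    rw [← Finset.prod_erase_mul _ _ (Finset.mem_univ j), LinearMap.smul_apply, smul_eq_mul, smul_smul,
      mul_comm (_ * s j) (l j w), ← mul_assoc (l j w), mul_smul (l j w * _) (s j), ha j, smul_smul]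
    congr 1
    ring
  refine ⟨key, fun hmem => ?_⟩
  obtain ⟨t, ht, h0⟩ := hv.2 (_ - ∏ j, s j) (by rw [sub_smul, key v, sub_self])
  have h1 : (∑ j, ((∏ i ∈ Finset.univ.erase j, s i) * a j) • l j) v - ∏ j, s j ∈ p :=
    ((Ideal.IsPrime.mem_or_mem ‹_› (by rw [h0]; exact p.zero_mem))).resolve_left ht
  have h2 : ∏ j, s j ∈ p := by simpa using p.sub_mem hmem h1
  obtain ⟨j, -, hj⟩ := (Ideal.IsPrime.prod_mem_iff (hp := ‹_›)).1 h2
  exact hs j hj

end Twist

/-! ### Localization -/

section Loc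

variable {B : Type u} [CommRing B] (φ : A →+* B) [PreservesFiniteLimits (ext φ)]

theorem isIso_locD_of_scalar {K L : Dual.D A} (u : K ⟶ L) (t : L ⟶ K) {a b : A} (ha : u ≫ t = a • 𝟙 K)
    (hb : t ≫ u = b • 𝟙 L) (hφa : IsUnit (φ a)) (hφb : IsUnit (φ b)) : IsIso ((locD φ).map u) := by
  have h1 : (locD φ).map u ≫ ((↑hφa.unit⁻¹ : B) • (locD φ).map t) = 𝟙 _ := by
    rw [Linear.comp_smul, ← Functor.map_comp, ha, locD_smul_id, smul_smul, IsUnit.val_inv_mul, one_smul]
  have h2 : ((↑hφb.unit⁻¹ : B) • (locD φ).map t) ≫ (locD φ).map u = 𝟙 _ := by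
    rw [Linear.smul_comp, ← Functor.map_comp, hb, locD_smul_id, smul_smul, IsUnit.val_inv_mul, one_smul]
  exact ⟨_, h1, by
    rw [show ((↑hφa.unit⁻¹ : B) • (locD φ).map t) = (↑hφb.unit⁻¹ : B) • (locD φ).map t from
      (Category.id_comp _).symm.trans ((congrArg (· ≫ _) h2.symm).trans ((Category.assoc _ _ _).trans
        ((congrArg (_ ≫ ·) h1).trans (Category.comp_id _))))]
    exact h2⟩

end Loc

variable [IsNoetherianRing A]

omit [IsNoetherianRing A] in
theorem exists_bounds {ω : Dual.D A} (hω : Dual.IsDualizing A ω) : ∃ c a : ℤ, ω.IsLE c ∧ ω.IsGE a := by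
  obtain ⟨R⟩ := nonempty_rep hω
  haveI : R.J.IsStrictlyGE R.a := (CochainComplex.isStrictlyGE_iff _ _).2 fun j hj => R.zero j (Or.inl hj)
  haveI : R.J.IsStrictlyLE R.b := (CochainComplex.isStrictlyLE_iff _ _).2 fun j hj => R.zero j (Or.inr hj)
  exact ⟨R.b, R.a, DerivedCategory.TStructure.t.isLE_of_iso R.iso R.b,
    DerivedCategory.TStructure.t.isGE_of_iso R.iso R.a⟩

theorem finite_hom {ω ω' : Dual.D A} (hω : Dual.IsDualizing A ω) (hω' : Dual.IsDualizing A ω') (i : ℤ) :
    Module.Finite A (ω ⟶ ω'⟦i⟧) := by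
  obtain ⟨a, b, hab⟩ := hω'.finite_injective_dimension
  exact finite_hom_of_injAmp hω.finite_cohomology hω'.finite_cohomology
    ((DRingKP.injAmp_iff ω' a b).2 fun I i hi => hab (A ⧸ I) i hi) i

section AtPrime

variable (p : Ideal A) [p.IsPrime]

/-- localisation at `p` -/
abbrev φp : A →+* Localization.AtPrime p := algebraMap A (Localization.AtPrime p)

theorem isGenAt_of_isIso {ω X : Dual.D A} (hω : Dual.IsDualizing A ω) (hX : Dual.IsDualizing A X) (π : ω ⟶ X)
    [IsIso ((locD (φp p)).map π)] : IsGenAt p π := by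
  obtain ⟨c, _, hc, -⟩ := exists_bounds hω
  obtain ⟨_, a₀, -, ha₀⟩ := exists_bounds hX
  haveI := hc
  haveI := ha₀
  have hB := isDualizing_locD (φp p) p.primeCompl hω
  refine ⟨fun g => ?_, fun a ha => ?_⟩
  · obtain ⟨x, hx⟩ := hB.toEnd_bijective.2 ((locD (φp p)).map g ≫ inv ((locD (φp p)).map π))
    obtain ⟨⟨a, s⟩, hs⟩ := IsLocalization.surj p.primeCompl x
    have h1 : (locD (φp p)).map g = x • (locD (φp p)).map π := by
      have h2 := congrArg (· ≫ (locD (φp p)).map π) hx
      simpa [Linear.smul_comp] using h2.symm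
    have h0 : (locD (φp p)).map ((s : A) • g - a • π) = 0 := by
      rw [Functor.map_sub, locD_smul, locD_smul, h1, smul_smul, mul_comm, hs, sub_self]
    obtain ⟨t, ht, hts⟩ := exists_smul_eq_zero_of_locD (φp p) p.primeCompl c a₀ hω.finite_cohomology _ h0
    exact ⟨t * s, Ideal.IsPrime.mul_notMem ‹_› ht s.2, t * a,
      by rw [mul_smul, mul_smul, ← sub_eq_zero, ← smul_sub, hts]⟩
  · have h1 : φp p a • (locD (φp p)).map π = 0 := by rw [← locD_smul, ha, Functor.map_zero]
    have h2 : φp p a • 𝟙 ((locD (φp p)).obj ω) = 0 := by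
      rw [← cancel_mono ((locD (φp p)).map π), Linear.smul_comp, Category.id_comp, h1, zero_comp]
    have h3 : φp p a = 0 := hB.toEnd_bijective.1 (h2.trans (zero_smul _ _).symm)
    obtain ⟨c, hc⟩ := (IsLocalization.map_eq_zero_iff p.primeCompl _ a).1 h3
    exact ⟨c, c.2, hc⟩

/-- Dualizing complexes at a prime. -/
theorem exists_gen {ω ω' : Dual.D A} (hω : Dual.IsDualizing A ω) (hω' : Dual.IsDualizing A ω') :
    ∃ m : ℤ, (∀ i, i ≠ m → ∀ g : ω ⟶ ω'⟦i⟧, ∃ s ∉ p, s • g = 0) ∧
      ∃ π : ω ⟶ ω'⟦m⟧, IsGenAt p π ∧ IsIso ((locD (φp p)).map π) := by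
  obtain ⟨c, _, hc, -⟩ := exists_bounds hω
  haveI := hc
  have hB := isDualizing_locD (φp p) p.primeCompl hω
  have hB' := isDualizing_locD (φp p) p.primeCompl hω'
  obtain ⟨m, ⟨e⟩⟩ := exists_shift_iso hB' hB
  refine ⟨m, fun i hi g => ?_, ?_⟩
  · obtain ⟨_, a, -, ha⟩ := exists_bounds (isDualizing_shift hω' i)
    haveI := ha
    haveI := hB.ext_self_subsingleton (i - m) (by lia)
    let e' := ((locD (φp p)).commShiftIso i).app ω' ≪≫
      (shiftFunctorAdd' _ m (i - m) i (by lia)).app ((locD (φp p)).obj ω') ≪≫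
      (shiftFunctor _ (i - m)).mapIso e.symm
    refine exists_smul_eq_zero_of_locD (φp p) p.primeCompl c a hω.finite_cohomology g ?_
    exact (cancel_mono e'.hom).1 (Subsingleton.elim _ _)
  · obtain ⟨_, a, -, ha⟩ := exists_bounds (isDualizing_shift hω' m)
    haveI := ha
    obtain ⟨s, hs, π, hπ⟩ := exists_locD_map_eq (φp p) p.primeCompl c a hω.finite_cohomology
      (e.hom ≫ (((locD (φp p)).commShiftIso m).app ω').inv)
    have hu : IsUnit (φp p s) := IsLocalization.map_units (Localization.AtPrime p) (⟨s, hs⟩ : p.primeCompl)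
    haveI : IsIso ((locD (φp p)).map π) := by
      rw [← hπ]
      refine ⟨(↑hu.unit⁻¹ : Localization.AtPrime p) •
        ((((locD (φp p)).commShiftIso m).app ω').hom ≫ e.inv), ?_, ?_⟩
      · simp [Linear.smul_comp, Linear.comp_smul, smul_smul]
      · simp [Linear.smul_comp, Linear.comp_smul, smul_smul]
    exact ⟨π, isGenAt_of_isIso p hω (isDualizing_shift hω' m) π, inferInstance⟩

theorem isIso_locD_ins {P : Type u} [AddCommGroup P] [Module A P] [Module.Invertible A P]
    (C : CochainComplex (ModuleCat.{u} A) ℤ) {v : P} (hv : IsGenAt p v) :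
    IsIso ((locD (φp p)).map (DerivedCategory.Q.map (ins C v))) := by
  obtain ⟨l, s, hs, hl, hlv⟩ := exists_coord hv
  refine isIso_locD_of_scalar (φp p) _ (DerivedCategory.Q.map (ev C l)) (a := l v) (b := s) ?_ ?_
    (IsLocalization.map_units (Localization.AtPrime p) (⟨l v, hlv⟩ : p.primeCompl))
    (IsLocalization.map_units (Localization.AtPrime p) (⟨s, hs⟩ : p.primeCompl))
  · rw [← Functor.map_comp, ins_ev, Functor.map_smul, CategoryTheory.Functor.map_id]
  · rw [← Functor.map_comp, ev_ins C v l s hl, Functor.map_smul, CategoryTheory.Functor.map_id]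

end AtPrime

omit [IsNoetherianRing A] in
theorem exists_smul_zero_of_isZero_ext {B : Type u} [CommRing B] (φ : A →+* B) (S : Submonoid A) [IsLocMap φ S]
    {M : ModuleCat.{u} A} (h : IsZero ((ext φ).obj M)) (x : M) : ∃ s ∈ S, s • x = 0 := by
  letI := φ.toAlgebra
  haveI : IsLocalization S B := IsLocMap.isLocalization (φ := φ)
  haveI : Subsingleton (TensorProduct A B M) := ModuleCat.subsingleton_of_isZero h
  obtain ⟨c, hc⟩ := IsLocalizedModule.exists_of_eq (S := S)
    (f := TensorProduct.mk A B M 1) (x₁ := x) (x₂ := 0) (Subsingleton.elim _ _)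
  exact ⟨c, c.2, hc.trans (smul_zero _)⟩

omit [IsNoetherianRing A] in
theorem subsingleton_of_torsion {M : ModuleCat.{u} A}
    (h : ∀ (q : Ideal A) [q.IsMaximal], IsZero ((ext (φp q)).obj M)) : Subsingleton M := by
  refine subsingleton_of_forall_eq 0 fun x => ?_
  by_contra hne
  have hI : (LinearMap.ker (LinearMap.toSpanSingleton A M x) : Ideal A) ≠ ⊤ := fun htop => hne (by
    have h1 : (1 : A) ∈ LinearMap.ker (LinearMap.toSpanSingleton A M x) := by rw [htop]; trivial
    simpa using h1)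
  obtain ⟨p, hp, hle⟩ := Ideal.exists_le_maximal _ hI
  haveI := hp
  obtain ⟨s, hs, hsx⟩ := exists_smul_zero_of_isZero_ext (φp p) p.primeCompl (h p) x
  exact hs (hle hsx)

omit [IsNoetherianRing A] in
theorem isIso_of_locD {K L : Dual.D A} (θ : K ⟶ L)
    (h : ∀ (q : Ideal A) [q.IsMaximal], IsIso ((locD (φp q)).map θ)) : IsIso θ := by
  obtain ⟨C, g, d, hT⟩ := distinguished_cocone_triangle θ
  refine (Triangle.isZero₃_iff_isIso₁ _ hT).1 ?_
  have hz : ∀ i : ℤ, IsZero ((DerivedCategory.homologyFunctor (ModuleCat.{u} A) i).obj C) := fun i => by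
    haveI : Subsingleton ((DerivedCategory.homologyFunctor (ModuleCat.{u} A) i).obj C) :=
      subsingleton_of_torsion fun q _ => by
        have hT' := (locD (φp q)).map_distinguished _ hT
        haveI := h q
        have hzC : IsZero ((locD (φp q)).obj C) :=
          (Triangle.isZero₃_iff_isIso₁ _ hT').2 (inferInstanceAs (IsIso ((locD (φp q)).map θ)))
        exact ((DerivedCategory.homologyFunctor _ i).map_isZero hzC).of_iso (locHD (φp q) C i).symm
    exact ModuleCat.isZero_of_subsingleton _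
  haveI : C.IsLE (-1) := (DerivedCategory.isLE_iff C (-1)).2 fun i _ => hz i
  haveI : C.IsGE 0 := (DerivedCategory.isGE_iff C 0).2 fun i _ => hz i
  exact DerivedCategory.TStructure.t.isZero C (-1) 0 (by lia)

/-- The derived twist of `Q C` is the twisted complex. -/
def mapTwIso (P : Type u) [AddCommGroup P] [Module A P] [Module.Invertible A P] {ω : Dual.D A}
    {C : CochainComplex (ModuleCat.{u} A) ℤ} (eC : DerivedCategory.Q.obj C ≅ ω) :
    (DualFlat.twist A P).functor.mapDerivedCategory.obj ω ≅ DerivedCategory.Q.obj (tw P C) :=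
  (DualFlat.twist A P).functor.mapDerivedCategory.mapIso eC.symm ≪≫
    (DualFlat.twist A P).functor.mapDerivedCategoryFactors.app C

theorem isDualizing_tw (P : Type u) [AddCommGroup P] [Module A P] [Module.Invertible A P] {ω : Dual.D A}
    (hω : Dual.IsDualizing A ω) {C : CochainComplex (ModuleCat.{u} A) ℤ} (eC : DerivedCategory.Q.obj C ≅ ω) :
    Dual.IsDualizing A (DerivedCategory.Q.obj (tw P C)) :=
  isDualizing_of_iso (mapTwIso P eC) (DualFlat.isDualizing_tensor A P hω)

theorem exists_degree [ConnectedSpace (PrimeSpectrum A)] {ω ω' : Dual.D A} (hω : Dual.IsDualizing A ω)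
    (hω' : Dual.IsDualizing A ω') :
    ∃ m : ℤ, ∀ (p : Ideal A) [p.IsPrime], ∃ π : ω ⟶ ω'⟦m⟧, IsGenAt p π ∧ IsIso ((locD (φp p)).map π) := by
  choose m hm hm' using fun p : PrimeSpectrum A => exists_gen p.asIdeal hω hω'
  have hann : ∀ (p : PrimeSpectrum A) (i : ℤ), i ≠ m p → ∃ s ∉ p.asIdeal, ∀ g : ω ⟶ ω'⟦i⟧, s • g = 0 := by
    intro p i hi
    haveI := finite_hom hω hω' i
    obtain ⟨k, f, hf⟩ := Module.Finite.exists_fin' A (ω ⟶ ω'⟦i⟧)
    choose s hs hsg using fun j : Fin k => hm p i hi (f (Pi.single j 1))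
    refine ⟨∏ j, s j, fun hmem => ?_, fun g => ?_⟩
    · obtain ⟨j, -, hj⟩ := (Ideal.IsPrime.prod_mem_iff (hp := p.isPrime)).1 hmem
      exact hs j hj
    · classical
      obtain ⟨y, rfl⟩ := hf g
      rw [pi_eq_sum_univ' y, map_sum, Finset.smul_sum]
      refine Finset.sum_eq_zero fun j _ => ?_
      rw [map_smul, smul_comm, ← Finset.prod_erase_mul _ _ (Finset.mem_univ j), mul_smul, hsg j, smul_zero, smul_zero]
  have hnot : ∀ (p : PrimeSpectrum A) (a : A), (∀ g : ω ⟶ ω'⟦m p⟧, a • g = 0) → a ∈ p.asIdeal := fun p a ha => by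
    obtain ⟨π, hπ, -⟩ := hm' p
    obtain ⟨t, ht, hta⟩ := hπ.2 a (ha π)
    exact (p.isPrime.mem_or_mem (by rw [hta]; exact p.asIdeal.zero_mem)).resolve_left ht
  have hgen : ∀ q p : PrimeSpectrum A, q.asIdeal ≤ p.asIdeal → m q = m p := by
    intro q p hle
    by_contra hne
    obtain ⟨s, hs, hsg⟩ := hann p (m q) hne
    exact hs (hle (hnot q s hsg))
  have hclosed : ∀ i, IsClosed {p : PrimeSpectrum A | m p = i} := fun i => by
    have heq : {p : PrimeSpectrum A | m p = i} =
        PrimeSpectrum.zeroLocus {a : A | ∀ g : ω ⟶ ω'⟦i⟧, a • g = 0} := by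
      ext p
      refine ⟨?_, fun h => ?_⟩
      · rintro (rfl : m p = i) a ha
        exact hnot p a ha
      · by_contra hne
        obtain ⟨s, hs, hsg⟩ := hann p i (Ne.symm hne)
        exact hs (h hsg)
    rw [heq]
    exact PrimeSpectrum.isClosed_zeroLocus _
  have hfin : (Set.range m).Finite := by
    haveI : Finite (minimalPrimes A) := (minimalPrimes.finite_of_isNoetherianRing A).to_subtype
    refine (Set.finite_range (fun q : minimalPrimes A => m ⟨q.1, q.2.1.1⟩)).subset ?_
    rintro _ ⟨p, rfl⟩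
    haveI := p.isPrime
    obtain ⟨q, hq, hle⟩ := Ideal.exists_minimalPrimes_le (bot_le : ⊥ ≤ p.asIdeal)
    exact ⟨⟨q, hq⟩, hgen _ p hle⟩
  have hlc : IsLocallyConstant m := IsLocallyConstant.iff_isOpen_fiber.2 fun i => by
    have hset : (m ⁻¹' {i})ᶜ = ⋃ j ∈ (hfin.toFinset.erase i : Finset ℤ), {p | m p = j} := by
      ext p
      simp
    rw [← isClosed_compl_iff, hset]
    exact isClosed_biUnion_finset fun j _ => hclosed j
  obtain ⟨p₀⟩ := (inferInstance : Nonempty (PrimeSpectrum A))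
  refine ⟨m p₀, fun p _ => ?_⟩
  rw [← hlc.apply_eq_of_preconnectedSpace ⟨p, ‹_›⟩ p₀]
  exact hm' ⟨p, ‹_›⟩

theorem exists_twist [ConnectedSpace (PrimeSpectrum A)] {ω ω' : Dual.D A} (hω : Dual.IsDualizing A ω)
    (hω' : Dual.IsDualizing A ω') :
    ∃ (P : Type u) (_ : AddCommGroup P) (_ : Module A P) (_ : Module.Invertible A P) (n : ℤ),
      Nonempty (ω' ≅ ((DualFlat.twist A P).functor.mapDerivedCategory.obj ω)⟦n⟧) := by
  obtain ⟨m, hm⟩ := exists_degree hω hω'
  haveI := finite_hom hω hω' m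
  obtain ⟨k, f, hf⟩ := Module.Finite.exists_fin' A (ω ⟶ ω'⟦m⟧)
  let P := (Fin k → A) ⧸ LinearMap.ker f
  let γ : P ≃ₗ[A] (ω ⟶ ω'⟦m⟧) := LinearMap.quotKerEquivOfSurjective f hf
  haveI : Module.Invertible A P := QFDualLib.invertible_of_local fun q _ => by
    obtain ⟨π, hπ, -⟩ := hm q
    exact nonempty_equiv_of_genAt q (hπ.equiv γ.symm)
  let C := DerivedCategory.Q.objPreimage ω
  let eC : DerivedCategory.Q.obj C ≅ ω := DerivedCategory.Q.objObjPreimageIso ω
  obtain ⟨r, l, x, hlx⟩ := exists_dual_basis (A := A) (P := P)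
  let θ : DerivedCategory.Q.obj (tw P C) ⟶ ω'⟦m⟧ := ∑ j, DerivedCategory.Q.map (ev C (l j)) ≫ eC.hom ≫ γ (x j)
  have hθ : ∀ v, DerivedCategory.Q.map (ins C v) ≫ θ = eC.hom ≫ γ v := fun v => by
    conv_rhs => rw [hlx v, map_sum, Preadditive.comp_sum]
    rw [Preadditive.comp_sum]
    refine Finset.sum_congr rfl fun j _ => ?_
    rw [← Category.assoc, ← Functor.map_comp, ins_ev, Functor.map_smul, CategoryTheory.Functor.map_id,
      Linear.smul_comp, Category.id_comp, map_smul, Linear.comp_smul]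
  haveI : IsIso θ := isIso_of_locD θ fun q _ => by
    obtain ⟨π, hπ, hi⟩ := hm q
    haveI := hi
    haveI := isIso_locD_ins q C (hπ.equiv γ.symm)
    have h1 : (locD (φp q)).map (DerivedCategory.Q.map (ins C (γ.symm π))) ≫ (locD (φp q)).map θ =
        (locD (φp q)).map eC.hom ≫ (locD (φp q)).map π := by
      rw [← Functor.map_comp, hθ, γ.apply_symm_apply, Functor.map_comp]
    rw [(IsIso.eq_inv_comp _).2 h1]
    infer_instance
  exact ⟨P, inferInstance, inferInstance, inferInstance, -m, ⟨((shiftFunctorCompIsoId (Dual.D A) m (-m) (by lia)).app ω').symm ≪≫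
    (shiftFunctor (Dual.D A) (-m)).mapIso (asIso θ).symm ≪≫ (shiftFunctor (Dual.D A) (-m)).mapIso (mapTwIso P eC).symm⟩⟩

theorem twist_unique [Nontrivial A] {ω : Dual.D A} (hω : Dual.IsDualizing A ω) (P P' : Type u) [AddCommGroup P]
    [Module A P] [Module.Invertible A P] [AddCommGroup P'] [Module A P'] [Module.Invertible A P'] (n n' : ℤ)
    (h : ((DualFlat.twist A P).functor.mapDerivedCategory.obj ω)⟦n⟧ ≅
      ((DualFlat.twist A P').functor.mapDerivedCategory.obj ω)⟦n'⟧) : n = n' ∧ Nonempty (P ≃ₗ[A] P') := by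
  let C := DerivedCategory.Q.objPreimage ω
  let eC : DerivedCategory.Q.obj C ≅ ω := DerivedCategory.Q.objObjPreimageIso ω
  have hiso : ∀ (R : Type u) [AddCommGroup R] [Module A R] [Module.Invertible A R] (q : Ideal A) [q.IsPrime],
      ∃ v : R, IsGenAt q v ∧ IsIso ((locD (φp q)).map (insMap C eC v)) := fun R _ _ _ q _ => by
    obtain ⟨v, hv⟩ := exists_genAt_of_invertible (P := R) q
    haveI := isIso_locD_ins q C hv
    refine ⟨v, hv, ?_⟩
    show IsIso ((locD (φp q)).map (eC.inv ≫ DerivedCategory.Q.map (ins C v)))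
    rw [Functor.map_comp]
    infer_instance
  have hbij : ∀ (R : Type u) [AddCommGroup R] [Module A R] [Module.Invertible A R],
      Function.Bijective (insMap (P := R) C eC) := fun R _ _ _ => bijective_of_genAt _ fun q hq => by
    haveI := hq.isPrime
    obtain ⟨v, hv, hi⟩ := hiso R q
    haveI := hi
    exact ⟨v, hv, isGenAt_of_isIso q hω (isDualizing_tw R hω eC) _⟩
  have h' : (DerivedCategory.Q.obj (tw P C))⟦n⟧ ≅ (DerivedCategory.Q.obj (tw P' C))⟦n'⟧ :=
    (shiftFunctor (Dual.D A) n).mapIso (mapTwIso P eC).symm ≪≫ h ≪≫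
      (shiftFunctor (Dual.D A) n').mapIso (mapTwIso P' eC)
  have e : DerivedCategory.Q.obj (tw P C) ≅ (DerivedCategory.Q.obj (tw P' C))⟦n' - n⟧ :=
    ((shiftFunctorCompIsoId (Dual.D A) n (-n) (by lia)).app _).symm ≪≫ (shiftFunctor (Dual.D A) (-n)).mapIso h' ≪≫
      ((shiftFunctorAdd' (Dual.D A) n' (-n) (n' - n) (by lia)).app _).symm
  have hn : n = n' := by
    obtain ⟨q, hq⟩ := Ideal.exists_maximal A
    obtain ⟨v, -, hi⟩ := hiso P q
    obtain ⟨v', -, hi'⟩ := hiso P' q
    haveI := hi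
    haveI := hi'
    have hB := isDualizing_locD (φp q) q.primeCompl hω
    by_contra hne
    haveI := hB.ext_self_subsingleton (n' - n) (by lia)
    let j : (locD (φp q)).obj ω ≅ ((locD (φp q)).obj ω)⟦n' - n⟧ :=
      asIso ((locD (φp q)).map (insMap C eC v)) ≪≫ (locD (φp q)).mapIso e ≪≫
        ((locD (φp q)).commShiftIso (n' - n)).app _ ≪≫
        (shiftFunctor _ (n' - n)).mapIso (asIso ((locD (φp q)).map (insMap C eC v'))).symm
    have h0 : 𝟙 ((locD (φp q)).obj ω) = 0 := by
      rw [← j.hom_inv_id, Subsingleton.elim j.hom 0, zero_comp]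
    exact one_ne_zero (hB.toEnd_bijective.1 (show (1 : Localization.AtPrime q) • 𝟙 _ = (0 : Localization.AtPrime q) • 𝟙 _ by
      rw [one_smul, zero_smul, h0]))
  subst hn
  refine ⟨rfl, ⟨(LinearEquiv.ofBijective _ (hbij P)).trans ((Linear.homCongr A (Iso.refl ω) (e ≪≫ ?_)).trans
    (LinearEquiv.ofBijective _ (hbij P')).symm)⟩⟩
  exact (shiftFunctor (Dual.D A) (n - n)).mapIso (Iso.refl _) ≪≫
    (shiftFunctorZero' (Dual.D A) (n - n) (sub_self n)).app _

end

end Groth.Agent.DualCx.TwistU
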